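import Mathlib

set_option autoImplicit false

/-! COUNT sub-tree (helper14): arithmetic cancellation lemmas shared by the CQ-CNT* pieces. -/

namespace Cfsg.Agent.H25.Cq

/-- Cancel `∏_{j<m} q^j` in `N * ∏ (q^m - q^j) = ∏ q^j * X j`. -/
theorem cnt_cancel (q N m : ℕ) (hq0 : 0 < q) (X : ℕ → ℕ)
    (h : N * ∏ j ∈ Finset.range m, (q ^ m - q ^ j) = ∏ j ∈ Finset.range m, (q ^ j * X j)) :
    N * ∏ j ∈ Finset.range m, (q ^ (m - j) - 1) = ∏ j ∈ Finset.range m, X j := by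
  have hA : ∏ j ∈ Finset.range m, (q ^ m - q ^ j) =
      (∏ j ∈ Finset.range m, q ^ j) * ∏ j ∈ Finset.range m, (q ^ (m - j) - 1) := by
    rw [← Finset.prod_mul_distrib]
    refine Finset.prod_congr rfl ?_
    intro j hj
    have hj' : j < m := Finset.mem_range.mp hj
    rw [Nat.mul_sub, mul_one, ← pow_add]
    congr 2
    omega
  rw [hA, Finset.prod_mul_distrib] at h
  have hP : 0 < ∏ j ∈ Finset.range m, q ^ j :=
    Finset.prod_pos (fun j _ => pow_pos hq0 j)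
  have e3 : (∏ j ∈ Finset.range m, q ^ j) * (N * ∏ j ∈ Finset.range m, (q ^ (m - j) - 1)) =
      (∏ j ∈ Finset.range m, q ^ j) * ∏ j ∈ Finset.range m, X j := by
    rw [← h]
    ring
  exact Nat.eq_of_mul_eq_mul_left hP e3

/-- A prime dividing `N` divides one of the factors `X j`. -/
theorem cnt_factor (q N m r : ℕ) (hq0 : 0 < q) (X : ℕ → ℕ) (hr : r.Prime)
    (h : N * ∏ j ∈ Finset.range m, (q ^ m - q ^ j) = ∏ j ∈ Finset.range m, (q ^ j * X j))
    (hdvd : r ∣ N) : ∃ j, j < m ∧ r ∣ X j := by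
  have hc := cnt_cancel q N m hq0 X h
  have h3 : r ∣ ∏ j ∈ Finset.range m, X j := by
    rw [← hc]
    exact Dvd.dvd.mul_right hdvd _
  obtain ⟨j, hj, hjd⟩ := (Prime.dvd_finsetProd_iff hr.prime _).mp h3
  exact ⟨j, Finset.mem_range.mp hj, hjd⟩

/-- The characteristic divides the order of the field. -/
theorem cnt_char_dvd (F : Type*) [Field F] [Fintype F] (p : ℕ) [Fact p.Prime] [CharP F p] :
    p ∣ Fintype.card F := by
  obtain ⟨n, _, hn⟩ := FiniteField.card F p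
  rw [hn]
  exact dvd_pow_self p n.pos.ne'

/-- `p ∣ q` does not divide `q^e + 1`. -/
theorem cnt_not_dvd_add (p q e : ℕ) (hp : p.Prime) (hpq : p ∣ q) (he : 1 ≤ e) :
    ¬ p ∣ q ^ e + 1 := by
  intro h
  have hpe : p ∣ q ^ e := Dvd.dvd.trans hpq (dvd_pow_self _ (by omega))
  have h1 : p ∣ 1 := (Nat.dvd_add_right hpe).1 h
  exact hp.one_lt.ne' (Nat.dvd_one.mp h1)

/-- `p ∣ q` does not divide `q^e - 1`. -/
theorem cnt_not_dvd_sub (p q e : ℕ) (hp : p.Prime) (hpq : p ∣ q) (hq0 : 0 < q) (he : 1 ≤ e) :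
    ¬ p ∣ q ^ e - 1 := by
  intro h
  have hpe : p ∣ q ^ e := Dvd.dvd.trans hpq (dvd_pow_self _ (by omega))
  have hpos : 0 < q ^ e := pow_pos hq0 _
  have h1 : p ∣ 1 := by
    have := Nat.dvd_sub hpe h
    rwa [Nat.sub_sub_self hpos] at this
  exact hp.one_lt.ne' (Nat.dvd_one.mp h1)

end Cfsg.Agent.H25.Cq
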