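import Mathlib
import Cfsg.Agent.H14.CqDefs
import Cfsg.Agent.H25.CqCntBase

set_option autoImplicit false

/-! COUNT sub-tree (helper14), piece CQ-CNTM: a prime dividing the number of totally singular
`m`-spaces of the minus space divides `q^(k+1-j) + 1` or `q^(k-j) - 1` for some `j < m`. -/

namespace Cfsg.Agent.H25.Cq

open Cfsg.Agent.H77.Tq Cfsg.Agent.H77.Tm Cfsg.Agent.H14.Cq Module

universe u

theorem cntM (hC : StCardM.{u}) : Cfsg.Agent.H77.Tm.StCnt.{u} := by
  intro F _ _ p _ _ k a b m r hab hm hr _ hdvd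
  have hq0 : 0 < Fintype.card F := Fintype.card_pos
  obtain ⟨j, hj, hjd⟩ := cnt_factor (Fintype.card F) (NM F k a b m) m r hq0
    (fun j => (Fintype.card F ^ (k + 1 - j) + 1) * (Fintype.card F ^ (k - j) - 1)) hr
    (hC F k a b m hab hm) hdvd
  exact ⟨j, hj, (Nat.Prime.dvd_mul hr).1 hjd⟩

example (hC : StCardM.{u}) : Cfsg.Agent.H77.Tm.StCnt.{u} := cntM hC

end Cfsg.Agent.H25.Cq
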