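import Mathlib
import Cfsg.Agent.H14.CqDefs
import Cfsg.Agent.H25.CqCntBase

set_option autoImplicit false

/-! COUNT sub-tree (helper14), piece CQ-CNTPP: the number of totally singular `m`-spaces of the
plus space, `m < d`, is prime to the characteristic. -/

namespace Cfsg.Agent.H25.Cq

open Cfsg.Agent.H77.Tq Cfsg.Agent.H77.Tm Cfsg.Agent.H14.Cq Module

universe u

theorem cntPP (hC : StCardP.{u}) : StCntPP.{u} := by
  intro F _ _ p _ _ d m hm hdvd
  have hp : p.Prime := Fact.out
  have hq0 : 0 < Fintype.card F := Fintype.card_pos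
  have hpq := cnt_char_dvd F p
  obtain ⟨j, hj, hjd⟩ := cnt_factor (Fintype.card F) (NP F d m) m p hq0
    (fun j => (Fintype.card F ^ (d - j) - 1) * (Fintype.card F ^ (d - 1 - j) + 1)) hp
    (hC F d m hm.le) hdvd
  rcases (Nat.Prime.dvd_mul hp).1 hjd with h | h
  · exact cnt_not_dvd_sub p _ _ hp hpq hq0 (by omega) h
  · exact cnt_not_dvd_add p _ _ hp hpq (by omega) h

example (hC : StCardP.{u}) : StCntPP.{u} := cntPP hC

end Cfsg.Agent.H25.Cq
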