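import Mathlib

/-!
helper25: generation criteria for normality / commutator containment, central involutions
in normal subgroups of 2-groups.
-/

set_option autoImplicit false

namespace Cfsg.Agent.H25

universe u

section Tau1

variable {S : Type u} [Group S]

theorem comm_iff_conj_one (u v : S) : u * v * u⁻¹ * v⁻¹ = 1 ↔ v * u = u * v := by
  constructor
  · intro h
    calc v * u = (u * v * u⁻¹ * v⁻¹)⁻¹ * (u * v) := by group
      _ = u * v := by rw [h, inv_one, one_mul]
  · intro h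
    calc u * v * u⁻¹ * v⁻¹ = (v * u) * u⁻¹ * v⁻¹ := by rw [h]
      _ = 1 := by group

theorem comm_quot_of_closure (N : Subgroup S) [N.Normal] (T : Set S)
    (hT : Subgroup.closure T = ⊤) (h : ∀ x ∈ T, ∀ y ∈ T, x * y * x⁻¹ * y⁻¹ ∈ N) :
    ∀ a b : S, a * b * a⁻¹ * b⁻¹ ∈ N := by
  have key : ∀ x y : S, x * y * x⁻¹ * y⁻¹ ∈ N ↔ (y : S ⧸ N) * (x : S ⧸ N) = x * y := by
    intro x y
    rw [← QuotientGroup.eq_one_iff]
    simp only [QuotientGroup.mk_mul, QuotientGroup.mk_inv]
    exact comm_iff_conj_one _ _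
  have h1 : ∀ x ∈ T, ∀ g : S, (g : S ⧸ N) * (x : S ⧸ N) = x * g := by
    intro x hx g
    have hle : Subgroup.closure T ≤
        (Subgroup.centralizer {(x : S ⧸ N)}).comap (QuotientGroup.mk' N) := by
      rw [Subgroup.closure_le]
      intro y hy
      rw [SetLike.mem_coe, Subgroup.mem_comap, Subgroup.mem_centralizer_singleton_iff]
      exact (key x y).mp (h x hx y hy)
    have hg := hle (hT ▸ Subgroup.mem_top g)
    rwa [Subgroup.mem_comap, Subgroup.mem_centralizer_singleton_iff] at hg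
  have h2 : ∀ g g' : S, (g' : S ⧸ N) * (g : S ⧸ N) = g * g' := by
    intro g g'
    have hle : Subgroup.closure T ≤
        (Subgroup.centralizer {(g' : S ⧸ N)}).comap (QuotientGroup.mk' N) := by
      rw [Subgroup.closure_le]
      intro y hy
      rw [SetLike.mem_coe, Subgroup.mem_comap, Subgroup.mem_centralizer_singleton_iff]
      exact (h1 y hy g').symm
    have hg := hle (hT ▸ Subgroup.mem_top g)
    rw [Subgroup.mem_comap, Subgroup.mem_centralizer_singleton_iff] at hg
    exact hg.symm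
  intro a b
  exact (key a b).mpr (h2 a b)

theorem commutator_le_of_closure (N : Subgroup S) [N.Normal] (T : Set S)
    (hT : Subgroup.closure T = ⊤) (h : ∀ x ∈ T, ∀ y ∈ T, x * y * x⁻¹ * y⁻¹ ∈ N) :
    commutator S ≤ N := by
  rw [commutator_eq_closure, Subgroup.closure_le]
  rintro _ ⟨a, b, rfl⟩
  rw [SetLike.mem_coe, commutatorElement_def]
  exact comm_quot_of_closure N T hT h a b

theorem commutator_eq_bot_of_comm (h : ∀ a b : S, a * b = b * a) : commutator S = ⊥ := by
  rw [eq_bot_iff, commutator_eq_closure, Subgroup.closure_le]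
  rintro _ ⟨a, b, rfl⟩
  rw [SetLike.mem_coe, Subgroup.mem_bot, commutatorElement_def, h a b]
  group

theorem orderOf_conj' (g t : S) : orderOf (g * t * g⁻¹) = orderOf t := by
  have := (MulAut.conj g).orderOf_eq t
  simpa using this

theorem conj_inv_mem_zpowers [Finite S] {g x : S} (h : g * x * g⁻¹ ∈ Subgroup.zpowers x) :
    g⁻¹ * x * g ∈ Subgroup.zpowers x := by
  have h1 : Subgroup.zpowers (g * x * g⁻¹) = Subgroup.zpowers x := by
    apply Subgroup.eq_of_le_of_card_ge (Subgroup.zpowers_le.mpr h)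
    rw [Nat.card_zpowers, Nat.card_zpowers, orderOf_conj']
  have h2 : x ∈ Subgroup.zpowers (g * x * g⁻¹) := h1 ▸ Subgroup.mem_zpowers x
  obtain ⟨j, hj⟩ := Subgroup.mem_zpowers_iff.mp h2
  rw [conj_zpow] at hj
  have : g⁻¹ * x * g = x ^ j := by
    have h3 : x ^ j = g⁻¹ * (g * x ^ j * g⁻¹) * g := by group
    rw [h3, hj]
  rw [this]; exact Subgroup.zpow_mem_zpowers x j

theorem zpowers_normal_of_closure [Finite S] (x : S) (T : Set S)
    (hT : Subgroup.closure T = ⊤)
    (h : ∀ g ∈ T, g * x * g⁻¹ ∈ Subgroup.zpowers x) :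
    (Subgroup.zpowers x).Normal := by
  rw [← Subgroup.normalizer_eq_top_iff, eq_top_iff, ← hT, Subgroup.closure_le]
  intro g hg
  rw [SetLike.mem_coe, Subgroup.mem_normalizer_iff]
  intro y
  constructor
  · intro hy
    obtain ⟨e, rfl⟩ := Subgroup.mem_zpowers_iff.mp hy
    have : g * x ^ e * g⁻¹ = (g * x * g⁻¹) ^ e := by rw [conj_zpow]
    rw [this]; exact Subgroup.zpow_mem _ (h g hg) e
  · intro hy
    obtain ⟨e, he⟩ := Subgroup.mem_zpowers_iff.mp hy
    have h3 : (g⁻¹ * x * g) ^ e = g⁻¹ * x ^ e * g := by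
      have := conj_zpow (a := g⁻¹) (b := x) (i := e)
      simpa using this
    have : y = (g⁻¹ * x * g) ^ e := by
      rw [h3, he]; group
    rw [this]; exact Subgroup.zpow_mem _ (conj_inv_mem_zpowers (h g hg)) e

theorem card_le_of_commutators [Finite S] (x : S) (T : Set S)
    (hT : Subgroup.closure T = ⊤)
    (hn : ∀ g ∈ T, g * x * g⁻¹ ∈ Subgroup.zpowers x)
    (hc : ∀ g ∈ T, ∀ h ∈ T, g * h * g⁻¹ * h⁻¹ ∈ Subgroup.zpowers x)
    (h4 : (commutator S).index = 4) : Nat.card S ≤ 4 * orderOf x := by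
  have := zpowers_normal_of_closure x T hT hn
  have hle := commutator_le_of_closure (Subgroup.zpowers x) T hT hc
  have h1 := Subgroup.card_mul_index (commutator S)
  rw [h4] at h1
  have h2 : Nat.card (commutator S) ≤ Nat.card (Subgroup.zpowers x) :=
    Subgroup.card_le_of_le hle
  rw [Nat.card_zpowers] at h2
  omega

theorem exists_central_invol [Finite S] (h2 : IsPGroup 2 S) (N : Subgroup S) [N.Normal]
    (hN : N ≠ ⊥) : ∃ z ∈ N, z ∈ Subgroup.center S ∧ orderOf z = 2 := by
  have : Fact (Nat.Prime 2) := ⟨Nat.prime_two⟩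
  have hpN : 2 ∣ Nat.card N := by
    have hN' : IsPGroup 2 N := h2.to_subgroup N
    obtain ⟨n, hn⟩ := IsPGroup.iff_card.mp hN'
    have hn0 : n ≠ 0 := by
      rintro rfl
      rw [pow_zero] at hn
      exact hN (Subgroup.card_eq_one.mp hn)
    rw [hn]; exact dvd_pow_self 2 hn0
  have h1 : (1 : N) ∈ MulAction.fixedPoints (ConjAct S) N := by
    intro g; exact smul_one g
  obtain ⟨b, hb, hb1⟩ :=
    (h2.of_equiv ConjAct.toConjAct).exists_fixed_point_of_prime_dvd_card_of_fixed_point N hpN h1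
  have hbZ : (b : S) ∈ Subgroup.center S := by
    rw [Subgroup.mem_center_iff]; intro g
    have h3 := hb (ConjAct.toConjAct g)
    have h4 := congrArg (fun x : N => (x : S)) h3
    simp only [ConjAct.Subgroup.val_conj_smul, ConjAct.toConjAct_smul] at h4
    calc g * (b : S) = (g * (b : S) * g⁻¹) * g := by group
      _ = (b : S) * g := by rw [h4]
  have hb1' : (b : S) ≠ 1 := by
    intro h; apply hb1; exact (Subtype.ext h).symm
  obtain ⟨k, hk⟩ := (IsPGroup.iff_orderOf.mp h2) (b : S)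
  have hk0 : k ≠ 0 := by
    rintro rfl
    rw [pow_zero, orderOf_eq_one_iff] at hk
    exact hb1' hk
  refine ⟨(b : S) ^ 2 ^ (k - 1), N.pow_mem b.2 _, Subgroup.pow_mem _ hbZ _, ?_⟩
  rw [orderOf_pow' (b : S) (by positivity : 2 ^ (k - 1) ≠ 0), hk,
    Nat.gcd_eq_right (pow_dvd_pow 2 (Nat.sub_le k 1)), Nat.pow_div (Nat.sub_le k 1) (by norm_num)]
  have : k - (k - 1) = 1 := by omega
  rw [this, pow_one]

end Tau1

end Cfsg.Agent.H25
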