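import Mathlib
import Cfsg.Agent.H25.AutP
import Cfsg.Agent.H25.Tau1

/-!
helper25: `Aut(X)` is a 2-group when `X` has a cyclic 2-subgroup of index 2 all of whose
outside elements have smaller order.
-/

set_option autoImplicit false

namespace Cfsg.Agent.H25

theorem aut_two_of_small_outside {X : Type*} [Group X] [Finite X] (a b : X) (N r : ℕ)
    (hx : orderOf a = 2 ^ N) (hb : b ∉ Subgroup.zpowers a)
    (hidx : (Subgroup.zpowers a).index = 2)
    (hr : ∀ g : X, g ∉ Subgroup.zpowers a → g ^ r = 1) (hnr : ¬ (2 ^ N ∣ r)) :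
    IsPGroup 2 (MulAut X) := by
  apply aut_isPGroup_two a b N hx
  · intro α
    by_contra hcon
    have hout : α a ∉ Subgroup.zpowers a := by
      intro hmem
      obtain ⟨k, hk⟩ := Subgroup.mem_zpowers_iff.mp hmem
      exact hcon ⟨k, hk.symm⟩
    have h1 := hr _ hout
    rw [← map_pow] at h1
    have h2 : a ^ r = 1 := by
      have h3 : α (a ^ r) = α 1 := by rw [h1, map_one]
      exact α.injective h3
    apply hnr
    rw [← hx]
    exact orderOf_dvd_of_pow_eq_one h2
  · exact hb
  · intro g
    by_cases hg : g ∈ Subgroup.zpowers a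
    · exact Or.inl hg
    · right
      rw [Subgroup.mul_mem_iff_of_index_two hidx]
      exact iff_of_false hg (fun h' => hb (by simpa using inv_mem h'))

theorem comm_of_commutator_eq_bot {S : Type*} [Group S] (h : commutator S = ⊥) (x y : S) :
    x * y = y * x := by
  have hmem : x * y * x⁻¹ * y⁻¹ ∈ commutator S := by
    rw [commutator_eq_closure]
    exact Subgroup.subset_closure ⟨x, y, commutatorElement_def x y⟩
  rw [h, Subgroup.mem_bot] at hmem
  exact ((comm_iff_conj_one x y).mp hmem).symm

end Cfsg.Agent.H25
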