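import Mathlib
import Cfsg.Agent.H25.Tau4
import Cfsg.Agent.H39.Quat

/-!
# helper25: self-centralizing normal subgroups of dihedral and semidihedral 2-groups

`DQ T x m` abstracts a dihedral or semidihedral subgroup `T` with cyclic maximal subgroup `⟨x⟩`
of order `2^m`.  A normal self-centralizing proper subgroup `Q` of `T` with `Aut(Q)` not a
2-group is a four-group (`m = 2`) or a quaternion group of order 8 (`m = 3`).
-/

set_option autoImplicit false

namespace Cfsg.Agent.H25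

/-- dihedral/semidihedral-like data for a subgroup `T` with cyclic maximal subgroup `⟨x⟩`. -/
structure DQ {G : Type*} [Group G] (T : Subgroup G) (x : G) (m : ℕ) : Prop where
  xT : x ∈ T
  ord : orderOf x = 2 ^ m
  prod : ∀ s ∈ T, ∀ t ∈ T, s ∉ Subgroup.zpowers x → t ∉ Subgroup.zpowers x →
    s * t ∈ Subgroup.zpowers x
  comm : ∀ u ∈ T, u ∉ Subgroup.zpowers x → x ^ 2 ∈ Subgroup.zpowers (x * u * x⁻¹ * u⁻¹)
  inv : ∀ u ∈ T, u ∉ Subgroup.zpowers x → u * x ^ 2 * u⁻¹ = (x ^ 2)⁻¹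
  sq : ∀ u ∈ T, u ∉ Subgroup.zpowers x → u ^ 2 = 1 ∨ (3 ≤ m ∧ u ^ 2 = x ^ 2 ^ (m - 1))

theorem coe_mem_zpowers_iff {G : Type*} [Group G] {H : Subgroup G} (y q : H) :
    q ∈ Subgroup.zpowers y ↔ (q : G) ∈ Subgroup.zpowers (y : G) := by
  rw [Subgroup.mem_zpowers_iff, Subgroup.mem_zpowers_iff]
  constructor
  · rintro ⟨k, hk⟩
    exact ⟨k, by rw [← hk]; simp⟩
  · rintro ⟨k, hk⟩
    refine ⟨k, Subtype.ext ?_⟩
    rw [← hk]; simp

theorem isPGroup_mulAut_of_cyclic {X : Type*} [Group X] [Finite X] [IsCyclic X] (k : ℕ)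
    (hc : Nat.card X = 2 ^ k) : IsPGroup 2 (MulAut X) := by
  have : Fact (Nat.Prime 2) := ⟨Nat.prime_two⟩
  have h1 : Nat.card (MulAut X) = Nat.totient (Nat.card X) := IsCyclic.card_mulAut (G := X)
  rw [hc] at h1
  rcases Nat.eq_zero_or_pos k with h0 | h0
  · rw [h0, pow_zero, Nat.totient_one] at h1
    exact IsPGroup.of_card (n := 0) (by rw [h1, pow_zero])
  · rw [Nat.totient_prime_pow Nat.prime_two h0] at h1
    exact IsPGroup.of_card (n := k - 1) (by rw [h1]; norm_num)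

theorem DQ.normal_sub {G : Type*} [Group G] [Finite G] {T Q : Subgroup G} {x : G} {m : ℕ}
    (h : DQ T x m) (hm : 2 ≤ m) (hQT : Q ≤ T) (hQne : Q ≠ T)
    (hnorm : ∀ t ∈ T, ∀ q ∈ Q, t * q * t⁻¹ ∈ Q)
    (hC : ∀ t ∈ T, (∀ q ∈ Q, t * q = q * t) → t ∈ Q)
    (hA : ¬ IsPGroup 2 (MulAut Q)) :
    (m = 2 ∧ x ^ 2 ∈ Q ∧ ∃ u ∈ Q, u ∉ Subgroup.zpowers x ∧
        ∀ q ∈ Q, q = 1 ∨ q = x ^ 2 ∨ q = u ∨ q = x ^ 2 * u) ∨
      (m = 3 ∧ Nat.card Q = 8 ∧ H39.QIface Q (x ^ 2) (x ^ 4)) := by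
  -- step 1: an element of `Q` outside `⟨x⟩`
  obtain ⟨u, huQ, hux⟩ : ∃ u ∈ Q, u ∉ Subgroup.zpowers x := by
    by_contra hcon
    push Not at hcon
    have hxQ : x ∈ Q := by
      apply hC x h.xT
      intro q hq
      obtain ⟨k, rfl⟩ := Subgroup.mem_zpowers_iff.mp (hcon q hq)
      exact ((Commute.refl x).zpow_right k).eq
    have hQeq : Q = Subgroup.zpowers x :=
      le_antisymm hcon ((Subgroup.zpowers_le).mpr hxQ)
    subst hQeq
    apply hA
    apply isPGroup_mulAut_of_cyclic m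
    rw [Nat.card_zpowers, h.ord]
  have hx2Q : x ^ 2 ∈ Q := by
    have hc : x * u * x⁻¹ * u⁻¹ ∈ Q := Q.mul_mem (hnorm x h.xT u huQ) (Q.inv_mem huQ)
    exact ((Subgroup.zpowers_le).mpr hc) (h.comm u (hQT huQ) hux)
  have hxQ : x ∉ Q := by
    intro hxQ
    apply hQne
    refine le_antisymm hQT (fun t ht => ?_)
    by_cases htx : t ∈ Subgroup.zpowers x
    · exact ((Subgroup.zpowers_le).mpr hxQ) htx
    · have h1 : t * u ∈ Q := ((Subgroup.zpowers_le).mpr hxQ) (h.prod t ht u (hQT huQ) htx hux)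
      have h2 : t = t * u * u⁻¹ := by group
      rw [h2]; exact Q.mul_mem h1 (Q.inv_mem huQ)
  have hle2 : Subgroup.zpowers (x ^ 2) ≤ Subgroup.zpowers x :=
    (Subgroup.zpowers_le).mpr (Subgroup.pow_mem _ (Subgroup.mem_zpowers x) 2)
  have hin : ∀ q ∈ Q, q ∈ Subgroup.zpowers x → q ∈ Subgroup.zpowers (x ^ 2) := by
    intro q hq hqx
    obtain ⟨k, rfl⟩ := Subgroup.mem_zpowers_iff.mp hqx
    obtain ⟨j, rfl | rfl⟩ := Int.even_or_odd' k
    · rw [zpow_mul, zpow_ofNat]; exact Subgroup.zpow_mem_zpowers _ j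
    · exfalso
      apply hxQ
      have h1 : x = x ^ (2 * j + 1) * ((x ^ 2) ^ j)⁻¹ := by
        rw [zpow_add, zpow_mul, zpow_ofNat, zpow_one]; group
      rw [h1]; exact Q.mul_mem hq (Q.inv_mem (Q.zpow_mem hx2Q j))
  have hout : ∀ q ∈ Q, q ∉ Subgroup.zpowers x → ∀ v ∈ Q, v ∉ Subgroup.zpowers x →
      q * v ∈ Subgroup.zpowers (x ^ 2) := by
    intro q hq hqx v hv hvx
    exact hin _ (Q.mul_mem hq hv) (h.prod q (hQT hq) v (hQT hv) hqx hvx)
  have huix : u⁻¹ ∉ Subgroup.zpowers x := fun hh => hux (by simpa using inv_mem hh)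
  have hsqeq : ∀ q ∈ Q, q ∉ Subgroup.zpowers x → q ^ 2 = u ^ 2 := by
    intro q hq hqx
    obtain ⟨k, hk⟩ := Subgroup.mem_zpowers_iff.mp (hout q hq hqx u⁻¹ (Q.inv_mem huQ) huix)
    have hq' : q = (x ^ 2) ^ k * u := by rw [hk]; group
    have hconj : u * (x ^ 2) ^ k * u⁻¹ = ((x ^ 2) ^ k)⁻¹ := by
      rw [← conj_zpow, h.inv u (hQT huQ) hux, inv_zpow]
    calc q ^ 2 = (x ^ 2) ^ k * (u * (x ^ 2) ^ k * u⁻¹) * u ^ 2 := by
          rw [hq', pow_two, pow_two]; group
      _ = u ^ 2 := by rw [hconj, mul_inv_cancel, one_mul]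
  -- the group `Q`
  obtain ⟨a', ha'⟩ : ∃ a' : Q, a' = ⟨x ^ 2, hx2Q⟩ := ⟨_, rfl⟩
  obtain ⟨u', hu'⟩ : ∃ u' : Q, u' = ⟨u, huQ⟩ := ⟨_, rfl⟩
  have hmem' : ∀ q : Q, q ∈ Subgroup.zpowers a' ↔ (q : G) ∈ Subgroup.zpowers (x ^ 2) := by
    intro q
    rw [coe_mem_zpowers_iff, ha']
  have hm1 : m = (m - 1) + 1 := by omega
  have horda : orderOf a' = 2 ^ (m - 1) := by
    rw [ha', ← Subgroup.orderOf_coe]
    change orderOf (x ^ 2) = 2 ^ (m - 1)
    rw [orderOf_pow' x (by norm_num), h.ord]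
    have h2 : Nat.gcd (2 ^ m) 2 = 2 := by
      rw [hm1, pow_succ]; exact Nat.gcd_mul_left_left _ _
    rw [h2]
    nth_rewrite 1 [hm1]
    rw [pow_succ, Nat.mul_div_cancel _ (by norm_num : 0 < 2)]
  have hu'not : u' ∉ Subgroup.zpowers a' := by
    rw [hmem', hu']
    exact fun hh => hux (hle2 hh)
  have hcases : ∀ q : Q, q ∈ Subgroup.zpowers a' ∨ q * u'⁻¹ ∈ Subgroup.zpowers a' := by
    intro q
    by_cases hqx : (q : G) ∈ Subgroup.zpowers x
    · left; rw [hmem']; exact hin _ q.2 hqx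
    · right; rw [hmem', hu']; exact hout _ q.2 hqx u⁻¹ (Q.inv_mem huQ) huix
  have hidx : (Subgroup.zpowers a').index = 2 := by
    rw [Subgroup.index_eq_two_iff]
    refine ⟨u'⁻¹, fun b => ?_⟩
    by_cases hb : b ∈ Subgroup.zpowers a'
    · refine Or.inr ⟨hb, fun hh => hu'not ?_⟩
      have h1 : u' = (b * u'⁻¹)⁻¹ * b := by group
      rw [h1]; exact Subgroup.mul_mem _ (Subgroup.inv_mem _ hh) hb
    · exact Or.inl ⟨(hcases b).resolve_left hb, hb⟩
  have hsq' : ∀ q : Q, q ∉ Subgroup.zpowers a' → (q : G) ^ 2 = u ^ 2 := by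
    intro q hq
    apply hsqeq _ q.2
    intro hqx
    exact hq ((hmem' q).mpr (hin _ q.2 hqx))
  have hcardQ : Nat.card Q = 2 ^ (m - 1) * 2 := by
    rw [← Subgroup.card_mul_index (Subgroup.zpowers a'), hidx, Nat.card_zpowers, horda]
  rcases h.sq u (hQT huQ) hux with hu2 | ⟨hm3, hu2⟩
  · -- dihedral-like
    left
    have hm2 : m = 2 := by
      by_contra hne
      apply hA
      apply aut_two_of_small_outside a' u' (m - 1) 2 horda hu'not hidx
      · intro q hq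
        apply Subtype.ext
        have := hsq' q hq
        rw [hu2] at this
        simpa using this
      · intro hdvd
        have h4 : 2 ^ 2 ≤ 2 ^ (m - 1) := Nat.pow_le_pow_right (by norm_num) (by omega)
        have := Nat.le_of_dvd (by norm_num) hdvd
        omega
    refine ⟨hm2, hx2Q, u, huQ, hux, ?_⟩
    have hx4 : (x ^ 2) ^ 2 = 1 := by
      rw [← pow_mul]
      have := pow_orderOf_eq_one x
      rw [h.ord, hm2] at this
      exact this
    have hz : ∀ k : ℤ, (x ^ 2) ^ k = 1 ∨ (x ^ 2) ^ k = x ^ 2 := by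
      intro k
      obtain ⟨j, rfl | rfl⟩ := Int.even_or_odd' k
      · left; rw [zpow_mul, zpow_ofNat, hx4, one_zpow]
      · right; rw [zpow_add, zpow_mul, zpow_ofNat, hx4, one_zpow, one_mul, zpow_one]
    intro q hq
    by_cases hqx : q ∈ Subgroup.zpowers x
    · obtain ⟨k, rfl⟩ := Subgroup.mem_zpowers_iff.mp (hin q hq hqx)
      rcases hz k with e | e
      · exact Or.inl e
      · exact Or.inr (Or.inl e)
    · obtain ⟨k, hk⟩ := Subgroup.mem_zpowers_iff.mp (hout q hq hqx u⁻¹ (Q.inv_mem huQ) huix)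
      have hq' : q = (x ^ 2) ^ k * u := by rw [hk]; group
      rcases hz k with e | e
      · right; right; left; rw [hq', e, one_mul]
      · right; right; right; rw [hq', e]
  · -- quaternion-like
    right
    have hz2 : (u ^ 2) ^ 2 = 1 := by
      rw [hu2, ← pow_mul, ← pow_succ, ← hm1, ← h.ord, pow_orderOf_eq_one]
    have hm3' : m = 3 := by
      by_contra hne
      apply hA
      apply aut_two_of_small_outside a' u' (m - 1) 4 horda hu'not hidx
      · intro q hq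
        apply Subtype.ext
        have := hsq' q hq
        have h4 : (q : G) ^ 4 = 1 := by
          rw [show 4 = 2 * 2 from rfl, pow_mul, this, hz2]
        simpa using h4
      · intro hdvd
        have h4 : 2 ^ 3 ≤ 2 ^ (m - 1) := Nat.pow_le_pow_right (by norm_num) (by omega)
        have := Nat.le_of_dvd (by norm_num) hdvd
        omega
    subst hm3'
    have hox : orderOf x = 8 := by rw [h.ord]; norm_num
    have hu2' : u ^ 2 = x ^ 4 := by rw [hu2]; norm_num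
    have hx8 : x ^ 8 = 1 := by rw [← hox]; exact pow_orderOf_eq_one x
    have hx4ne : x ^ 4 ≠ 1 := pow_ne_one_of_lt_orderOf (by norm_num) (by rw [hox]; norm_num)
    refine ⟨rfl, by rw [hcardQ]; norm_num, ⟨hx4ne, ?_, ?_, ?_, ?_⟩⟩
    · rw [← pow_mul]; exact hx8
    · intro t ht ht2
      by_cases htx : t ∈ Subgroup.zpowers x
      · obtain ⟨i, rfl⟩ := Subgroup.mem_zpowers_iff.mp htx
        have h1 : x ^ (i * 2) = 1 := by rw [zpow_mul, zpow_ofNat]; exact ht2
        have h2 : ((orderOf x : ℕ) : ℤ) ∣ i * 2 := orderOf_dvd_iff_zpow_eq_one.mpr h1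
        rw [hox] at h2
        obtain ⟨c, hc⟩ := h2
        have hi : i = 4 * c := by push_cast at hc; omega
        obtain ⟨l, rfl | rfl⟩ := Int.even_or_odd' c
        · left
          rw [hi, show (4 : ℤ) * (2 * l) = 8 * l by ring, zpow_mul, zpow_ofNat, hx8, one_zpow]
        · right
          rw [hi, show (4 : ℤ) * (2 * l + 1) = 8 * l + 4 by ring, zpow_add, zpow_mul, zpow_ofNat,
            hx8, one_zpow, one_mul, zpow_ofNat]
      · exfalso
        apply hx4ne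
        rw [← hu2', ← hsqeq t ht htx, ht2]
    · intro t ht htx2
      have htx : t ∉ Subgroup.zpowers x := fun hh => htx2 (hin t ht hh)
      rw [hsqeq t ht htx, hu2']
    · intro s hs t ht hsx2 htx2
      have hsx : s⁻¹ ∉ Subgroup.zpowers x := by
        intro hh
        apply hsx2
        have := hin _ (Q.inv_mem hs) hh
        simpa using inv_mem this
      have htx : t ∉ Subgroup.zpowers x := fun hh => htx2 (hin t ht hh)
      exact hout _ (Q.inv_mem hs) hsx t ht htx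

end Cfsg.Agent.H25
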