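import Mathlib
import Cfsg.Agent.H25.DQ
import Cfsg.Agent.H25.QD5

/-!
# helper25: dihedral and semidihedral 2-groups satisfy `DQ`
-/

set_option autoImplicit false

namespace Cfsg.Agent.H25

theorem DQ.map {G H : Type*} [Group G] [Group H] {T : Subgroup G} {x : G} {m : ℕ}
    (h : DQ T x m) (f : G →* H) (hf : Function.Injective f) : DQ (T.map f) (f x) m := by
  have key : ∀ s : G, f s ∈ Subgroup.zpowers (f x) ↔ s ∈ Subgroup.zpowers x := by
    intro s
    rw [Subgroup.mem_zpowers_iff, Subgroup.mem_zpowers_iff]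
    constructor
    · rintro ⟨k, hk⟩
      exact ⟨k, hf (by rw [map_zpow, hk])⟩
    · rintro ⟨k, hk⟩
      exact ⟨k, by rw [← hk, map_zpow]⟩
  refine ⟨Subgroup.mem_map_of_mem f h.xT, ?_, ?_, ?_, ?_, ?_⟩
  · rw [orderOf_injective f hf, h.ord]
  · rintro _ ⟨s, hs, rfl⟩ _ ⟨t, ht, rfl⟩ hsx htx
    rw [← map_mul, key]
    exact h.prod s hs t ht (fun hh => hsx ((key s).mpr hh)) (fun hh => htx ((key t).mpr hh))
  · rintro _ ⟨u, hu, rfl⟩ hux
    have h1 := h.comm u hu (fun hh => hux ((key u).mpr hh))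
    have h2 : f x * f u * (f x)⁻¹ * (f u)⁻¹ = f (x * u * x⁻¹ * u⁻¹) := by
      simp only [map_mul, map_inv]
    rw [h2, ← map_pow, ← MonoidHom.map_zpowers]
    exact Subgroup.mem_map_of_mem f h1
  · rintro _ ⟨u, hu, rfl⟩ hux
    have h1 := h.inv u hu (fun hh => hux ((key u).mpr hh))
    rw [← map_pow, ← map_inv, ← map_inv, ← map_mul, ← map_mul, h1]
  · rintro _ ⟨u, hu, rfl⟩ hux
    rcases h.sq u hu (fun hh => hux ((key u).mpr hh)) with h1 | ⟨hm, h1⟩
    · left; rw [← map_pow, h1, map_one]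
    · right; exact ⟨hm, by rw [← map_pow, h1, map_pow]⟩

/-- transfer from the subgroup as a type to the subgroup. -/
theorem DQ.of_top {G : Type*} [Group G] {T : Subgroup G} {x : T} {m : ℕ}
    (h : DQ (⊤ : Subgroup T) x m) : DQ T (x : G) m := by
  have h1 := h.map T.subtype T.subtype_injective
  have h2 : (⊤ : Subgroup T).map T.subtype = T := by
    rw [← MonoidHom.range_eq_map, Subgroup.range_subtype]
  rw [h2] at h1
  exact h1

theorem dq_dihedral {S : Type*} [Group S] (n m : ℕ) (hn : n = 2 ^ m) (e : S ≃* DihedralGroup n) :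
    DQ (⊤ : Subgroup S) (e.symm (DihedralGroup.r 1)) m := by
  have : NeZero n := ⟨by rw [hn]; positivity⟩
  have hmem : ∀ (g : S) (i : ZMod n), e g = DihedralGroup.r i →
      g ∈ Subgroup.zpowers (e.symm (DihedralGroup.r 1)) := by
    intro g i hg
    have hgi : g = (e.symm (DihedralGroup.r 1)) ^ (i.val) := by
      apply e.injective
      rw [map_pow, e.apply_symm_apply, DihedralGroup.r_one_pow, hg, ZMod.natCast_zmod_val]
    rw [hgi]; exact Subgroup.pow_mem _ (Subgroup.mem_zpowers _) _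
  have hnot : ∀ (g : S), g ∉ Subgroup.zpowers (e.symm (DihedralGroup.r 1)) →
      ∃ i : ZMod n, e g = DihedralGroup.sr i := by
    intro g hg
    rcases hcase : e g with i | i
    · exact absurd (hmem g i hcase) hg
    · exact ⟨i, rfl⟩
  have hinv : ∀ i : ZMod n, (DihedralGroup.sr i)⁻¹ = DihedralGroup.sr i := fun i => rfl
  have hinvr : ∀ i : ZMod n, (DihedralGroup.r i)⁻¹ = DihedralGroup.r (-i) := fun i => rfl
  have hr2 : (DihedralGroup.r (1 : ZMod n)) ^ 2 = DihedralGroup.r 2 := by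
    rw [pow_two, DihedralGroup.r_mul_r]; congr 1; norm_num
  refine ⟨Subgroup.mem_top _, ?_, ?_, ?_, ?_, ?_⟩
  · rw [MulEquiv.orderOf_eq, DihedralGroup.orderOf_r_one, hn]
  · intro s _ t _ hs ht
    obtain ⟨i, hi⟩ := hnot s hs
    obtain ⟨j, hj⟩ := hnot t ht
    apply hmem _ (j - i)
    rw [map_mul, hi, hj, DihedralGroup.sr_mul_sr]
  · intro u _ hu
    obtain ⟨i, hi⟩ := hnot u hu
    have h1 : e.symm (DihedralGroup.r 1) * u * (e.symm (DihedralGroup.r 1))⁻¹ * u⁻¹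
        = e.symm (DihedralGroup.r 1) ^ 2 := by
      apply e.injective
      rw [map_mul, map_mul, map_mul, map_inv, map_inv, map_pow, e.apply_symm_apply, hi, hr2,
        hinv, hinvr, DihedralGroup.r_mul_sr, DihedralGroup.sr_mul_r, DihedralGroup.sr_mul_sr]
      congr 1; ring
    rw [h1]; exact Subgroup.mem_zpowers _
  · intro u _ hu
    obtain ⟨i, hi⟩ := hnot u hu
    apply e.injective
    rw [map_mul, map_mul, map_inv, map_inv, map_pow, e.apply_symm_apply, hi, hr2,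
      hinv, hinvr, DihedralGroup.sr_mul_r, DihedralGroup.sr_mul_sr]
    congr 1; ring
  · intro u _ hu
    obtain ⟨i, hi⟩ := hnot u hu
    left
    apply e.injective
    rw [map_pow, hi, pow_two, DihedralGroup.sr_mul_sr, sub_self, map_one]; rfl

theorem dq_qd {S : Type*} [Group S] [Finite S] (hS : Cfsg.IsQuasiDihedral S) :
    ∃ (x : S) (n : ℕ), 3 ≤ n ∧ DQ (⊤ : Subgroup S) x n := by
  obtain ⟨n, m, x, y, hn, hm, hcard, h⟩ := qd_of_isQuasiDihedral hS
  have h8 : (2:ℕ) ^ n = 8 * m := by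
    rw [hm]
    obtain ⟨k, rfl⟩ : ∃ k, n = k + 3 := ⟨n - 3, by omega⟩
    simp only [Nat.add_sub_cancel]; ring
  have h4 : (2:ℕ) ^ (n - 1) = 4 * m := by
    rw [hm]
    obtain ⟨k, rfl⟩ : ∃ k, n = k + 3 := ⟨n - 3, by omega⟩
    have : k + 3 - 1 = k + 2 := by omega
    rw [this]
    simp only [Nat.add_sub_cancel]; ring
  have hnot : ∀ g : S, g ∉ Subgroup.zpowers x → ∃ i : ℤ, g = x ^ i * y := by
    intro g hg
    obtain ⟨i, hi | hi⟩ := h.cases g
    · exact absurd (hi ▸ Subgroup.zpow_mem_zpowers x i) hg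
    · exact ⟨i, hi⟩
  refine ⟨x, n, hn, Subgroup.mem_top _, ?_, ?_, ?_, ?_, ?_⟩
  · rw [h.orderOf_x, h8]
  · intro s _ t _ hs ht
    obtain ⟨i, rfl⟩ := hnot s hs
    obtain ⟨j, rfl⟩ := hnot t ht
    rw [h.mul_xy_xy]; exact Subgroup.zpow_mem_zpowers x _
  · intro u _ hu
    obtain ⟨i, rfl⟩ := hnot u hu
    have h1 : x * (x ^ i * y) * x⁻¹ * (x ^ i * y)⁻¹ = x ^ (2 - 4 * (m:ℤ)) := by
      have h2 := h.conj_x_xy i 1
      rw [zpow_one] at h2
      rw [h2, mul_inv_rev, mul_assoc, mul_inv_cancel_left, ← zpow_neg, ← zpow_add]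
      congr 1; ring
    rw [h1, Subgroup.mem_zpowers_iff]
    refine ⟨1 - 2 * (m:ℤ), ?_⟩
    rw [← zpow_mul, ← zpow_ofNat, h.zpow_eq_iff]
    exact ⟨(m:ℤ) - 1, by ring⟩
  · intro u _ hu
    obtain ⟨i, rfl⟩ := hnot u hu
    have h2 := h.conj_xy_x i 2
    rw [zpow_ofNat] at h2
    rw [h2, ← zpow_ofNat, ← zpow_neg, h.zpow_eq_iff]
    exact ⟨1, by push_cast; ring⟩
  · intro u _ hu
    obtain ⟨i, rfl⟩ := hnot u hu
    rw [pow_two, h.xy_sq]
    obtain ⟨k, rfl | rfl⟩ := Int.even_or_odd' i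
    · left
      rw [h.x_pow]; exact ⟨k, by ring⟩
    · right
      refine ⟨hn, ?_⟩
      rw [h4, ← zpow_natCast, h.zpow_eq_iff]
      exact ⟨k, by push_cast; ring⟩

end Cfsg.Agent.H25
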