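import Cfsg.Agent.H86.FsDefs

/-!
# FS-EMB (piece of S5515): a group `G` with `N ⊴ G`, `C_G(N) ≤ N`, `N ≅ P`, `Z(P) = 1` is the
full preimage in `Aut(P)` of a subgroup `Q` of `Out(P)`, and `G / N ≅ Q`
-/

set_option autoImplicit false

namespace Cfsg.Agent.H25.Fs

universe u v

/-- FS-EMB. -/
theorem emb : Cfsg.Agent.H86.Fs.StEmb.{u, v} := by
  intro G _ P _ N _ hC e hZ
  obtain ⟨c, hc⟩ : ∃ c : G →* MulAut P,
      ∀ (g : G) (n : N), c g (e n) = e (MulAut.conjNormal g n) :=
    ⟨(MulAut.congr e).toMonoidHom.comp (MulAut.conjNormal (H := N)),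
      fun g n => by simp [MulAut.congr]⟩
  have hcN : ∀ n : N, c (n : G) = MulAut.conj (e n) := by
    intro n
    ext p
    obtain ⟨m, rfl⟩ := e.surjective p
    rw [hc, MulAut.conj_apply, ← map_inv, ← map_mul, ← map_mul]
    congr 1
  have hinj : Function.Injective c := by
    rw [injective_iff_map_eq_one]
    intro g hg
    have h1 : ∀ n : N, g * (n : G) * g⁻¹ = n := by
      intro n
      have h2 := hc g n
      rw [hg, MulAut.one_apply] at h2
      have h3 := e.injective h2
      have h4 := congrArg Subtype.val h3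
      rw [MulAut.conjNormal_apply] at h4
      exact h4.symm
    have hgC : g ∈ Subgroup.centralizer (N : Set G) := by
      rw [Subgroup.mem_centralizer_iff]
      intro h hh
      have h9 : g * h * g⁻¹ = h := h1 ⟨h, hh⟩
      calc h * g = (g * h * g⁻¹) * g := by rw [h9]
        _ = g * h := by group
    have hgN : g ∈ N := hC hgC
    have h5 : MulAut.conj (e ⟨g, hgN⟩) = 1 := by
      rw [← hcN ⟨g, hgN⟩]; exact hg
    have h6 : e ⟨g, hgN⟩ ∈ Subgroup.center P := by
      rw [Subgroup.mem_center_iff]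
      intro p
      have h7 := DFunLike.congr_fun h5 p
      rw [MulAut.conj_apply, MulAut.one_apply] at h7
      calc p * e ⟨g, hgN⟩ = (e ⟨g, hgN⟩ * p * (e ⟨g, hgN⟩)⁻¹) * e ⟨g, hgN⟩ := by rw [h7]
        _ = e ⟨g, hgN⟩ * p := by group
    rw [hZ, Subgroup.mem_bot] at h6
    have h8 : (⟨g, hgN⟩ : N) = 1 := e.injective (by rw [h6, map_one])
    exact congrArg Subtype.val h8
  have hInn : Cfsg.Inn P ≤ c.range := by
    rintro _ ⟨p, rfl⟩
    exact ⟨(e.symm p : G), by rw [hcN, MulEquiv.apply_symm_apply]⟩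
  refine ⟨c.range.map (QuotientGroup.mk' (Cfsg.Inn P)), ⟨?_⟩, ⟨?_⟩⟩
  · have hcomap : (c.range.map (QuotientGroup.mk' (Cfsg.Inn P))).comap
        (QuotientGroup.mk' (Cfsg.Inn P)) = c.range := by
      rw [Subgroup.comap_map_eq, QuotientGroup.ker_mk', sup_eq_left]
      exact hInn
    exact (MonoidHom.ofInjective hinj).trans (MulEquiv.subgroupCongr hcomap.symm)
  · have hker : ((QuotientGroup.mk' (Cfsg.Inn P)).comp c).ker = N := by
      ext g
      rw [MonoidHom.mem_ker, MonoidHom.comp_apply, QuotientGroup.mk'_apply,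
        QuotientGroup.eq_one_iff]
      constructor
      · rintro ⟨p, hp⟩
        have h2 : c g = c (e.symm p : G) := by
          rw [hcN, MulEquiv.apply_symm_apply]; exact hp.symm
        rw [hinj h2]
        exact (e.symm p).2
      · intro hg
        have h3 := hcN ⟨g, hg⟩
        have h4 : c g = MulAut.conj (e ⟨g, hg⟩) := h3
        rw [h4]
        exact ⟨_, rfl⟩
    have hrange : ((QuotientGroup.mk' (Cfsg.Inn P)).comp c).range =
        c.range.map (QuotientGroup.mk' (Cfsg.Inn P)) := MonoidHom.range_comp _ _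
    exact (QuotientGroup.quotientMulEquivOfEq hker.symm).trans
      ((QuotientGroup.quotientKerEquivRange _).trans (MulEquiv.subgroupCongr hrange))

example : ∀ {G : Type u} [Group G] {P : Type v} [Group P] (N : Subgroup G) [N.Normal],
    Subgroup.centralizer (N : Set G) ≤ N → ∀ (_e : ↥N ≃* P), Subgroup.center P = ⊥ →
    ∃ Q : Subgroup (Cfsg.Out P),
      Nonempty (G ≃* ↥(Q.comap (QuotientGroup.mk' (Cfsg.Inn P)))) ∧ Nonempty (G ⧸ N ≃* ↥Q) :=
  emb

end Cfsg.Agent.H25.Fs
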