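import Cfsg.Agent.H10.HO.Defs2

/-!
# HO-HG (piece of S2075): an automorphism fixing `x, z, t` is trivial, via a fourth generator `n`
normalising `⟨z⟩`
-/

set_option autoImplicit false

namespace Cfsg.Agent.H25.Ho

universe u

open Cfsg.Agent.H10.HO

/-- An automorphism fixing `x, z, t` fixes every word in them. -/
theorem evS_fixed {G : Type u} [Group G] (x z t : G) (β : MulAut G)
    (hx : β x = x) (hz : β z = z) (ht : β t = t) :
    ∀ w : List ℕ, β (evS x z t w) = evS x z t w := by
  intro w
  induction w with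
  | nil => simp [evS]
  | cons a w ih =>
    match a with
    | 0 => simp [evS, hx, ih]
    | 1 => simp [evS, hx, ih]
    | 2 => simp [evS, hz, ih]
    | 3 => simp [evS, hz, ih]
    | (m + 4) => simp [evS, ht, ih]

/-- HO-HG. -/
theorem hg : StHG.{u} := by
  intro G _ x z t n k D hC hnz hD h1 h2 hgen β hx hz ht
  have hfix := evS_fixed x z t β hx hz ht
  have hcomm : ∀ d : G, β d = d → β (n * d * n⁻¹) = n * d * n⁻¹ →
      (n⁻¹ * β n) * d = d * (n⁻¹ * β n) := by
    intro d hd hnd
    have h3 : β n * d * (β n)⁻¹ = n * d * n⁻¹ := by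
      rw [← hnd, map_mul, map_mul, map_inv, hd]
    calc n⁻¹ * β n * d = n⁻¹ * (β n * d * (β n)⁻¹) * β n := by group
      _ = n⁻¹ * (n * d * n⁻¹) * β n := by rw [h3]
      _ = d * (n⁻¹ * β n) := by group
  have hw0z : (n⁻¹ * β n) * z = z * (n⁻¹ * β n) := by
    apply hcomm z hz
    rw [hnz, map_pow, hz]
  have hw0D : ∀ p ∈ D, (n⁻¹ * β n) * evS x z t p.1 = evS x z t p.1 * (n⁻¹ * β n) := by
    intro p hp
    apply hcomm _ (hfix p.1)
    rw [hD p hp, hfix]
  obtain ⟨a, ha, hcase⟩ := hC _ hw0z
  have hw0 : n⁻¹ * β n = 1 := by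
    rcases hcase with h | h
    · by_cases ha0 : a = 0
      · rw [h, ha0, pow_zero]
      · obtain ⟨p, hp, hne⟩ := h1 a (Nat.pos_of_ne_zero ha0) ha
        exact absurd (by rw [← h]; exact hw0D p hp) hne
    · obtain ⟨p, hp, hne⟩ := h2 a ha
      exact absurd (by rw [← h]; exact hw0D p hp) hne
  have hn : β n = n := by
    have h4 := congrArg (fun y => n * y) hw0
    simpa using h4
  ext g
  have hg : g ∈ Subgroup.closure ({x, z, t, n} : Set G) := by
    rw [hgen]; trivial
  simp only [MulAut.one_apply]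
  induction hg using Subgroup.closure_induction with
  | mem y hy =>
    simp only [Set.mem_insert_iff, Set.mem_singleton_iff] at hy
    rcases hy with rfl | rfl | rfl | rfl <;> assumption
  | one => simp
  | mul a b _ _ ha hb => rw [map_mul, ha, hb]
  | inv a _ ha => rw [map_inv, ha]

example : Cfsg.Agent.H10.HO.StHG.{u} := hg

end Cfsg.Agent.H25.Ho
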