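import Mathlib

/-!
# JZ-KILL: the abstract conjugation lemma

A family of subgroups `W i`, commuting elementwise, and subgroups `Kc i ≤ L` such that `Kc j`
centralizes `W i` for `i ≠ j` and every element of `W i` is `Kc i`-conjugate into `Z ∩ W i`:
then every element of `⨆ i, W i` is `L`-conjugate into `Z`.
-/

set_option autoImplicit false

namespace Cfsg.Agent.H25.Jk

universe u v

variable {G : Type u} [Group G]

/-- Elements of the join of two elementwise commuting subgroups are products. -/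
theorem exists_mul_of_mem_sup (A B : Subgroup G) (hAB : ∀ x ∈ A, ∀ y ∈ B, x * y = y * x)
    (u : G) (hu : u ∈ A ⊔ B) : ∃ x ∈ A, ∃ y ∈ B, u = x * y := by
  rw [Subgroup.sup_eq_closure] at hu
  induction hu using Subgroup.closure_induction with
  | mem w hw =>
    rcases hw with hw | hw
    · exact ⟨w, hw, 1, B.one_mem, by simp⟩
    · exact ⟨1, A.one_mem, w, hw, by simp⟩
  | one => exact ⟨1, A.one_mem, 1, B.one_mem, by simp⟩
  | mul a b _ _ ha hb =>
    obtain ⟨x, hx, y, hy, rfl⟩ := ha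
    obtain ⟨x', hx', y', hy', rfl⟩ := hb
    refine ⟨x * x', A.mul_mem hx hx', y * y', B.mul_mem hy hy', ?_⟩
    have h1 : x' * y = y * x' := hAB x' hx' y hy
    calc x * y * (x' * y') = x * (y * x') * y' := by group
      _ = x * (x' * y) * y' := by rw [h1]
      _ = x * x' * (y * y') := by group
  | inv a _ ha =>
    obtain ⟨x, hx, y, hy, rfl⟩ := ha
    refine ⟨x⁻¹, A.inv_mem hx, y⁻¹, B.inv_mem hy, ?_⟩
    have h1 : x⁻¹ * y⁻¹ = y⁻¹ * x⁻¹ := hAB x⁻¹ (A.inv_mem hx) y⁻¹ (B.inv_mem hy)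
    rw [mul_inv_rev, h1]

/-- The conjugation lemma over a finite set of indices. -/
theorem conj_into_finset {ι : Type v} [DecidableEq ι] (W Kc : ι → Subgroup G) (Z : Subgroup G)
    (hcomm : ∀ i j, i ≠ j → W i ≤ Subgroup.centralizer (Kc j : Set G))
    (hWW : ∀ i j, ∀ x ∈ W i, ∀ y ∈ W j, x * y = y * x)
    (htr : ∀ i, ∀ w ∈ W i, ∃ k ∈ Kc i, k * w * k⁻¹ ∈ Z ∧ k * w * k⁻¹ ∈ W i)
    (s : Finset ι) :
    ∀ u ∈ ⨆ i ∈ s, W i, ∃ l ∈ ⨆ i ∈ s, Kc i,
      l * u * l⁻¹ ∈ Z ∧ l * u * l⁻¹ ∈ ⨆ i ∈ s, W i := by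
  induction s using Finset.induction_on with
  | empty =>
    intro u hu
    simp only [Finset.notMem_empty, iSup_false, iSup_bot, Subgroup.mem_bot] at hu
    subst hu
    exact ⟨1, Subgroup.one_mem _, by simp, by simp⟩
  | insert a s ha ih =>
    intro u hu
    rw [Finset.iSup_insert] at hu
    rw [Finset.iSup_insert, Finset.iSup_insert]
    -- `Vs` commutes with `W a`
    have hVW : ∀ x ∈ W a, ∀ y ∈ ⨆ i ∈ s, W i, x * y = y * x := by
      intro x hx y hy
      have hle : (⨆ i ∈ s, W i) ≤ Subgroup.centralizer ((W a : Subgroup G) : Set G) := by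
        refine iSup₂_le (fun i _ => ?_)
        intro w hw
        rw [Subgroup.mem_centralizer_iff]
        intro h hh
        exact hWW a i h hh w hw
      exact (Subgroup.mem_centralizer_iff.mp (hle hy) x hx)
    obtain ⟨x, hx, y, hy, rfl⟩ := exists_mul_of_mem_sup (W a) (⨆ i ∈ s, W i) hVW u hu
    obtain ⟨l, hl, hlZ, hlV⟩ := ih y hy
    obtain ⟨k, hk, hkZ, hkW⟩ := htr a x hx
    -- `l` centralizes `x`
    have hKs : (⨆ i ∈ s, Kc i) ≤ Subgroup.centralizer ((W a : Subgroup G) : Set G) := by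
      refine iSup₂_le (fun j hj => ?_)
      intro g hg
      rw [Subgroup.mem_centralizer_iff]
      intro h hh
      have hne : a ≠ j := fun e => ha (e ▸ hj)
      exact (Subgroup.mem_centralizer_iff.mp (hcomm a j hne hh) g hg).symm
    have h1 : l * x = x * l := (Subgroup.mem_centralizer_iff.mp (hKs hl) x hx).symm
    -- `k` centralizes `l y l⁻¹`
    have hVs : (⨆ i ∈ s, W i) ≤ Subgroup.centralizer ((Kc a : Subgroup G) : Set G) := by
      refine iSup₂_le (fun i hi => ?_)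
      have hne : i ≠ a := fun e => ha (e ▸ hi)
      exact hcomm i a hne
    have h2 : k * (l * y * l⁻¹) = (l * y * l⁻¹) * k :=
      Subgroup.mem_centralizer_iff.mp (hVs hlV) k hk
    have e : k * l * (x * y) * (k * l)⁻¹ = (k * x * k⁻¹) * (l * y * l⁻¹) := by
      calc k * l * (x * y) * (k * l)⁻¹ = k * (l * x) * y * l⁻¹ * k⁻¹ := by group
        _ = k * (x * l) * y * l⁻¹ * k⁻¹ := by rw [h1]
        _ = k * x * k⁻¹ * (k * (l * y * l⁻¹)) * k⁻¹ := by group
        _ = k * x * k⁻¹ * ((l * y * l⁻¹) * k) * k⁻¹ := by rw [h2]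
        _ = (k * x * k⁻¹) * (l * y * l⁻¹) := by group
    refine ⟨k * l, Subgroup.mul_mem_sup hk hl, ?_, ?_⟩
    · rw [e]; exact Z.mul_mem hkZ hlZ
    · rw [e]; exact Subgroup.mul_mem_sup hkW hlV

/-- **The conjugation lemma.** -/
theorem conj_into {ι : Type v} [Finite ι] (W Kc : ι → Subgroup G) (L Z : Subgroup G)
    (hKL : ∀ i, Kc i ≤ L)
    (hcomm : ∀ i j, i ≠ j → W i ≤ Subgroup.centralizer (Kc j : Set G))
    (hWW : ∀ i j, ∀ x ∈ W i, ∀ y ∈ W j, x * y = y * x)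
    (htr : ∀ i, ∀ w ∈ W i, ∃ k ∈ Kc i, k * w * k⁻¹ ∈ Z ∧ k * w * k⁻¹ ∈ W i) :
    ∀ u ∈ ⨆ i, W i, ∃ l ∈ L, l * u * l⁻¹ ∈ Z := by
  classical
  have := Fintype.ofFinite ι
  intro u hu
  have hu' : u ∈ ⨆ i ∈ (Finset.univ : Finset ι), W i := by simpa using hu
  obtain ⟨l, hl, hlZ, -⟩ := conj_into_finset W Kc Z hcomm hWW htr Finset.univ u hu'
  have hle : (⨆ i ∈ (Finset.univ : Finset ι), Kc i) ≤ L := iSup₂_le (fun i _ => hKL i)
  exact ⟨l, hle hl, hlZ⟩

end Cfsg.Agent.H25.Jk
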