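import Cfsg.Agent.H28.JkDefs
import Cfsg.Agent.H25.JkConj

/-!
# JZ-KILL: every element of `V = Ω₁Z(O₂(L))` is `L`-conjugate into `C_G(J(T))`

From the `S₃^r` picture (`SRConcl T K L`) and the transitivity statement (conclusion of `StKTr`)
for every block.  This is the fourth hypothesis of `H28.Jk.StKTI` for `J := J(T)`.
-/

set_option autoImplicit false
open Cfsg

namespace Cfsg.Agent.H25.Jk

universe u

/-- `Ω₁Z(X) ≤ X ∩ C_G(X)`. -/
theorem omegaCenterOf_le_inf {G : Type u} [Group G] (X : Subgroup G) :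
    omegaCenterOf X ≤ X ⊓ Subgroup.centralizer (X : Set G) := by
  unfold omegaCenterOf omegaOne
  rw [Subgroup.closure_le]
  intro x hx
  exact hx.1

/-- `Ω₁Z(X)` is commutative. -/
theorem omegaCenterOf_comm {G : Type u} [Group G] (X : Subgroup G) {x y : G}
    (hx : x ∈ omegaCenterOf X) (hy : y ∈ omegaCenterOf X) : x * y = y * x := by
  have h1 := (omegaCenterOf_le_inf X hx).1
  have h2 := (omegaCenterOf_le_inf X hy).2
  exact Subgroup.mem_centralizer_iff.mp h2 x h1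

/-- The conjugation lemma in the `S₃^r` picture. -/
theorem conj_SR {G : Type u} [Group G] [Finite G] (T K L : Subgroup G)
    (hSR : Cfsg.Agent.H28.Jk.SRConcl T K L)
    (htr : ∀ i : Cfsg.Agent.H52.Sr.Orb T K, ∀ w ∈ wOf i.1, ∃ k ∈ i.1,
      k * w * k⁻¹ ∈ omegaCenterOf (thompsonSubgroupOf 2 T) ∧ k * w * k⁻¹ ∈ wOf i.1) :
    ∀ u ∈ Cfsg.Agent.H28.Jk.VV L, ∃ l ∈ L,
      l * u * l⁻¹ ∈ Subgroup.centralizer (thompsonSubgroupOf 2 T : Set G) := by
  obtain ⟨hsup, hind, hcomp, hperm, hcent, hfix⟩ := hSR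
  intro u hu
  have hu' : u ∈ ⨆ i : Cfsg.Agent.H52.Sr.Orb T K, wOf i.1 := by
    rw [hsup]; exact hu
  have hWW : ∀ i j : Cfsg.Agent.H52.Sr.Orb T K, ∀ x ∈ wOf i.1, ∀ y ∈ wOf j.1,
      x * y = y * x := by
    intro i j x hx y hy
    have hxV : x ∈ omegaCenterOf (pCoreOf 2 L) := by
      rw [← hsup]
      exact Subgroup.mem_iSup_of_mem (S := fun i : Cfsg.Agent.H52.Sr.Orb T K => wOf i.1) i hx
    have hyV : y ∈ omegaCenterOf (pCoreOf 2 L) := by
      rw [← hsup]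
      exact Subgroup.mem_iSup_of_mem (S := fun i : Cfsg.Agent.H52.Sr.Orb T K => wOf i.1) j hy
    exact omegaCenterOf_comm _ hxV hyV
  obtain ⟨l, hl, hlZ⟩ := conj_into (fun i : Cfsg.Agent.H52.Sr.Orb T K => wOf i.1)
    (fun i => i.1) L (omegaCenterOf (thompsonSubgroupOf 2 T)) (fun i => (hcomp i).2.1)
    hcent hWW htr u hu'
  exact ⟨l, hl, (omegaCenterOf_le_inf _ hlZ).2⟩

/-- The same with the statement `StKTr` as a hypothesis (and `ZN`, `T` a nontrivial 2-group). -/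
theorem conj_SR_of_tr (hTr : Cfsg.Agent.H28.Jk.StKTr.{u}) {G : Type u} [Group G] [Finite G]
    (hZN : Cfsg.Agent.H58.Uq.ZN G) (T K L : Subgroup G) (hT : IsPGroup 2 ↥T) (hT1 : T ≠ ⊥)
    (hSR : Cfsg.Agent.H28.Jk.SRConcl T K L) :
    ∀ u ∈ Cfsg.Agent.H28.Jk.VV L, ∃ l ∈ L,
      l * u * l⁻¹ ∈ Subgroup.centralizer (thompsonSubgroupOf 2 T : Set G) :=
  conj_SR T K L hSR (fun i w hw =>
    hTr hZN T i.1 hT hT1 (hSR.2.2.1 i).1 (hSR.2.2.2.2.2 i) w hw)

end Cfsg.Agent.H25.Jk
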