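import Cfsg.Agent.H64.JyDefs
import Cfsg.Agent.H59.SoConj
import Cfsg.Agent.H25.SpLE

/-!
# JY-NJ (piece Y5 of S2953): for `T = S`, `N_G(J(S)) ≤ N_G(S)`

From the statement S2951 (`StMain`): every clause gives `Ω₁Z(S) = Ω₁Z(J(S))`, so `N_G(J(S))`
normalizes `Z = Ω₁Z(S)`; for `n` in it, `S^n` centralizes `Z`, hence lies in `N_G(S)` (hZ), hence
in `S`.
-/

set_option autoImplicit false
open Cfsg

namespace Cfsg.Agent.H25.Jy

universe u

/-- `Ω₁Z(X) ≤ X ∩ C_G(X)`. -/
theorem omegaCenterOf_le_inf_y {G : Type u} [Group G] (X : Subgroup G) :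
    omegaCenterOf X ≤ X ⊓ Subgroup.centralizer (X : Set G) := by
  unfold omegaCenterOf omegaOne
  rw [Subgroup.closure_le]
  intro x hx
  exact hx.1

/-- A 2-subgroup of `G` inside the normalizer of a Sylow 2-subgroup `S` lies in `S`. -/
theorem le_sylow_of_le_normalizer {G : Type u} [Group G] (S : Sylow 2 G) {P : Subgroup G}
    (hP : IsPGroup 2 ↥P) (hPN : P ≤ Subgroup.normalizer ((S : Subgroup G) : Set G)) :
    P ≤ (S : Subgroup G) := by
  have h := hP.inf_normalizer_sylow S
  have h3 : P ≤ P ⊓ (S : Subgroup G) := by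
    rw [← h]
    exact le_inf le_rfl hPN
  exact h3.trans inf_le_right

/-- JY-NJ, from the statement of S2951. -/
theorem nj_of (hMain : Cfsg.Agent.H64.Jz.StMain.{u}) {G : Type u} [Group G] [Finite G]
    (S : Sylow 2 G) (M K L : Subgroup G)
    (hB : Cfsg.Agent.H64.Jz.Base S M (S : Subgroup G) K L) :
    Subgroup.normalizer (thompsonSubgroupOf 2 (S : Subgroup G) : Set G) ≤
      Subgroup.normalizer ((S : Subgroup G) : Set G) := by
  have hC := hMain S M (S : Subgroup G) K L hB
  have hZ := hB.1.2.2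
  have hEq : omegaCenterOf (S : Subgroup G) =
      omegaCenterOf (thompsonSubgroupOf 2 (S : Subgroup G)) := by
    rcases hC with h | h | h
    · exact h.1
    · exact h.1
    · exact h.1
  intro n hn
  have hJn := Cfsg.Agent.H25.Sp.map_conj_of_mem_normalizer _ n hn
  have hZn : (omegaCenterOf (S : Subgroup G)).map (MulAut.conj n).toMonoidHom =
      omegaCenterOf (S : Subgroup G) := by
    rw [hEq, ← Cfsg.Agent.H59.So.omegaCenterOf_map_conj, hJn]
  -- `S^n` centralizes `Z`
  have hcent : (S : Subgroup G).map (MulAut.conj n).toMonoidHom ≤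
      Subgroup.centralizer (omegaCenterOf (S : Subgroup G) : Set G) := by
    rintro _ ⟨s, hs, rfl⟩
    rw [Subgroup.mem_centralizer_iff]
    intro z hz
    have hz2 : z ∈ (omegaCenterOf (S : Subgroup G)).map (MulAut.conj n).toMonoidHom := by
      rw [hZn]; exact hz
    obtain ⟨z', hz', rfl⟩ := hz2
    have hcomm : z' * s = s * z' :=
      (Subgroup.mem_centralizer_iff.mp (omegaCenterOf_le_inf_y _ hz').2 s hs).symm
    simp only [MulEquiv.toMonoidHom_eq_coe, MonoidHom.coe_coe, MulAut.conj_apply]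
    calc n * z' * n⁻¹ * (n * s * n⁻¹) = n * (z' * s) * n⁻¹ := by group
      _ = n * (s * z') * n⁻¹ := by rw [hcomm]
      _ = n * s * n⁻¹ * (n * z' * n⁻¹) := by group
  have hP2 : IsPGroup 2 ↥((S : Subgroup G).map (MulAut.conj n).toMonoidHom) :=
    S.isPGroup'.map _
  have hle : (S : Subgroup G).map (MulAut.conj n).toMonoidHom ≤ (S : Subgroup G) :=
    le_sylow_of_le_normalizer S hP2 (hcent.trans (hZ S))
  refine Subgroup.mem_normalizer_fintype ?_
  intro x hx
  exact hle ⟨x, hx, by simp [MulAut.conj_apply]⟩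

/-- JY-NJ, with the statement S2951 (`StMain`) as hypothesis. -/
theorem nj_main (hMain : Cfsg.Agent.H64.Jz.StMain.{u}) : Cfsg.Agent.H64.Jy.StNJ.{u} :=
  fun S M K L hB => nj_of hMain S M K L hB

example (hMain : Cfsg.Agent.H64.Jz.StMain.{u}) :
    ∀ {G : Type u} [Group G] [Finite G] (S : Sylow 2 G) (M K L : Subgroup G),
    Cfsg.Agent.H64.Jz.Base S M (S : Subgroup G) K L →
    Subgroup.normalizer (Cfsg.thompsonSubgroupOf 2 (S : Subgroup G) : Set G) ≤
      Subgroup.normalizer ((S : Subgroup G) : Set G) := nj_main hMain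

end Cfsg.Agent.H25.Jy
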