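import Mathlib
import Cfsg.Agent.H81.M11Arith

set_option autoImplicit false

/-!
# S0420, piece ARITH2V (helper25 for helper93)

The character values at an involution of a simple group of order 7920: the arithmetic.
(The stronger conclusion of `Cfsg.Agent.H81.M11.invol_arith`, same hypotheses.)
-/

namespace Cfsg.Agent.H25.M11

theorem sq_cases (a' : ℕ) (h : a' < 6) :
    ((a' = 2 ∨ a' = 3) ∧ (4 * (a' : ℤ) - 10) ^ 2 = 4) ∨ 36 ≤ (4 * (a' : ℤ) - 10) ^ 2 := by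
  interval_cases a' <;> norm_num

theorem invol_arith_values (a b c u s w d f : ℤ) (N : ℕ)
    (ha : a ≡ 2 [ZMOD 4]) (hb : b ≡ 2 [ZMOD 4]) (hc : c ≡ 2 [ZMOD 4]) (hu : u ≡ 3 [ZMOD 4])
    (hs : s ≡ 0 [ZMOD 4]) (hw : w ≡ 0 [ZMOD 4]) (hd : d ≡ 1 [ZMOD 4]) (hf : f ≡ 3 [ZMOD 4])
    (ba : |a| ≤ 10) (bb : |b| ≤ 10) (bc : |c| ≤ 10) (bu : |u| ≤ 11) (bs : |s| ≤ 16)
    (bw : |w| ≤ 44) (bd : |d| ≤ 45) (bf : |f| ≤ 55)
    (h11 : s = 1 - a - b - c + d) (h5 : 1 + u + 2 * s - w = 0)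
    (h1 : 1 + 10 * (a + b + c) + 11 * u + 32 * s + 44 * w + 45 * d + 55 * f = 0)
    (hsc : 720 - 72 * (a ^ 2 + b ^ 2 + c ^ 2) + 16 * d ^ 2 - 45 * s ^ 2 = 0)
    (hN : (N : ℤ) = 1 + a ^ 2 + b ^ 2 + c ^ 2 + u ^ 2 + 2 * s ^ 2 + w ^ 2 + d ^ 2 + f ^ 2)
    (hdvd : N ∣ 7920) :
    ((a = 2 ∧ b = -2 ∧ c = -2) ∨ (a = -2 ∧ b = 2 ∧ c = -2) ∨ (a = -2 ∧ b = -2 ∧ c = 2)) ∧
      u = 3 ∧ s = 0 ∧ w = 4 ∧ d = -3 ∧ f = -1 := by
  unfold Int.ModEq at ha hb hc hu hs hw hd hf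
  rw [abs_le] at ba bb bc bu bs bw bd bf
  obtain ⟨a', ha', rfl⟩ : ∃ a' : ℕ, a' < 6 ∧ a = 4 * (a' : ℤ) - 10 :=
    ⟨((a + 10) / 4).toNat, by omega, by omega⟩
  obtain ⟨b', hb', rfl⟩ : ∃ b' : ℕ, b' < 6 ∧ b = 4 * (b' : ℤ) - 10 :=
    ⟨((b + 10) / 4).toNat, by omega, by omega⟩
  obtain ⟨c', hc', rfl⟩ : ∃ c' : ℕ, c' < 6 ∧ c = 4 * (c' : ℤ) - 10 :=
    ⟨((c + 10) / 4).toNat, by omega, by omega⟩
  obtain ⟨s', hs', rfl⟩ : ∃ s' : ℕ, s' < 9 ∧ s = 4 * (s' : ℤ) - 16 :=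
    ⟨((s + 16) / 4).toNat, by omega, by omega⟩
  obtain rfl : d = (4 * (s' : ℤ) - 16) - 1 + (4 * (a' : ℤ) - 10) + (4 * (b' : ℤ) - 10)
        + (4 * (c' : ℤ) - 10) := by omega
  rcases Cfsg.Agent.H81.M11.invol_aux a' ha' b' hb' c' hc' s' hs' hsc with
    ⟨rfl, hsum, hsq⟩ | ⟨rfl, rfl, rfl, rfl⟩
  · -- the genuine case
    have hw' : w = 1 + u := by omega
    have hf' : f = 2 - u := by omega
    subst hw' hf'
    have hu' : u = -9 ∨ u = -5 ∨ u = -1 ∨ u = 3 ∨ u = 7 ∨ u = 11 := by omega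
    have hN' : (N : ℤ) = 3 * u ^ 2 - 2 * u + 27 := by
      have e : (4 * ((4 : ℕ) : ℤ) - 16 - 1 + (4 * (a' : ℤ) - 10) + (4 * (b' : ℤ) - 10)
          + (4 * (c' : ℤ) - 10)) = -3 := by push_cast; omega
      rw [e] at hN
      push_cast at hN
      linear_combination hN + hsq
    -- the values of `a`, `b`, `c`
    have qa := sq_nonneg (4 * (a' : ℤ) - 10)
    have qb := sq_nonneg (4 * (b' : ℤ) - 10)
    have qc := sq_nonneg (4 * (c' : ℤ) - 10)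
    have habc : (a' = 2 ∨ a' = 3) ∧ (b' = 2 ∨ b' = 3) ∧ (c' = 2 ∨ c' = 3) := by
      rcases sq_cases a' ha' with ⟨ha2, -⟩ | hqa
      · rcases sq_cases b' hb' with ⟨hb2, -⟩ | hqb
        · rcases sq_cases c' hc' with ⟨hc2, -⟩ | hqc
          · exact ⟨ha2, hb2, hc2⟩
          · exfalso; linarith
        · exfalso; linarith
      · exfalso; linarith
    obtain ⟨ha2, hb2, hc2⟩ := habc
    rcases hu' with rfl | rfl | rfl | rfl | rfl | rfl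
    · have : N = 288 := by omega
      subst this; norm_num at hdvd
    · have : N = 112 := by omega
      subst this; norm_num at hdvd
    · have : N = 32 := by omega
      subst this; norm_num at hdvd
    · rcases ha2 with rfl | rfl <;> rcases hb2 with rfl | rfl <;> rcases hc2 with rfl | rfl <;>
        first
        | (exfalso; omega)
        | norm_num
    · have : N = 160 := by omega
      subst this; norm_num at hdvd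
    · have : N = 368 := by omega
      subst this; norm_num at hdvd
  · -- the trivial solution is excluded by the bounds
    exfalso
    push_cast at h1 h5 bf bw
    omega

end Cfsg.Agent.H25.M11

section Check

example (a b c u s w d f : ℤ) (N : ℕ)
    (ha : a ≡ 2 [ZMOD 4]) (hb : b ≡ 2 [ZMOD 4]) (hc : c ≡ 2 [ZMOD 4]) (hu : u ≡ 3 [ZMOD 4])
    (hs : s ≡ 0 [ZMOD 4]) (hw : w ≡ 0 [ZMOD 4]) (hd : d ≡ 1 [ZMOD 4]) (hf : f ≡ 3 [ZMOD 4])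
    (ba : |a| ≤ 10) (bb : |b| ≤ 10) (bc : |c| ≤ 10) (bu : |u| ≤ 11) (bs : |s| ≤ 16)
    (bw : |w| ≤ 44) (bd : |d| ≤ 45) (bf : |f| ≤ 55)
    (h11 : s = 1 - a - b - c + d) (h5 : 1 + u + 2 * s - w = 0)
    (h1 : 1 + 10 * (a + b + c) + 11 * u + 32 * s + 44 * w + 45 * d + 55 * f = 0)
    (hsc : 720 - 72 * (a ^ 2 + b ^ 2 + c ^ 2) + 16 * d ^ 2 - 45 * s ^ 2 = 0)
    (hN : (N : ℤ) = 1 + a ^ 2 + b ^ 2 + c ^ 2 + u ^ 2 + 2 * s ^ 2 + w ^ 2 + d ^ 2 + f ^ 2)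
    (hdvd : N ∣ 7920) :
    ((a = 2 ∧ b = -2 ∧ c = -2) ∨ (a = -2 ∧ b = 2 ∧ c = -2) ∨ (a = -2 ∧ b = -2 ∧ c = 2)) ∧
      u = 3 ∧ s = 0 ∧ w = 4 ∧ d = -3 ∧ f = -1 :=
  Cfsg.Agent.H25.M11.invol_arith_values a b c u s w d f N ha hb hc hu hs hw hd hf ba bb bc bu bs
    bw bd bf h11 h5 h1 hsc hN hdvd

end Check
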