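import Mathlib

set_option autoImplicit false
set_option linter.unusedVariables false

/-!
# S0420, piece NONINV (helper25 for helper93)

If an involution `t` inverts a Sylow `3`-subgroup `P` of order `9` and `x ∈ P` has exactly `12`
inverting involutions, then at most three of them fail to invert `P`.
-/

open Subgroup

namespace Cfsg.Agent.H25.M11

theorem card_noninverting_le_three {G : Type*} [Group G] [Finite G] (P : Sylow 3 G)
    (hP9 : Nat.card (P : Subgroup G) = 9)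
    (t : G) (ht : orderOf t = 2) (htP : ∀ p ∈ (P : Subgroup G), t * p * t⁻¹ = p⁻¹)
    (x : G) (hx : orderOf x = 3) (hxP : x ∈ (P : Subgroup G))
    (hcount12 : Nat.card {h : G // orderOf h = 2 ∧ h * x * h⁻¹ = x⁻¹} = 12) :
    Nat.card {h : G // orderOf h = 2 ∧ h * x * h⁻¹ = x⁻¹ ∧
      ¬ ∀ p ∈ (P : Subgroup G), h * p * h⁻¹ = p⁻¹} ≤ 3 := by
  classical
  have hab : ∀ a ∈ (P : Subgroup G), ∀ b ∈ (P : Subgroup G), a * b = b * a := by
    intro a ha b hb
    have hcard : Nat.card (P : Subgroup G) = 3 ^ 2 := by rw [hP9]; norm_num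
    have hc := IsPGroup.isMulCommutative_of_card_eq_prime_sq hcard
    have := hc.is_comm.comm ⟨a, ha⟩ ⟨b, hb⟩
    exact congrArg Subtype.val this
  have ht2 : t * t = 1 := by rw [← pow_two, ← ht, pow_orderOf_eq_one]
  have ht1 : t ≠ 1 := by
    rintro rfl
    rw [orderOf_one] at ht
    omega
  -- the conjugates `p t p⁻¹` invert `P`
  have hinv : ∀ p ∈ (P : Subgroup G), ∀ r ∈ (P : Subgroup G),
      (p * t * p⁻¹) * r * (p * t * p⁻¹)⁻¹ = r⁻¹ := by
    intro p hp r hr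
    have h1 : p⁻¹ * r * p = r := by
      have := hab p hp r hr
      calc p⁻¹ * r * p = p⁻¹ * (r * p) := mul_assoc _ _ _
        _ = p⁻¹ * (p * r) := by rw [this]
        _ = r := by group
    calc (p * t * p⁻¹) * r * (p * t * p⁻¹)⁻¹ = p * (t * (p⁻¹ * r * p) * t⁻¹) * p⁻¹ := by group
      _ = p * r⁻¹ * p⁻¹ := by rw [h1, htP r hr]
      _ = r⁻¹ := by
          have := hab p hp r⁻¹ (inv_mem hr)
          rw [this]; group
  have hord : ∀ p : G, orderOf (p * t * p⁻¹) = 2 := by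
    intro p
    have : Fact (Nat.Prime 2) := ⟨Nat.prime_two⟩
    apply orderOf_eq_prime
    · rw [pow_two]
      calc p * t * p⁻¹ * (p * t * p⁻¹) = p * (t * t) * p⁻¹ := by group
        _ = 1 := by rw [ht2]; group
    · intro h
      apply ht1
      have e : t = p⁻¹ * (p * t * p⁻¹) * p := by group
      rw [e, h]; group
  have hinj : Set.InjOn (fun p => p * t * p⁻¹) ((P : Subgroup G) : Set G) := by
    intro p hp p' hp' h
    have hu : p'⁻¹ * p ∈ (P : Subgroup G) := mul_mem (inv_mem hp') hp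
    have h' : p * t * p⁻¹ = p' * t * p'⁻¹ := h
    have h1 : (p'⁻¹ * p) * t = t * (p'⁻¹ * p) := by
      calc (p'⁻¹ * p) * t = p'⁻¹ * (p * t * p⁻¹) * p := by group
        _ = p'⁻¹ * (p' * t * p'⁻¹) * p := by rw [h']
        _ = t * (p'⁻¹ * p) := by group
    have h2 := htP _ hu
    rw [← h1, mul_inv_cancel_right] at h2
    have h3 : (p'⁻¹ * p) ^ 2 = 1 := by
      rw [pow_two]
      calc p'⁻¹ * p * (p'⁻¹ * p) = p'⁻¹ * p * (p'⁻¹ * p)⁻¹ := by rw [← h2]
        _ = 1 := mul_inv_cancel _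
    have h4 : orderOf (p'⁻¹ * p) ∣ 2 := orderOf_dvd_of_pow_eq_one h3
    have h5 : orderOf (p'⁻¹ * p) ∣ 9 := by
      have := Subgroup.orderOf_dvd_natCard (P : Subgroup G) hu
      rwa [hP9] at this
    have h6 : orderOf (p'⁻¹ * p) = 1 := by
      have := Nat.dvd_gcd h4 h5
      rw [show Nat.gcd 2 9 = 1 from by norm_num, Nat.dvd_one] at this
      exact this
    have h7 : p'⁻¹ * p = 1 := orderOf_eq_one_iff.mp h6
    exact (inv_mul_eq_one.mp h7).symm
  -- counting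
  let SA : Set G := {h | orderOf h = 2 ∧ h * x * h⁻¹ = x⁻¹}
  let SB : Set G := {h | orderOf h = 2 ∧ h * x * h⁻¹ = x⁻¹ ∧
      ¬ ∀ p ∈ (P : Subgroup G), h * p * h⁻¹ = p⁻¹}
  let SC : Set G := {h | orderOf h = 2 ∧ h * x * h⁻¹ = x⁻¹ ∧
      ∀ p ∈ (P : Subgroup G), h * p * h⁻¹ = p⁻¹}
  have eA : SA.ncard = 12 := by
    rw [← hcount12]
    exact (Nat.card_coe_set_eq SA).symm
  have hgoal : Nat.card {h : G // orderOf h = 2 ∧ h * x * h⁻¹ = x⁻¹ ∧
      ¬ ∀ p ∈ (P : Subgroup G), h * p * h⁻¹ = p⁻¹} = SB.ncard := Nat.card_coe_set_eq SB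
  have hunion : SB ∪ SC = SA := by
    ext h
    constructor
    · rintro (⟨h1, h2, -⟩ | ⟨h1, h2, -⟩)
      · exact ⟨h1, h2⟩
      · exact ⟨h1, h2⟩
    · rintro ⟨h1, h2⟩
      by_cases hI : ∀ p ∈ (P : Subgroup G), h * p * h⁻¹ = p⁻¹
      · exact Or.inr ⟨h1, h2, hI⟩
      · exact Or.inl ⟨h1, h2, hI⟩
  have hdisj : Disjoint SB SC := Set.disjoint_left.mpr (fun h hB hC => hB.2.2 hC.2.2)
  have hsum : SB.ncard + SC.ncard = 12 := by
    rw [← Set.ncard_union_eq hdisj (Set.toFinite _) (Set.toFinite _), hunion, eA]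
  have hC9 : 9 ≤ SC.ncard := by
    have himg : (fun p => p * t * p⁻¹) '' ((P : Subgroup G) : Set G) ⊆ SC := by
      rintro _ ⟨p, hp, rfl⟩
      exact ⟨hord p, hinv p hp x hxP, hinv p hp⟩
    have hc : ((fun p => p * t * p⁻¹) '' ((P : Subgroup G) : Set G)).ncard = 9 := by
      rw [hinj.ncard_image, ← hP9]
      exact (Nat.card_coe_set_eq ((P : Subgroup G) : Set G)).symm
    calc 9 = _ := hc.symm
      _ ≤ SC.ncard := Set.ncard_le_ncard himg (Set.toFinite _)
  rw [hgoal]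
  omega

end Cfsg.Agent.H25.M11

section Check

example {G : Type*} [Group G] [Finite G] (P : Sylow 3 G)
    (hP9 : Nat.card (P : Subgroup G) = 9)
    (t : G) (ht : orderOf t = 2) (htP : ∀ p ∈ (P : Subgroup G), t * p * t⁻¹ = p⁻¹)
    (x : G) (hx : orderOf x = 3) (hxP : x ∈ (P : Subgroup G))
    (hcount12 : Nat.card {h : G // orderOf h = 2 ∧ h * x * h⁻¹ = x⁻¹} = 12) :
    Nat.card {h : G // orderOf h = 2 ∧ h * x * h⁻¹ = x⁻¹ ∧
      ¬ ∀ p ∈ (P : Subgroup G), h * p * h⁻¹ = p⁻¹} ≤ 3 :=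
  Cfsg.Agent.H25.M11.card_noninverting_le_three P hP9 t ht htP x hx hxP hcount12

end Check
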