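import Mathlib
import Cfsg.Agent.H45.MDefs
import Cfsg.Agent.H44.MBase
import Cfsg.Agent.H49.SimMinus
import Cfsg.Agent.H49.SimpleForms
import Cfsg.Agent.H49.Omega2

set_option autoImplicit false

/-!
# S2415, piece M-MEM, second half `mem_n` (helper25 for helper45)

A Weyl-type element of `Ω⁻` interchanging the two totally singular blocks, compatible with a
given matrix `B` (`N * Bᵀ = B * N`).
-/

open Matrix Cfsg.Agent.H49 Cfsg.Agent.H45.M

namespace Cfsg.Agent.H25.M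

section Gen
variable {ι : Type} [Fintype ι] [DecidableEq ι] {F : Type*} [Field F]

/-- In odd characteristic an isometry has determinant `1` or `-1`. -/
theorem det_pm_one (Q : QuadraticForm F (ι → F)) (h2 : (2 : F) ≠ 0)
    (hQ : (QuadraticMap.polarBilin Q).Nondegenerate) (g : ↥(Cfsg.isometryGroup F (⇑Q))) :
    ((g : Matrix.GeneralLinearGroup ι F) : Matrix ι ι F).det = 1 ∨
      ((g : Matrix.GeneralLinearGroup ι F) : Matrix ι ι F).det = -1 := by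
  obtain ⟨l, hl, rfl⟩ := exists_list_of_closure_invol (reflSet Q) (reflSet_invol Q)
    (closure_reflSet_eq_top Q h2 hQ) g
  obtain ⟨vs, hvs, rfl⟩ := exists_vectors_of_reflSet Q l hl
  rw [coe_prod_reflG, det_prod_refl Q vs hvs]
  exact neg_one_pow_eq_or F vs.length

theorem det_coe_mul {Qf : (ι → F) → F} (g h : ↥(Cfsg.isometryGroup F Qf)) :
    (((g * h : ↥(Cfsg.isometryGroup F Qf)) : Matrix.GeneralLinearGroup ι F) : Matrix ι ι F).det
      = ((g : Matrix.GeneralLinearGroup ι F) : Matrix ι ι F).det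
        * ((h : Matrix.GeneralLinearGroup ι F) : Matrix ι ι F).det := by
  rw [Subgroup.coe_mul, Units.val_mul, Matrix.det_mul]

theorem det_blockIsoQ {ι₁ ι₂ : Type} [Fintype ι₁] [DecidableEq ι₁] [Fintype ι₂] [DecidableEq ι₂]
    (Q₁ : QuadraticForm F (ι₁ → F)) (Q₂ : QuadraticForm F (ι₂ → F))
    (p : ↥(Cfsg.isometryGroup F (⇑Q₁)) × ↥(Cfsg.isometryGroup F (⇑Q₂))) :
    (((blockIsoQ Q₁ Q₂ p : ↥(Cfsg.isometryGroup F (⇑(sumQ Q₁ Q₂)))) :
      Matrix.GeneralLinearGroup (ι₁ ⊕ ι₂) F) : Matrix (ι₁ ⊕ ι₂) (ι₁ ⊕ ι₂) F).det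
      = ((p.1 : Matrix.GeneralLinearGroup ι₁ F) : Matrix ι₁ ι₁ F).det
        * ((p.2 : Matrix.GeneralLinearGroup ι₂ F) : Matrix ι₂ ι₂ F).det := by
  have e : (((blockIsoQ Q₁ Q₂ p : ↥(Cfsg.isometryGroup F (⇑(sumQ Q₁ Q₂)))) :
      Matrix.GeneralLinearGroup (ι₁ ⊕ ι₂) F) : Matrix (ι₁ ⊕ ι₂) (ι₁ ⊕ ι₂) F)
      = Matrix.fromBlocks ((p.1 : Matrix.GeneralLinearGroup ι₁ F) : Matrix ι₁ ι₁ F) 0 0
          ((p.2 : Matrix.GeneralLinearGroup ι₂ F) : Matrix ι₂ ι₂ F) :=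
    blockIso_coe (⇑Q₁) (⇑Q₂) p
  rw [e, Matrix.det_fromBlocks_zero₁₂]

/-- Odd characteristic: every isometry can be moved into `Ω` by the two correcting elements
`ℓ` (determinant `1`, spinor sign `-1`) and `s` (determinant `-1`). -/
theorem exists_omega_odd [Fintype F] [DecidableEq F] (Q : QuadraticForm F (ι → F))
    (h2 : (2 : F) ≠ 0) (hQ : (QuadraticMap.polarBilin Q).Nondegenerate)
    (ℓ s : ↥(Cfsg.isometryGroup F (⇑Q)))
    (hℓd : ((ℓ : Matrix.GeneralLinearGroup ι F) : Matrix ι ι F).det = 1)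
    (hℓs : spinSign Q ℓ = -1)
    (hsd : ((s : Matrix.GeneralLinearGroup ι F) : Matrix ι ι F).det = -1)
    (h : ↥(Cfsg.isometryGroup F (⇑Q))) :
    ∃ n ∈ commutator ↥(Cfsg.isometryGroup F (⇑Q)),
      n = h ∨ n = ℓ * h ∨ n = s * h ∨ n = ℓ * (s * h) := by
  have key : ∀ h' : ↥(Cfsg.isometryGroup F (⇑Q)),
      ((h' : Matrix.GeneralLinearGroup ι F) : Matrix ι ι F).det = 1 →
      ∃ n ∈ commutator ↥(Cfsg.isometryGroup F (⇑Q)), n = h' ∨ n = ℓ * h' := by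
    intro h' hd'
    rcases Int.units_eq_one_or (spinSign Q h') with hs | hs
    · exact ⟨h', (mem_commutator_iff_spinSign_det Q h2 hQ h').2 ⟨hs, hd'⟩, Or.inl rfl⟩
    · refine ⟨ℓ * h', (mem_commutator_iff_spinSign_det Q h2 hQ _).2 ⟨?_, ?_⟩, Or.inr rfl⟩
      · rw [map_mul, hℓs, hs]
        rfl
      · rw [det_coe_mul, hℓd, hd', one_mul]
  rcases det_pm_one Q h2 hQ h with hd | hd
  · obtain ⟨n, hn, hn'⟩ := key h hd
    refine ⟨n, hn, ?_⟩
    rcases hn' with r | r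
    · exact Or.inl r
    · exact Or.inr (Or.inl r)
  · obtain ⟨n, hn, hn'⟩ := key (s * h) (by rw [det_coe_mul, hsd, hd]; ring)
    refine ⟨n, hn, ?_⟩
    rcases hn' with r | r
    · exact Or.inr (Or.inr (Or.inl r))
    · exact Or.inr (Or.inr (Or.inr r))

end Gen

section Weyl
variable {F : Type*} [Field F] {k : ℕ}

/-- The linear map `tri x y z ↦ tri (N y) (N' x) z`. -/
def wLin (N N' : Matrix (Fin k) (Fin k) F) :
    ((Fin k ⊕ Fin k) ⊕ Fin 2 → F) →ₗ[F] ((Fin k ⊕ Fin k) ⊕ Fin 2 → F) where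
  toFun v := tri (N *ᵥ Cfsg.Agent.H44.M.py v) (N' *ᵥ Cfsg.Agent.H44.M.px v) (Cfsg.Agent.H44.M.pz v)
  map_add' := by
    intro v w
    obtain ⟨x, y, z, rfl⟩ := tri_eta v
    obtain ⟨x', y', z', rfl⟩ := tri_eta w
    rw [tri_add]
    show tri (N *ᵥ (y + y')) (N' *ᵥ (x + x')) (z + z')
      = tri (N *ᵥ y) (N' *ᵥ x) z + tri (N *ᵥ y') (N' *ᵥ x') z'
    rw [tri_add, Matrix.mulVec_add, Matrix.mulVec_add]
  map_smul' := by
    intro c v
    obtain ⟨x, y, z, rfl⟩ := tri_eta v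
    rw [tri_smul]
    show tri (N *ᵥ (c • y)) (N' *ᵥ (c • x)) (c • z) = c • tri (N *ᵥ y) (N' *ᵥ x) z
    rw [tri_smul, Matrix.mulVec_smul, Matrix.mulVec_smul]

theorem wLin_tri (N N' : Matrix (Fin k) (Fin k) F) (x y : Fin k → F) (z : Fin 2 → F) :
    wLin N N' (tri x y z) = tri (N *ᵥ y) (N' *ᵥ x) z := rfl

theorem wLin_comp (N N' M M' : Matrix (Fin k) (Fin k) F) (h1 : N * M' = 1) (h2 : N' * M = 1) :
    wLin N N' ∘ₗ wLin M M' = LinearMap.id := by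
  apply LinearMap.ext
  intro v
  obtain ⟨x, y, z, rfl⟩ := tri_eta v
  rw [LinearMap.comp_apply, wLin_tri, wLin_tri, Matrix.mulVec_mulVec, Matrix.mulVec_mulVec, h1, h2,
    Matrix.one_mulVec, Matrix.one_mulVec]
  rfl

theorem wLin_isometry (a b : F) (N N' : Matrix (Fin k) (Fin k) F) (h : Nᵀ * N' = 1)
    (v : (Fin k ⊕ Fin k) ⊕ Fin 2 → F) : QMin k F a b (wLin N N' v) = QMin k F a b v := by
  obtain ⟨x, y, z, rfl⟩ := tri_eta v
  have e : (N *ᵥ y) ⬝ᵥ (N' *ᵥ x) = y ⬝ᵥ (Nᵀ *ᵥ (N' *ᵥ x)) := by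
    rw [Matrix.dotProduct_mulVec y, Matrix.vecMul_transpose]
  rw [wLin_tri, QMin_tri, QMin_tri, e, Matrix.mulVec_mulVec, h, Matrix.one_mulVec,
    dotProduct_comm]

theorem levi_mul_weyl {a b : F} (h g : OM k F a b) (A A' N N' : Matrix (Fin k) (Fin k) F)
    (ρ ν : Matrix (Fin 2) (Fin 2) F) (hh : IsLevi h A A' ρ) (hg : IsWeyl g N N' ν) :
    IsWeyl (h * g) (A * N) (A' * N') (ρ * ν) := by
  intro x y z
  rw [act_mul, hg, hh, Matrix.mulVec_mulVec, Matrix.mulVec_mulVec, Matrix.mulVec_mulVec]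

theorem isWeyl_congr {a b : F} {n : OM k F a b} {N N' M M' : Matrix (Fin k) (Fin k) F}
    {ν μ : Matrix (Fin 2) (Fin 2) F} (hn : IsWeyl n N N' ν) (h1 : N = M) (h2 : N' = M')
    (h3 : ν = μ) : IsWeyl n M M' μ := by
  subst h1 h2 h3
  exact hn

end Weyl

section Main
variable {F : Type*} [Field F] {k : ℕ}

theorem mem_n [Fintype F] (a b : F)
    (hab : ∀ z₁ z₂ : F, z₁ ^ 2 + a * z₁ * z₂ + b * z₂ ^ 2 = 0 → z₁ = 0 ∧ z₂ = 0)
    (hk : 3 ≤ k) (B B' G G' : Matrix (Fin k) (Fin k) F)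
    (hBB' : B * B' = 1) (hB'B : B' * B = 1) (hGG' : G * G' = 1) (hG'G : G' * G = 1)
    (hGB : G * B = Bᵀ * G) (hB : (2 : F) ≠ 0 → ¬ IsSquare B.det) :
    ∃ (n : OM k F a b) (N N' : Matrix (Fin k) (Fin k) F)
      (ν : ↥(Cfsg.isometryGroup F (⇑(binQ a b)))),
      n ∈ commutator (OM k F a b) ∧ IsWeyl n N N' (bmat ν) ∧ N * Bᵀ = B * N ∧ N'ᵀ * N = 1 ∧
      (ν = 1 ∨ ν = reflG (binQ a b) ![1, 0]) := by
  classical
  have hd : a ^ 2 - 4 * b ≠ 0 := disc_ne_zero_of_aniso a b hab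
  have hQ : (QuadraticMap.polarBilin (QMin k F a b)).Nondegenerate := QMin_nondeg k a b hd
  -- transposed inverse relations
  have hGt : G'ᵀ * Gᵀ = 1 := by rw [← Matrix.transpose_mul, hGG', Matrix.transpose_one]
  have hGt' : Gᵀ * G'ᵀ = 1 := by rw [← Matrix.transpose_mul, hG'G, Matrix.transpose_one]
  -- the Weyl element
  let g : OM k F a b := Cfsg.Agent.H44.M.isoOfLin (QMin k F a b) (wLin G' Gᵀ) (wLin G'ᵀ G)
    (wLin_comp G' Gᵀ G'ᵀ G hG'G hGt') (wLin_comp G'ᵀ G G' Gᵀ hGt hGG')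
    (wLin_isometry a b G' Gᵀ hGt)
  have hb1 : bmat (1 : ↥(Cfsg.isometryGroup F (⇑(binQ a b)))) = 1 := rfl
  have hg : IsWeyl g G' Gᵀ (bmat (1 : ↥(Cfsg.isometryGroup F (⇑(binQ a b))))) := by
    intro x y z
    rw [Cfsg.Agent.H44.M.act_isoOfLin, wLin_tri, hb1, Matrix.one_mulVec]
  -- the Levi element `ℓ`
  let A : Matrix.GeneralLinearGroup (Fin k) F := ⟨B, B', hBB', hB'B⟩
  let ℓ : OM k F a b := lev a b A 1
  have hℓ : IsLevi ℓ B B'ᵀ (bmat (1 : ↥(Cfsg.isometryGroup F (⇑(binQ a b))))) :=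
    isLevi_lev a b A 1
  -- the reflection `s`
  let r : ↥(Cfsg.isometryGroup F (⇑(binQ a b))) := reflG (binQ a b) ![1, 0]
  let s : OM k F a b := lev a b 1 r
  have hs : IsLevi s 1 1 (bmat r) := by
    have := isLevi_lev (k := k) a b 1 r
    have e1 : ((1 : Matrix.GeneralLinearGroup (Fin k) F) : Matrix (Fin k) (Fin k) F) = 1 := rfl
    have e2 : (((1 : Matrix.GeneralLinearGroup (Fin k) F)⁻¹ : Matrix.GeneralLinearGroup (Fin k) F) :
        Matrix (Fin k) (Fin k) F)ᵀ = 1 := by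
      rw [inv_one, e1, Matrix.transpose_one]
    rw [e1, e2] at this
    exact this
  have hsr : s = reflG (QMin k F a b) (Sum.elim 0 ![1, 0]) := by
    show blockIsoQ (QP k F) (binQ a b) (leviO k F 1, r) = _
    rw [map_one]
    exact blockIsoQ_reflG_right (QP k F) (binQ a b) ![1, 0]
  have hQv : QMin k F a b (Sum.elim 0 ![1, 0]) ≠ 0 := by
    have : QMin k F a b (Sum.elim 0 ![1, 0]) = 1 := by
      show QMin k F a b (tri 0 0 ![1, 0]) = 1
      rw [QMin_tri, binQ_apply]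
      simp
    rw [this]
    exact one_ne_zero
  -- matrix identities
  have hNB : G' * Bᵀ = B * G' := by
    calc G' * Bᵀ = G' * (Bᵀ * G) * G' := by
          simp only [Matrix.mul_assoc, hGG', Matrix.mul_one]
      _ = G' * (G * B) * G' := by rw [hGB]
      _ = B * G' := by rw [← Matrix.mul_assoc G' G B, hG'G, Matrix.one_mul]
  have hNN : Gᵀᵀ * G' = 1 := by rw [Matrix.transpose_transpose, hGG']
  have hNB2 : (B * G') * Bᵀ = B * (B * G') := by rw [Matrix.mul_assoc, hNB]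
  have hNN2 : (B'ᵀ * Gᵀ)ᵀ * (B * G') = 1 := by
    rw [Matrix.transpose_mul, Matrix.transpose_transpose, Matrix.transpose_transpose]
    calc G * B' * (B * G') = G * (B' * B) * G' := by simp only [Matrix.mul_assoc]
      _ = 1 := by rw [hB'B, Matrix.mul_one, hGG']
  -- the four candidates
  have hcand : ∃ n ∈ commutator (OM k F a b), n = g ∨ n = ℓ * g ∨ n = s * g ∨ n = ℓ * (s * g) := by
    by_cases h2 : (2 : F) = 0
    · have hV := finrank_minus (F := F) k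
      rcases mem_commutator_or_two (QMin k F a b) h2 hQ hV (Or.inr (by omega)) g with h | h
      · exact ⟨g, h, Or.inl rfl⟩
      · exact ⟨s * g, h s ⟨_, hQv, hsr⟩, Or.inr (Or.inr (Or.inl rfl))⟩
    · refine exists_omega_odd (QMin k F a b) h2 hQ ℓ s ?_ ?_ ?_ g
      · have := det_blockIsoQ (QP k F) (binQ a b) (leviO k F A, 1)
        rw [det_leviO] at this
        rw [show ℓ = blockIsoQ (QP k F) (binQ a b) (leviO k F A, 1) from rfl, this]
        simp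
      · show spinSign (sumQ (QP k F) (binQ a b)) (blockIsoQ (QP k F) (binQ a b) (leviO k F A, 1))
          = -1
        rw [spinSign_blockIsoQ_left (QP k F) (binQ a b) h2 (QP_nondeg k F), spinSign_leviO k F h2]
        apply Units.ext
        rw [MulChar.coe_toUnitHom, Matrix.GeneralLinearGroup.val_det_apply]
        have : quadraticChar F (B.det) = -1 := quadraticChar_neg_one_iff_not_isSquare.mpr (hB h2)
        simpa using this
      · rw [hsr]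
        exact det_reflectionMatrix (QMin k F a b) _ hQv
  obtain ⟨n, hn, hcase⟩ := hcand
  rcases hcase with rfl | rfl | rfl | rfl
  · exact ⟨g, G', Gᵀ, 1, hn, hg, hNB, hNN, Or.inl rfl⟩
  · refine ⟨ℓ * g, B * G', B'ᵀ * Gᵀ, 1, hn, ?_, hNB2, hNN2, Or.inl rfl⟩
    exact isWeyl_congr (levi_mul_weyl ℓ g _ _ _ _ _ _ hℓ hg) rfl rfl (by rw [hb1, Matrix.mul_one])
  · refine ⟨s * g, G', Gᵀ, r, hn, ?_, hNB, hNN, Or.inr rfl⟩
    exact isWeyl_congr (levi_mul_weyl s g _ _ _ _ _ _ hs hg) (Matrix.one_mul _) (Matrix.one_mul _)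
      (by rw [hb1, Matrix.mul_one])
  · refine ⟨ℓ * (s * g), B * G', B'ᵀ * Gᵀ, r, hn, ?_, hNB2, hNN2, Or.inr rfl⟩
    exact isWeyl_congr (levi_mul_weyl ℓ (s * g) _ _ _ _ _ _ hℓ (levi_mul_weyl s g _ _ _ _ _ _ hs hg))
      (by rw [Matrix.one_mul]) (by rw [Matrix.one_mul])
      (by rw [hb1, Matrix.mul_one, Matrix.one_mul])

end Main

end Cfsg.Agent.H25.M

section Check
open Matrix Cfsg.Agent.H49 Cfsg.Agent.H45.M
variable {F : Type*} [Field F] {k : ℕ}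

example [Fintype F] (a b : F)
    (hab : ∀ z₁ z₂ : F, z₁ ^ 2 + a * z₁ * z₂ + b * z₂ ^ 2 = 0 → z₁ = 0 ∧ z₂ = 0)
    (hk : 3 ≤ k) (B B' G G' : Matrix (Fin k) (Fin k) F)
    (hBB' : B * B' = 1) (hB'B : B' * B = 1) (hGG' : G * G' = 1) (hG'G : G' * G = 1)
    (hGB : G * B = Bᵀ * G) (hB : (2 : F) ≠ 0 → ¬ IsSquare B.det) :
    ∃ (n : OM k F a b) (N N' : Matrix (Fin k) (Fin k) F)
      (ν : ↥(Cfsg.isometryGroup F (⇑(binQ a b)))),
      n ∈ commutator (OM k F a b) ∧ IsWeyl n N N' (bmat ν) ∧ N * Bᵀ = B * N ∧ N'ᵀ * N = 1 ∧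
      (ν = 1 ∨ ν = reflG (binQ a b) ![1, 0]) :=
  Cfsg.Agent.H25.M.mem_n a b hab hk B B' G G' hBB' hB'B hGG' hG'G hGB hB

end Check
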