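import Mathlib
import Cfsg.Agent.H45.MDefs

set_option autoImplicit false

/-!
# S2415, piece M-WEYL (helper25 for helper45)

Weyl-type elements of the minus-type orthogonal group: conjugating lower unipotent elements to
upper unipotent ones, and conjugating Levi elements.
-/

open Matrix Cfsg.Agent.H49 Cfsg.Agent.H45.M

namespace Cfsg.Agent.H25.M

variable {F : Type*} [Field F] {k : ℕ}

theorem mat_eq_of_dot {m n : Type*} [Fintype m] [Fintype n] [DecidableEq m] [DecidableEq n]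
    (M M' : Matrix m n F)
    (h : ∀ (x : m → F) (y : n → F), x ⬝ᵥ (M *ᵥ y) = x ⬝ᵥ (M' *ᵥ y)) : M = M' := by
  ext i j
  have := h (Pi.single i 1) (Pi.single j 1)
  simpa using this

theorem mulVec_dot {m n : Type*} [Fintype m] [Fintype n] (M : Matrix m n F) (y : n → F)
    (w : m → F) : (M *ᵥ y) ⬝ᵥ w = y ⬝ᵥ (Mᵀ *ᵥ w) := by
  rw [Matrix.dotProduct_mulVec, Matrix.vecMul_transpose]

/-- A Weyl-type isometry has `Nᵀ * N' = 1`. -/
theorem weyl_mul {a b : F} (n : OM k F a b) (N N' : Matrix (Fin k) (Fin k) F)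
    (ν : Matrix (Fin 2) (Fin 2) F) (hn : IsWeyl n N N' ν) : Nᵀ * N' = 1 := by
  apply mat_eq_of_dot
  intro y x
  have h1 := polar_act (QMin k F a b) n (tri 0 y 0) (tri x 0 0)
  rw [hn, hn, polar_tri, polar_tri] at h1
  simp only [Matrix.mulVec_zero, dotProduct_zero, add_zero, zero_add] at h1
  rw [mulVec_dot, Matrix.mulVec_mulVec] at h1
  rw [Matrix.one_mulVec, dotProduct_comm y x]
  exact h1

/-- A Weyl-type isometry has `νᵀ * gam * ν = gam`. -/
theorem weyl_gam {a b : F} (n : OM k F a b) (N N' : Matrix (Fin k) (Fin k) F)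
    (ν : Matrix (Fin 2) (Fin 2) F) (hn : IsWeyl n N N' ν) : νᵀ * gam a b * ν = gam a b := by
  apply mat_eq_of_dot
  intro z z'
  have h1 := polar_act (QMin k F a b) n (tri 0 0 z) (tri 0 0 z')
  rw [hn, hn, polar_tri, polar_tri] at h1
  simp only [Matrix.mulVec_zero, dotProduct_zero, add_zero, zero_add] at h1
  rw [mulVec_dot, Matrix.mulVec_mulVec, Matrix.mulVec_mulVec] at h1
  exact h1

/-- The `ν`-block of a Weyl-type isometry is invertible. -/
theorem weyl_nu_inv {a b : F} (n : OM k F a b) (N N' : Matrix (Fin k) (Fin k) F)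
    (ν : Matrix (Fin 2) (Fin 2) F) (hn : IsWeyl n N N' ν) :
    ∃ ν' : Matrix (Fin 2) (Fin 2) F, ν * ν' = 1 ∧ ν' * ν = 1 := by
  have hinj : Function.Injective (ν.mulVec) := by
    intro z z' hzz'
    have h1 : act n (tri 0 0 z) = act n (tri 0 0 z') := by
      rw [hn, hn]
      show tri _ _ (ν.mulVec z) = tri _ _ (ν.mulVec z')
      rw [hzz']
    exact (tri_inj (act_injective n h1)).2.2
  have hu : IsUnit ν := Matrix.mulVec_injective_iff_isUnit.mp hinj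
  obtain ⟨u, rfl⟩ := hu
  exact ⟨((u⁻¹ : (Matrix (Fin 2) (Fin 2) F)ˣ) : Matrix (Fin 2) (Fin 2) F), u.mul_inv, u.inv_mul⟩

/-- The action of the inverse of a Weyl-type isometry. -/
theorem weyl_inv_act {a b : F} (n : OM k F a b) (N N' : Matrix (Fin k) (Fin k) F)
    (ν ν' : Matrix (Fin 2) (Fin 2) F) (hn : IsWeyl n N N' ν) (hν : ν * ν' = 1)
    (x y : Fin k → F) (z : Fin 2 → F) :
    act n⁻¹ (tri x y z) = tri (Nᵀ *ᵥ y) (N'ᵀ *ᵥ x) (ν' *ᵥ z) := by
  have h1 : Nᵀ * N' = 1 := weyl_mul n N N' ν hn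
  have h2 : N' * Nᵀ = 1 := mul_eq_one_comm.mp h1
  have h3 : N * N'ᵀ = 1 := by
    have := congrArg Matrix.transpose h2
    rwa [Matrix.transpose_mul, Matrix.transpose_transpose, Matrix.transpose_one] at this
  have h4 : act n (tri (Nᵀ *ᵥ y) (N'ᵀ *ᵥ x) (ν' *ᵥ z)) = tri x y z := by
    rw [hn, Matrix.mulVec_mulVec, Matrix.mulVec_mulVec, Matrix.mulVec_mulVec, h2, h3, hν,
      Matrix.one_mulVec, Matrix.one_mulVec, Matrix.one_mulVec]
  rw [← h4, act_inv_act]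

theorem isLevi_conj_weyl {a b : F} (n g : OM k F a b) (N N' A A' : Matrix (Fin k) (Fin k) F)
    (ν ν' ρ : Matrix (Fin 2) (Fin 2) F) (hn : IsWeyl n N N' ν) (hν : ν * ν' = 1)
    (hg : IsLevi g A A' ρ) :
    IsLevi (n * g * n⁻¹) (N * A' * N'ᵀ) (N' * A * Nᵀ) (ν * ρ * ν') := by
  intro x y z
  rw [act_mul, act_mul, weyl_inv_act n N N' ν ν' hn hν, hg, hn]
  simp only [Matrix.mulVec_mulVec, Matrix.mul_assoc]

theorem qlow_of_weyl {a b : F} (K : Subgroup (OM k F a b)) (hU : Qin K) (n : OM k F a b)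
    (N N' : Matrix (Fin k) (Fin k) F) (ν : Matrix (Fin 2) (Fin 2) F) (hn : IsWeyl n N N' ν)
    (hnK : n ∈ K) : Qlow K := by
  intro g γ S hg
  obtain ⟨ν', hν, hν'⟩ := weyl_nu_inv n N N' ν hn
  have h1 : Nᵀ * N' = 1 := weyl_mul n N N' ν hn
  have h5 : N'ᵀ * N = 1 := by
    have := congrArg Matrix.transpose h1
    rwa [Matrix.transpose_mul, Matrix.transpose_transpose, Matrix.transpose_one] at this
  have hgam : νᵀ * gam a b * ν = gam a b := weyl_gam n N N' ν hn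
  have hgam' : ν'ᵀ * gam a b = gam a b * ν := by
    have hνt : ν'ᵀ * νᵀ = 1 := by
      rw [← Matrix.transpose_mul, hν, Matrix.transpose_one]
    calc ν'ᵀ * gam a b = ν'ᵀ * (νᵀ * gam a b * ν) := by rw [hgam]
      _ = (ν'ᵀ * νᵀ) * gam a b * ν := by simp only [Matrix.mul_assoc]
      _ = gam a b * ν := by rw [hνt, Matrix.one_mul]
  have hIsU : IsU (n⁻¹ * g * n) (ν' * γ * N) (Nᵀ * S * N) := by
    intro x y z
    rw [act_mul, act_mul, hn, hg, weyl_inv_act n N N' ν ν' hn hν]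
    have e1 : Nᵀ *ᵥ (N' *ᵥ x + S *ᵥ N *ᵥ y - (γᵀ * gam a b) *ᵥ ν *ᵥ z)
        = x + (Nᵀ * S * N) *ᵥ y - ((ν' * γ * N)ᵀ * gam a b) *ᵥ z := by
      rw [Matrix.mulVec_sub, Matrix.mulVec_add]
      simp only [Matrix.mulVec_mulVec]
      rw [h1, Matrix.one_mulVec]
      have e0 : (ν' * γ * N)ᵀ * gam a b = Nᵀ * (γᵀ * gam a b * ν) := by
        simp only [Matrix.transpose_mul, Matrix.mul_assoc]
        rw [hgam']
      rw [e0]
      simp only [Matrix.mul_assoc]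
    have e2 : N'ᵀ *ᵥ N *ᵥ y = y := by
      rw [Matrix.mulVec_mulVec, h5, Matrix.one_mulVec]
    have e3 : ν' *ᵥ (ν *ᵥ z + γ *ᵥ N *ᵥ y) = z + (ν' * γ * N) *ᵥ y := by
      rw [Matrix.mulVec_add]
      simp only [Matrix.mulVec_mulVec]
      rw [hν', Matrix.one_mulVec]
      simp only [Matrix.mul_assoc]
    rw [e1, e2, e3]
  have hmem : n⁻¹ * g * n ∈ K := hU _ _ _ hIsU
  have : g = n * (n⁻¹ * g * n) * n⁻¹ := by group
  rw [this]
  exact K.mul_mem (K.mul_mem hnK hmem) (K.inv_mem hnK)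

end Cfsg.Agent.H25.M

section Check
variable {F : Type*} [Field F] {k : ℕ}

example {a b : F} (K : Subgroup (OM k F a b)) (hU : Qin K) (n : OM k F a b)
    (N N' : Matrix (Fin k) (Fin k) F) (ν : Matrix (Fin 2) (Fin 2) F) (hn : IsWeyl n N N' ν)
    (hnK : n ∈ K) : Qlow K := Cfsg.Agent.H25.M.qlow_of_weyl K hU n N N' ν hn hnK

example {a b : F} (n g : OM k F a b) (N N' A A' : Matrix (Fin k) (Fin k) F)
    (ν ν' ρ : Matrix (Fin 2) (Fin 2) F) (hn : IsWeyl n N N' ν) (hν : ν * ν' = 1)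
    (hg : IsLevi g A A' ρ) :
    IsLevi (n * g * n⁻¹) (N * A' * N'ᵀ) (N' * A * Nᵀ) (ν * ρ * ν') :=
  Cfsg.Agent.H25.M.isLevi_conj_weyl n g N N' A A' ν ν' ρ hn hν hg

end Check

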