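import Mathlib
import Cfsg.Agent.S0519
import Cfsg.Agent.H25.Tau1
import Cfsg.Agent.H25.QD4
import Cfsg.Agent.H59.UniqueOrderP
import Cfsg.Agent.H3.PGroup

/-!
# Normal four-groups in 2-groups of rank at least 3 (helper25)

* `dbl V e`: the subgroup `V ∪ V e` for an involution `e` centralizing `V`.
* `exists_normal_four`: a finite `2`-group containing an elementary abelian subgroup of order `8`
  has a normal four-group `{1, z, v, z v}` (with `z` central).
-/

set_option autoImplicit false

namespace Cfsg.Agent.H25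

section Dbl

variable {G : Type*} [Group G]

/-- `V ∪ V e` for an involution `e` centralizing `V`. -/
def dbl (V : Subgroup G) (e : G) (he : e * e = 1) (hc : ∀ v ∈ V, e * v = v * e) : Subgroup G where
  carrier := {x | x ∈ V ∨ x * e ∈ V}
  one_mem' := Or.inl V.one_mem
  mul_mem' := by
    rintro x y (hx | hx) (hy | hy)
    · exact Or.inl (V.mul_mem hx hy)
    · right
      have : x * y * e = x * (y * e) := by group
      rw [this]; exact V.mul_mem hx hy
    · right
      have : x * y * e = (x * e) * y := by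
        rw [mul_assoc, mul_assoc, hc y hy]
      rw [this]; exact V.mul_mem hx hy
    · left
      have : x * y = (x * e) * (y * e) := by
        have h1 := hc (y * e) hy
        calc x * y = x * (y * (e * e)) := by rw [he, mul_one]
          _ = x * ((y * e) * e) := by group
          _ = x * (e * (y * e)) := by rw [h1]
          _ = (x * e) * (y * e) := by group
      rw [this]; exact V.mul_mem hx hy
  inv_mem' := by
    rintro x (hx | hx)
    · exact Or.inl (V.inv_mem hx)
    · right
      have hei : e⁻¹ = e := inv_eq_of_mul_eq_one_right he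
      have h1 := hc (x * e) hx
      have h2 : e * x = x * e := by
        calc e * x = e * (x * (e * e)) := by rw [he, mul_one]
          _ = (e * (x * e)) * e := by group
          _ = ((x * e) * e) * e := by rw [h1]
          _ = x * (e * e) * e := by group
          _ = x * e := by rw [he, mul_one]
      have h3 : x⁻¹ * e = (x * e)⁻¹ := by
        rw [← h2, mul_inv_rev, hei]
      rw [h3]; exact V.inv_mem hx

theorem mem_dbl {V : Subgroup G} {e : G} {he : e * e = 1} {hc : ∀ v ∈ V, e * v = v * e} {x : G} :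
    x ∈ dbl V e he hc ↔ x ∈ V ∨ x * e ∈ V := Iff.rfl

theorem le_dbl (V : Subgroup G) (e : G) (he : e * e = 1) (hc : ∀ v ∈ V, e * v = v * e) :
    V ≤ dbl V e he hc := fun _ hx => Or.inl hx

theorem self_mem_dbl (V : Subgroup G) (e : G) (he : e * e = 1) (hc : ∀ v ∈ V, e * v = v * e) :
    e ∈ dbl V e he hc := Or.inr (by rw [he]; exact V.one_mem)

theorem comm_of_mem_dbl {V : Subgroup G} {e : G} {he : e * e = 1} {hc : ∀ v ∈ V, e * v = v * e}
    {x : G} (hx : x ∈ dbl V e he hc) : e * x = x * e := by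
  rcases hx with hx | hx
  · exact hc x hx
  · have h1 := hc (x * e) hx
    calc e * x = e * (x * (e * e)) := by rw [he, mul_one]
      _ = (e * (x * e)) * e := by group
      _ = ((x * e) * e) * e := by rw [h1]
      _ = x * (e * e) * e := by group
      _ = x * e := by rw [he, mul_one]

theorem sq_dbl {V : Subgroup G} {e : G} {he : e * e = 1} {hc : ∀ v ∈ V, e * v = v * e}
    (hV : ∀ v ∈ V, v * v = 1) {x : G} (hx : x ∈ dbl V e he hc) : x * x = 1 := by
  have h2 := comm_of_mem_dbl hx
  rcases hx with hx | hx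
  · exact hV x hx
  · have h3 := hV _ hx
    calc x * x = x * x * (e * e) := by rw [he, mul_one]
      _ = x * (x * e) * e := by group
      _ = x * (e * x) * e := by rw [h2]
      _ = (x * e) * (x * e) := by group
      _ = 1 := h3

theorem card_dbl [Finite G] {V : Subgroup G} {e : G} {he : e * e = 1}
    {hc : ∀ v ∈ V, e * v = v * e} (heV : e ∉ V) :
    Nat.card (dbl V e he hc) = 2 * Nat.card V := by
  have hset : ((dbl V e he hc : Subgroup G) : Set G) = (V : Set G) ∪ (fun x => x * e) '' (V : Set G) := by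
    ext x
    constructor
    · rintro (hx | hx)
      · exact Or.inl hx
      · exact Or.inr ⟨x * e, hx, by simp [mul_assoc, he]⟩
    · rintro (hx | ⟨v, hv, rfl⟩)
      · exact Or.inl hx
      · refine Or.inr ?_
        have : v * e * e = v := by rw [mul_assoc, he, mul_one]
        rw [this]; exact hv
  have hdisj : Disjoint (V : Set G) ((fun x => x * e) '' (V : Set G)) := by
    rw [Set.disjoint_left]
    rintro x hx ⟨v, hv, rfl⟩
    apply heV
    have : e = v⁻¹ * (v * e) := by group
    rw [this]; exact V.mul_mem (V.inv_mem hv) hx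
  have hinj : Function.Injective (fun x : G => x * e) := fun a b h => mul_right_cancel h
  have h1 : Nat.card (dbl V e he hc) = ((dbl V e he hc : Subgroup G) : Set G).ncard :=
    Nat.card_coe_set_eq _
  have h2 : Nat.card V = (V : Set G).ncard := Nat.card_coe_set_eq _
  rw [h1, hset, Set.ncard_union_eq hdisj (Set.toFinite _) (Set.toFinite _),
    Set.ncard_image_of_injective _ hinj, h2]
  ring

end Dbl

/-- A finite cyclic group of exponent `2` has at most `2` elements. -/
theorem card_le_two_of_cyclic_sq {C : Type*} [Group C] [Finite C] [IsCyclic C]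
    (h : ∀ c : C, c * c = 1) : Nat.card C ≤ 2 := by
  obtain ⟨g, hg⟩ := IsCyclic.exists_generator (α := C)
  rw [← orderOf_eq_card_of_forall_mem_zpowers hg]
  exact orderOf_le_of_pow_eq_one (by norm_num) (by rw [pow_two]; exact h g)

/-- An elementary abelian `2`-subgroup of a group with a cyclic subgroup of index `2` has order
at most `4`. -/
theorem card_le_four_of_index_two {P : Type*} [Group P] [Finite P] (C : Subgroup P) [IsCyclic C]
    (hC : C.index = 2) (E : Subgroup P) (hE : ∀ e ∈ E, e * e = 1) : Nat.card E ≤ 4 := by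
  have h1 := Cfsg.Agent.H3.relIndex_mul_card_inf C E
  have h2 : C.relIndex E ≤ 2 := by
    have := Subgroup.relIndex_le_of_le_right (H := C) (le_top : E ≤ ⊤)
      (by rw [Subgroup.relIndex_top_right, hC]; norm_num)
    rwa [Subgroup.relIndex_top_right, hC] at this
  have h3 : Nat.card (C ⊓ E : Subgroup P) ≤ 2 := by
    have : IsCyclic ((C ⊓ E).subgroupOf C) := inferInstance
    have : IsCyclic (C ⊓ E : Subgroup P) :=
      (Subgroup.subgroupOfEquivOfLe (inf_le_left : C ⊓ E ≤ C)).isCyclic.mp inferInstance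
    exact card_le_two_of_cyclic_sq (fun c => Subtype.ext (hE c.1 c.2.2))
  calc Nat.card E = C.relIndex E * Nat.card (C ⊓ E : Subgroup P) := h1.symm
    _ ≤ 2 * 2 := Nat.mul_le_mul h2 h3
    _ = 4 := by norm_num

/-- A non-cyclic finite abelian `2`-group has two distinct involutions. -/
theorem exists_two_invol_of_not_cyclic {A : Type*} [Group A] [Finite A] (hA : IsPGroup 2 A)
    (hc : ∀ a b : A, a * b = b * a) (hn : ¬ IsCyclic A) :
    ∃ x y : A, x ≠ 1 ∧ y ≠ 1 ∧ x ≠ y ∧ x * x = 1 ∧ y * y = 1 := by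
  have : Fact (Nat.Prime 2) := ⟨Nat.prime_two⟩
  by_contra hcon
  push Not at hcon
  apply hn
  obtain ⟨a, hmax⟩ := Finite.exists_max (fun g : A => orderOf g)
  refine isCyclic_iff_exists_zpowers_eq_top.mpr ⟨a, eq_top_iff.mpr fun b _ => ?_⟩
  refine Cfsg.Agent.H59.mem_zpowers_of_commute_max 2 hA ?_ a hmax b (hc b a)
  have key : ∀ H : Subgroup A, Nat.card H = 2 → ∃ h : A, h ≠ 1 ∧ h * h = 1 ∧ H = Subgroup.zpowers h := by
    intro H hH
    have hne : H ≠ ⊥ := by
      rintro rfl
      rw [Subgroup.card_bot] at hH; omega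
    obtain ⟨⟨h, hhH⟩, hh1'⟩ := (Subgroup.ne_bot_iff_exists_ne_one).mp hne
    have hh1 : h ≠ 1 := fun e => hh1' (Subtype.ext e)
    have hsq : h * h = 1 := by
      have h1 : (⟨h, hhH⟩ : H) ^ Nat.card H = 1 := pow_card_eq_one'
      rw [hH] at h1
      have h2 := congrArg Subtype.val h1
      simpa [pow_two] using h2
    refine ⟨h, hh1, hsq, ?_⟩
    symm
    apply Subgroup.eq_of_le_of_card_ge
    · rw [Subgroup.zpowers_le]; exact hhH
    · rw [Nat.card_zpowers, hH]
      exact (orderOf_eq_prime (by rw [pow_two]; exact hsq) hh1).ge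
  intro H K hH hK
  obtain ⟨h, hh1, hhh, rfl⟩ := key H hH
  obtain ⟨k, hk1, hkk, rfl⟩ := key K hK
  by_cases hhk : h = k
  · rw [hhk]
  · exact absurd hkk (hcon h k hh1 hk1 hhk hhh)

/-- A non-cyclic abelian normal subgroup of a finite `2`-group yields a normal four-group. -/
theorem exists_four_of_normal_abelian {P : Type*} [Group P] [Finite P] (hP : IsPGroup 2 P)
    (A : Subgroup P) (hAn : A.Normal) (hAc : ∀ a ∈ A, ∀ b ∈ A, a * b = b * a)
    (hnc : ¬ IsCyclic A) :
    ∃ z v : P, z ≠ 1 ∧ z * z = 1 ∧ v ≠ 1 ∧ v * v = 1 ∧ z ≠ v ∧ z * v = v * z ∧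
      (∀ h : P, h * z * h⁻¹ = z) ∧ (∀ h : P, h * v * h⁻¹ = v ∨ h * v * h⁻¹ = z * v) := by
  -- the subgroup of elements of `A` squaring to `1`
  let Om : Subgroup P :=
    { carrier := {x | x ∈ A ∧ x * x = 1}
      one_mem' := ⟨A.one_mem, by simp⟩
      mul_mem' := by
        rintro x y ⟨hx, hx2⟩ ⟨hy, hy2⟩
        refine ⟨A.mul_mem hx hy, ?_⟩
        calc x * y * (x * y) = x * (y * x) * y := by group
          _ = x * (x * y) * y := by rw [hAc y hy x hx]
          _ = (x * x) * (y * y) := by group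
          _ = 1 := by rw [hx2, hy2, one_mul]
      inv_mem' := by
        rintro x ⟨hx, hx2⟩
        refine ⟨A.inv_mem hx, ?_⟩
        rw [← mul_inv_rev, hx2, inv_one] }
  have hOm : ∀ x, x ∈ Om ↔ x ∈ A ∧ x * x = 1 := fun x => Iff.rfl
  have hOmN : Om.Normal := by
    constructor
    intro x hx g
    rw [hOm] at hx ⊢
    refine ⟨hAn.conj_mem x hx.1 g, ?_⟩
    calc g * x * g⁻¹ * (g * x * g⁻¹) = g * (x * x) * g⁻¹ := by group
      _ = 1 := by rw [hx.2]; group
  obtain ⟨x, y, hx1, hy1, hxy, hxx, hyy⟩ :=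
    exists_two_invol_of_not_cyclic (hP.to_subgroup A)
      (fun a b => Subtype.ext (hAc a.1 a.2 b.1 b.2)) hnc
  have hxOm : (x : P) ∈ Om := ⟨x.2, congrArg Subtype.val hxx⟩
  have hyOm : (y : P) ∈ Om := ⟨y.2, congrArg Subtype.val hyy⟩
  have hOmne : Om ≠ ⊥ := by
    intro h
    rw [h, Subgroup.mem_bot] at hxOm
    exact hx1 (Subtype.ext hxOm)
  obtain ⟨z, hzOm, hzc, hzo⟩ := exists_central_invol hP Om hOmne
  have hz1 : z ≠ 1 := by
    rintro rfl
    rw [orderOf_one] at hzo; omega
  have hzz : z * z = 1 := by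
    have := pow_orderOf_eq_one z
    rwa [hzo, pow_two] at this
  have hzcomm : ∀ g : P, g * z = z * g := fun g => Subgroup.mem_center_iff.mp hzc g
  have hZn : (Subgroup.zpowers z).Normal := by
    constructor
    intro n hn g
    obtain ⟨k, rfl⟩ := Subgroup.mem_zpowers_iff.mp hn
    have : g * z ^ k * g⁻¹ = z ^ k := by
      have h1 : Commute g z := hzcomm g
      have h2 := (h1.zpow_right k).eq
      rw [h2]; group
    rw [this]; exact Subgroup.zpow_mem_zpowers z k
  have hZmem : ∀ g : P, g ∈ Subgroup.zpowers z → g = 1 ∨ g = z := by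
    intro g hg
    obtain ⟨k, rfl⟩ := Subgroup.mem_zpowers_iff.mp hg
    exact Cfsg.Agent.H59.zpow_involution hzz k
  -- an element of `Om` outside `⟨z⟩`
  obtain ⟨w, hwOm, hwZ⟩ : ∃ w ∈ Om, w ∉ Subgroup.zpowers z := by
    by_cases hxz : (x : P) = z
    · refine ⟨y, hyOm, fun hy => ?_⟩
      rcases hZmem _ hy with h | h
      · exact hy1 (Subtype.ext h)
      · exact hxy (Subtype.ext (hxz.trans h.symm))
    · refine ⟨x, hxOm, fun hx => ?_⟩
      rcases hZmem _ hx with h | h
      · exact hx1 (Subtype.ext h)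
      · exact hxz h
  let π := QuotientGroup.mk' (Subgroup.zpowers z)
  have hπsurj : Function.Surjective π := QuotientGroup.mk'_surjective _
  have hMn : (Om.map π).Normal := hOmN.map π hπsurj
  have hMne : Om.map π ≠ ⊥ := by
    intro h
    have h1 : π w ∈ Om.map π := Subgroup.mem_map_of_mem π hwOm
    rw [h, Subgroup.mem_bot] at h1
    exact hwZ ((QuotientGroup.eq_one_iff w).mp h1)
  have hQ2 : IsPGroup 2 (P ⧸ Subgroup.zpowers z) := hP.to_quotient _
  obtain ⟨u, huM, huc, huo⟩ := exists_central_invol hQ2 (Om.map π) hMne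
  obtain ⟨v, hvOm, rfl⟩ := Subgroup.mem_map.mp huM
  have hv1 : v ≠ 1 := by
    rintro rfl
    rw [map_one, orderOf_one] at huo; omega
  have hvZ : v ∉ Subgroup.zpowers z := by
    intro h
    have : π v = 1 := (QuotientGroup.eq_one_iff v).mpr h
    rw [this, orderOf_one] at huo; omega
  refine ⟨z, v, hz1, hzz, hv1, ((hOm v).mp hvOm).2, ?_, (hzcomm v).symm, ?_, ?_⟩
  · rintro rfl
    exact hvZ (Subgroup.mem_zpowers z)
  · intro h
    rw [hzcomm h]; group
  · intro h
    have h1 : π (h * v * h⁻¹) = π v := by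
      rw [map_mul, map_mul, map_inv]
      have := Subgroup.mem_center_iff.mp huc (π h)
      rw [this]; group
    have h2 : (h * v * h⁻¹) * v⁻¹ ∈ Subgroup.zpowers z := by
      rw [← QuotientGroup.eq_one_iff]
      change π (h * v * h⁻¹ * v⁻¹) = 1
      rw [map_mul, h1, map_inv, mul_inv_cancel]
    rcases hZmem _ h2 with h3 | h3
    · left
      exact mul_inv_eq_one.mp h3
    · right
      exact mul_inv_eq_iff_eq_mul.mp h3

/-- A finite `2`-group containing an elementary abelian subgroup of order `8` has a normal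
four-group `{1, z, v, z v}` with `z` central. -/
theorem exists_normal_four {P : Type*} [Group P] [Finite P] (hP : IsPGroup 2 P)
    (E : Subgroup P) (hE8 : Nat.card E = 8) (hEsq : ∀ e ∈ E, e * e = 1) :
    ∃ z v : P, z ≠ 1 ∧ z * z = 1 ∧ v ≠ 1 ∧ v * v = 1 ∧ z ≠ v ∧ z * v = v * z ∧
      (∀ h : P, h * z * h⁻¹ = z) ∧ (∀ h : P, h * v * h⁻¹ = v ∨ h * v * h⁻¹ = z * v) := by
  have : Fact (Nat.Prime 2) := ⟨Nat.prime_two⟩
  by_contra hcon
  have hn : ∀ A : Subgroup P, A.Normal → IsMulCommutative A → IsCyclic A := by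
    intro A hA hAc
    by_contra hnc
    exact hcon (exists_four_of_normal_abelian hP A hA
      (fun a ha b hb => congrArg Subtype.val (hAc.is_comm.comm (⟨a, ha⟩ : A) ⟨b, hb⟩)) hnc)
  have hEc : IsMulCommutative E := by
    refine ⟨⟨fun a b => ?_⟩⟩
    have ha := hEsq a.1 a.2
    have hb := hEsq b.1 b.2
    have hab := hEsq _ (E.mul_mem a.2 b.2)
    apply Subtype.ext
    change (a : P) * b = b * a
    calc (a : P) * b = a * ((a * b) * (a * b)) * b := by rw [hab, mul_one]
      _ = (a * a) * (b * a) * (b * b) := by group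
      _ = b * a := by rw [ha, hb, one_mul, mul_one]
  have hEnc : ¬ IsCyclic E := by
    intro hcyc
    have := card_le_two_of_cyclic_sq (C := E) (fun c => Subtype.ext (hEsq c.1 c.2))
    omega
  obtain ⟨-, hcases⟩ := Cfsg.Agent.S0519.result 2 hP hn ⟨E, hEc, hEnc⟩
  have hfin : ∀ c : P, 2 * orderOf c = Nat.card P → False := by
    intro c hc
    have hidx : (Subgroup.zpowers c).index = 2 := by
      have h1 := Subgroup.index_mul_card (Subgroup.zpowers c)
      rw [Nat.card_zpowers, ← hc] at h1
      have h2 := orderOf_pos c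
      nlinarith
    have := card_le_four_of_index_two (Subgroup.zpowers c) hidx E hEsq
    omega
  rcases hcases with ⟨n, ⟨e⟩⟩ | ⟨n, -, ⟨e⟩⟩ | hqd
  · have hord : orderOf (e.symm (QuaternionGroup.a 1)) = 2 * n := by
      rw [MulEquiv.orderOf_eq, QuaternionGroup.orderOf_a_one]
    have hn0 : n ≠ 0 := by
      rintro rfl
      have := orderOf_pos (e.symm (QuaternionGroup.a 1))
      omega
    haveI : NeZero n := ⟨hn0⟩
    apply hfin (e.symm (QuaternionGroup.a 1))
    rw [hord, Nat.card_congr e.toEquiv, Nat.card_eq_fintype_card, QuaternionGroup.card]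
    ring
  · have hord : orderOf (e.symm (DihedralGroup.r 1)) = n := by
      rw [MulEquiv.orderOf_eq, DihedralGroup.orderOf_r_one]
    apply hfin (e.symm (DihedralGroup.r 1))
    rw [hord, Nat.card_congr e.toEquiv, DihedralGroup.nat_card]
  · obtain ⟨n, m, x, y, -, -, -, hQD⟩ := qd_of_isQuasiDihedral hqd
    have := card_le_four_of_index_two (Subgroup.zpowers x) hQD.index_zpowers E hEsq
    omega

end Cfsg.Agent.H25
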