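import Cfsg.Agent.H98.PsInstDefs

/-!
# PS-I-FPF13 (helper25, for helper98 / helper7, S3664)

The elements of order 13 of `Sz(8) : 3` fix no non-zero matrix.

Route: `a = inl s`, `s` conjugate to a power of `g13` (Sylow), so a conjugate `Y` of the fixed
point satisfies `G Y = Y H` (`G = mat g13`, `H` its Frobenius twist).  With `f` the characteristic
polynomial of `H`: `f(G) Y = Y f(H) = 0` and `f(G)` is invertible.
-/

set_option autoImplicit false

namespace Cfsg.Agent.H25.Ps

open Cfsg Cfsg.Agent.H8 Cfsg.Agent.H98.Ps Matrix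

/-- elements of `𝔽₈` by bit pattern -/
abbrev o (n : ℕ) : K := Cfsg.Agent.H41.F8.ofNat n

/-- `mat g13` -/
def G13 : M := !![o 7, o 3, o 0, o 1; o 3, o 0, o 1, o 0; o 0, o 1, o 0, o 0; o 1, o 0, o 0, o 0]

/-- the Frobenius twist of `G13` -/
def H13 : M := !![o 3, o 5, o 0, o 1; o 5, o 0, o 1, o 0; o 0, o 1, o 0, o 0; o 1, o 0, o 0, o 0]

/-- the inverse of `f(G13)`, `f = X⁴ + 3X³ + 7X² + 3X + 1` the characteristic polynomial of `H13` -/
def N13 : M := !![o 4, o 5, o 7, o 5; o 5, o 6, o 4, o 7; o 7, o 4, o 4, o 1; o 5, o 7, o 1, o 0]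

/-- `G13 ^ 2` -/
def G13p2 : M := !![o 7, o 2, o 3, o 7; o 2, o 4, o 0, o 3; o 3, o 0, o 1, o 0; o 7, o 3, o 0, o 1]

/-- `G13 ^ 4` -/
def G13p4 : M := !![o 1, o 4, o 1, o 2; o 4, o 7, o 6, o 1; o 1, o 6, o 4, o 2; o 2, o 1, o 2, o 7]

/-- `G13 ^ 8` -/
def G13p8 : M := !![o 2, o 1, o 4, o 1; o 1, o 6, o 7, o 4; o 4, o 7, o 1, o 2; o 1, o 4, o 2, o 2]

set_option maxRecDepth 100000 in
theorem mat_g13 : mat g13 = G13 := by
  show mat (gU 0 (Cfsg.Agent.H41.F8.ofNat 3) * gW) = G13
  rw [mat_mul, mat_gU, mat_gW]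
  decide +kernel

set_option maxRecDepth 100000 in
theorem fm_G13 : fm frob G13 = H13 := by
  have h : G13.map (fun a => a * a) = H13 := by decide +kernel
  ext i j
  rw [fm_apply, frob_apply]
  exact congrFun (congrFun h i) j

set_option maxRecDepth 100000 in
theorem H13_poly : H13 * H13 * H13 * H13 + o 3 • (H13 * H13 * H13) + o 7 • (H13 * H13) +
    o 3 • H13 + 1 = 0 := by
  decide +kernel

set_option maxRecDepth 100000 in
theorem G13_inv : N13 * (G13 * G13 * G13 * G13 + o 3 • (G13 * G13 * G13) + o 7 • (G13 * G13) +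
    o 3 • G13 + 1) = 1 := by
  decide +kernel

set_option maxRecDepth 100000 in
theorem G13_e2 : G13 * G13 = G13p2 := by decide +kernel

set_option maxRecDepth 100000 in
theorem G13_e4 : G13p2 * G13p2 = G13p4 := by decide +kernel

set_option maxRecDepth 100000 in
theorem G13_e8 : G13p4 * G13p4 = G13p8 := by decide +kernel

set_option maxRecDepth 100000 in
theorem G13_e13 : G13p8 * G13p4 * G13 = 1 := by decide +kernel

set_option maxRecDepth 100000 in
theorem G13_ne_one : G13 ≠ 1 := by decide +kernel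

theorem G13_pow13 : G13 ^ 13 = 1 := by
  have p2 : G13 ^ 2 = G13p2 := by rw [pow_two]; exact G13_e2
  have p4 : G13 ^ 4 = G13p4 := by
    have h : G13 ^ 4 = (G13 ^ 2) ^ 2 := by rw [← pow_mul]
    rw [h, p2, pow_two]; exact G13_e4
  have p8 : G13 ^ 8 = G13p8 := by
    have h : G13 ^ 8 = (G13 ^ 4) ^ 2 := by rw [← pow_mul]
    rw [h, p4, pow_two]; exact G13_e8
  calc G13 ^ 13 = G13 ^ 8 * G13 ^ 4 * G13 ^ 1 := by rw [← pow_add, ← pow_add]
    _ = 1 := by rw [p8, p4, pow_one]; exact G13_e13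

/-- `g13` has order 13. -/
theorem order_g13 : orderOf g13 = 13 := by
  have : Fact (Nat.Prime 13) := ⟨by norm_num⟩
  apply orderOf_eq_prime
  · apply mat_inj
    rw [mat_pow, mat_one, mat_g13]
    exact G13_pow13
  · intro h
    have h2 := congrArg mat h
    rw [mat_g13, mat_one] at h2
    exact G13_ne_one h2

/-- A matrix fixed by `g13` is zero. -/
theorem zero_of_fixed (Y : M) (h : (SemidirectProduct.inl g13 : A) • Y = Y) : Y = 0 := by
  have h1 : G13 * Y = Y * H13 := by
    have := (inl_smul_eq_iff g13 Y).1 h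
    rwa [mat_g13, fm_G13] at this
  have h2 : G13 * G13 * Y = Y * (H13 * H13) := by
    calc G13 * G13 * Y = G13 * (G13 * Y) := mul_assoc _ _ _
      _ = G13 * (Y * H13) := by rw [h1]
      _ = (G13 * Y) * H13 := (mul_assoc _ _ _).symm
      _ = (Y * H13) * H13 := by rw [h1]
      _ = Y * (H13 * H13) := mul_assoc _ _ _
  have h3 : G13 * G13 * G13 * Y = Y * (H13 * H13 * H13) := by
    calc G13 * G13 * G13 * Y = G13 * G13 * (G13 * Y) := mul_assoc _ _ _
      _ = G13 * G13 * (Y * H13) := by rw [h1]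
      _ = (G13 * G13 * Y) * H13 := (mul_assoc _ _ _).symm
      _ = (Y * (H13 * H13)) * H13 := by rw [h2]
      _ = Y * (H13 * H13 * H13) := mul_assoc _ _ _
  have h4 : G13 * G13 * G13 * G13 * Y = Y * (H13 * H13 * H13 * H13) := by
    calc G13 * G13 * G13 * G13 * Y = G13 * G13 * G13 * (G13 * Y) := mul_assoc _ _ _
      _ = G13 * G13 * G13 * (Y * H13) := by rw [h1]
      _ = (G13 * G13 * G13 * Y) * H13 := (mul_assoc _ _ _).symm
      _ = (Y * (H13 * H13 * H13)) * H13 := by rw [h3]
      _ = Y * (H13 * H13 * H13 * H13) := mul_assoc _ _ _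
  have h5 : (G13 * G13 * G13 * G13 + o 3 • (G13 * G13 * G13) + o 7 • (G13 * G13) +
      o 3 • G13 + 1) * Y = 0 := by
    calc (G13 * G13 * G13 * G13 + o 3 • (G13 * G13 * G13) + o 7 • (G13 * G13) +
          o 3 • G13 + 1) * Y
        = G13 * G13 * G13 * G13 * Y + o 3 • (G13 * G13 * G13 * Y) + o 7 • (G13 * G13 * Y) +
          o 3 • (G13 * Y) + Y := by
          rw [add_mul, add_mul, add_mul, add_mul, smul_mul_assoc, smul_mul_assoc,
            smul_mul_assoc, one_mul]
      _ = Y * (H13 * H13 * H13 * H13) + o 3 • (Y * (H13 * H13 * H13)) +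
          o 7 • (Y * (H13 * H13)) + o 3 • (Y * H13) + Y := by rw [h4, h3, h2, h1]
      _ = Y * (H13 * H13 * H13 * H13 + o 3 • (H13 * H13 * H13) + o 7 • (H13 * H13) +
          o 3 • H13 + 1) := by
          rw [mul_add, mul_add, mul_add, mul_add, mul_smul_comm, mul_smul_comm, mul_smul_comm,
            mul_one]
      _ = 0 := by rw [H13_poly, mul_zero]
  calc Y = (N13 * (G13 * G13 * G13 * G13 + o 3 • (G13 * G13 * G13) + o 7 • (G13 * G13) +
          o 3 • G13 + 1)) * Y := by rw [G13_inv, one_mul]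
    _ = N13 * ((G13 * G13 * G13 * G13 + o 3 • (G13 * G13 * G13) + o 7 • (G13 * G13) +
          o 3 • G13 + 1) * Y) := mul_assoc _ _ _
    _ = 0 := by rw [h5, mul_zero]

theorem fpf13 (hS : StSyl) : StFpf13 := by
  intro a ha X hX
  -- `a` lies in `Sz(8)`
  have hr : a.right = 1 := by
    have h13 : a.right ^ 13 = 1 := by
      have h1 : a ^ 13 = 1 := by rw [← ha]; exact pow_orderOf_eq_one a
      have h2 := congrArg (SemidirectProduct.rightHom (N := S) (G := RingAut K)
        (φ := szFrob (le_refl 1) hK)) h1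
      rw [map_pow, map_one] at h2
      exact h2
    have h3 : a.right ^ 3 = 1 := by
      have := pow_card_eq_one' (G := RingAut K) (x := a.right)
      rwa [sz_card_ringAut hK] at this
    have h := (pow_gcd_eq_one (a := a.right) (m := 13) (n := 3)).2 ⟨h13, h3⟩
    have e : Nat.gcd 13 3 = 1 := by norm_num
    rwa [e, pow_one] at h
  have hal : a = SemidirectProduct.inl a.left := by
    have := SemidirectProduct.inl_left_mul_inr_right a
    rw [hr, map_one, mul_one] at this
    exact this.symm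
  obtain ⟨s, hs⟩ : ∃ s : S, s = a.left := ⟨_, rfl⟩
  rw [← hs] at hal
  have hos : orderOf s = 13 := by
    rw [← ha, hal]
    exact (orderOf_injective _ SemidirectProduct.inl_injective s).symm
  have hnd : ¬ 13 ^ 2 ∣ Nat.card S := by
    rw [sz_card (le_refl 1) hK]; norm_num
  obtain ⟨c, i, hsc⟩ := hS S 13 (by norm_num) hnd g13 s order_g13 hos
  have hXs : (SemidirectProduct.inl s : A) • X = X := by rw [← hal]; exact hX
  have hY : (SemidirectProduct.inl (g13 ^ i) : A) • ((SemidirectProduct.inl c⁻¹ : A) • X) =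
      (SemidirectProduct.inl c⁻¹ : A) • X := by
    rw [← mul_smul, ← map_mul]
    have : g13 ^ i * c⁻¹ = c⁻¹ * s := by rw [hsc]; group
    rw [this, map_mul, mul_smul, hXs]
  have hi : ¬ 13 ∣ i := by
    intro hdiv
    have h1 : g13 ^ i = 1 := by
      obtain ⟨k, rfl⟩ := hdiv
      rw [pow_mul, ← order_g13, pow_orderOf_eq_one, one_pow]
    rw [h1] at hsc
    have h2 : s = 1 := by rw [hsc]; group
    rw [h2, orderOf_one] at hos
    norm_num at hos
  have hcop : Nat.Coprime i 13 :=
    ((Nat.Prime.coprime_iff_not_dvd (by norm_num)).2 hi).symm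
  obtain ⟨j, -, hj⟩ := Nat.exists_mul_mod_eq_one_of_coprime hcop (by norm_num)
  have hpow : (g13 ^ i) ^ j = g13 := by
    rw [← pow_mul, ← pow_mod_orderOf, order_g13, hj, pow_one]
  have hY2 : (SemidirectProduct.inl g13 : A) • ((SemidirectProduct.inl c⁻¹ : A) • X) =
      (SemidirectProduct.inl c⁻¹ : A) • X := by
    have hmem : (SemidirectProduct.inl (g13 ^ i) : A) ∈
        MulAction.stabilizer A ((SemidirectProduct.inl c⁻¹ : A) • X) := hY
    have h1 := pow_mem hmem j
    rw [← map_pow, hpow] at h1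
    exact h1
  have hY0 : (SemidirectProduct.inl c⁻¹ : A) • X = 0 := zero_of_fixed _ hY2
  have h6 := congrArg (fun Z => (SemidirectProduct.inl c : A) • Z) hY0
  simp only [smul_zero] at h6
  rw [← mul_smul, ← map_mul, mul_inv_cancel, map_one, one_smul] at h6
  exact h6

/-- Verbatim check. -/
example (hS : Cfsg.Agent.H98.Ps.StSyl) : Cfsg.Agent.H98.Ps.StFpf13 := fpf13 hS

end Cfsg.Agent.H25.Ps
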