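import Cfsg.Agent.H98.PsInstDefs

/-!
# PS-I-SYL (helper25, for helper98 / helper7, S3664)

If `p² ∤ |G|`, any two elements of order `p` are conjugate up to a power (Sylow).
-/

set_option autoImplicit false

namespace Cfsg.Agent.H25.Ps

open scoped Pointwise

theorem syl : Cfsg.Agent.H98.Ps.StSyl := by
  intro G _ _ p hp hp2 g s hg hs
  have : Fact p.Prime := ⟨hp⟩
  have hPg : IsPGroup p (Subgroup.zpowers g) :=
    IsPGroup.of_card (n := 1) (by rw [Nat.card_zpowers, hg, pow_one])
  have hPs : IsPGroup p (Subgroup.zpowers s) :=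
    IsPGroup.of_card (n := 1) (by rw [Nat.card_zpowers, hs, pow_one])
  obtain ⟨Sg, hSg⟩ := hPg.exists_le_sylow
  obtain ⟨Ss, hSs⟩ := hPs.exists_le_sylow
  have hf : (Nat.card G).factorization p ≤ 1 := by
    by_contra h
    have h2 : 2 ≤ (Nat.card G).factorization p := by omega
    exact hp2 ((pow_dvd_pow p h2).trans (Nat.ordProj_dvd _ p))
  have hcard : ∀ S : Sylow p G, Nat.card S ≤ p := by
    intro S
    rw [Sylow.card_eq_multiplicity]
    calc p ^ (Nat.card G).factorization p ≤ p ^ 1 := Nat.pow_le_pow_right hp.pos hf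
      _ = p := pow_one p
  have hPeq : Subgroup.zpowers g = Sg := by
    apply Subgroup.eq_of_le_of_card_ge hSg
    rw [Nat.card_zpowers, hg]
    exact hcard Sg
  obtain ⟨c, hc⟩ := MulAction.exists_smul_eq G Sg Ss
  have hs_mem : s ∈ ((c • Sg : Sylow p G) : Subgroup G) := by
    rw [hc]; exact hSs (Subgroup.mem_zpowers s)
  rw [Sylow.coe_subgroup_smul, Subgroup.mem_smul_pointwise_iff_exists] at hs_mem
  obtain ⟨y, hy, hys⟩ := hs_mem
  have hyP : y ∈ Subgroup.zpowers g := by rw [hPeq]; exact hy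
  have hyP' : y ∈ Submonoid.powers g := (mem_powers_iff_mem_zpowers).2 hyP
  obtain ⟨i, rfl⟩ := (Submonoid.mem_powers_iff _ _).1 hyP'
  exact ⟨c, i, by rw [← hys]; rfl⟩

/-- Verbatim check. -/
example : Cfsg.Agent.H98.Ps.StSyl := syl

end Cfsg.Agent.H25.Ps
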