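import Mathlib
import Cfsg.Agent.H39.QuatRed
import Cfsg.Agent.H39.Q8Sub

/-!
# helper25: automorphisms of `Q₈`, and a normal `SL(2,3)` from a quaternion `O₂`
-/

set_option autoImplicit false

namespace Cfsg.Agent.H25

open QuaternionGroup

/-- generating pairs of `Q₈` -/
def q8Pairs : Finset (QuaternionGroup 2 × QuaternionGroup 2) :=
  Finset.univ.filter (fun p => p.1 ^ 2 ≠ 1 ∧ p.2 ^ 2 ≠ 1 ∧ p.2 ≠ p.1 ∧ p.2 ≠ p.1⁻¹)

theorem card_q8Pairs : q8Pairs.card = 24 := by decide

theorem q8_a_one_sq : (a 1 : QuaternionGroup 2) ^ 2 ≠ 1 := by decide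

theorem q8_xa_zero_sq : (xa 0 : QuaternionGroup 2) ^ 2 ≠ 1 := by decide

theorem q8_xa_ne : (xa 0 : QuaternionGroup 2) ≠ a 1 := by decide

theorem q8_xa_ne' : (xa 0 : QuaternionGroup 2) ≠ (a 1)⁻¹ := by decide

theorem q8_central : ∀ x : QuaternionGroup 2, x * a 1 = a 1 * x → x * xa 0 = xa 0 * x →
    x = 1 ∨ x = a 2 := by decide

theorem card_mulAut_q8_le : Nat.card (MulAut (QuaternionGroup 2)) ≤ 24 := by
  have hmem : ∀ σ : MulAut (QuaternionGroup 2), (σ (a 1), σ (xa 0)) ∈ q8Pairs := by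
    intro σ
    unfold q8Pairs
    rw [Finset.mem_filter]
    refine ⟨Finset.mem_univ _, ?_, ?_, ?_, ?_⟩
    · intro h
      apply q8_a_one_sq
      apply σ.injective
      rw [map_pow, map_one]; exact h
    · intro h
      apply q8_xa_zero_sq
      apply σ.injective
      rw [map_pow, map_one]; exact h
    · intro h
      exact q8_xa_ne (σ.injective h)
    · intro h
      apply q8_xa_ne'
      apply σ.injective
      rw [map_inv]; exact h
  have hinj : Function.Injective
      (fun σ : MulAut (QuaternionGroup 2) => (⟨(σ (a 1), σ (xa 0)), hmem σ⟩ : q8Pairs)) := by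
    intro σ τ h
    have h' := congrArg Subtype.val h
    simp only [Prod.mk.injEq] at h'
    have h2 : σ.toMonoidHom = τ.toMonoidHom := H39.q8_hom_ext h'.1 h'.2
    ext y
    exact DFunLike.congr_fun h2 y
  have h1 := Nat.card_le_card_of_injective _ hinj
  rw [Nat.card_eq_fintype_card (α := q8Pairs), Fintype.card_coe, card_q8Pairs] at h1
  exact h1

/-- `Q₈ ⋊ C₃` realised inside `G` is isomorphic to `SL(2,3)`. -/
theorem q8_sl_iso {G : Type*} [Group G] {a b g : G} (ha4 : a ^ 4 = 1) (ha2 : a ^ 2 ≠ 1)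
    (hb : b ^ 2 = a ^ 2) (hab2 : (a * b) ^ 2 = a ^ 2) (hga : g * a * g⁻¹ = b)
    (hgb : g * b * g⁻¹ = a * b) (hg3 : g ^ 3 = 1) (hg1 : g ≠ 1) :
    ∃ U : Subgroup G, a ∈ U ∧ b ∈ U ∧ g ∈ U ∧
      Nonempty (U ≃* Matrix.SpecialLinearGroup (Fin 2) (ZMod 3)) := by
  have h4 : a⁻¹ = a ^ 3 := by
    apply inv_eq_of_mul_eq_one_right
    rw [← pow_succ']; exact ha4
  have hab : a * b = b * a⁻¹ := H39.q8_rel ha4 hb hab2
  have hgo3 : orderOf g = 3 := orderOf_eq_prime hg3 hg1
  obtain ⟨θ, hθdef⟩ : ∃ θ : QuaternionGroup 2 →* G, θ = H39.q8Lift a b ha4 hb hab := ⟨_, rfl⟩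
  have hθinj : Function.Injective θ := hθdef ▸ H39.q8Lift_injective a b ha4 hb hab ha2
  have hθa : θ (QuaternionGroup.a 1) = a := by rw [hθdef]; exact H39.q8Lift_a_one a b ha4 hb hab
  have hθb : θ (xa 0) = b := by
    rw [hθdef, H39.q8Lift_xa]
    have e3 : (0 : ZMod (2 * 2)).val = 0 := rfl
    rw [e3, pow_zero, mul_one]
  have hθσ : ∀ x, θ (H39.q8Sigma x) = g * θ x * g⁻¹ := by
    have : θ.comp H39.q8Sigma.toMonoidHom = (MulAut.conj g).toMonoidHom.comp θ := by
      apply H39.q8_hom_ext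
      · change θ (H39.q8SigmaFun (QuaternionGroup.a 1)) = g * θ (QuaternionGroup.a 1) * g⁻¹
        have e1 : H39.q8SigmaFun (QuaternionGroup.a 1) = xa 0 := rfl
        rw [e1, hθa, hθb, hga]
      · change θ (H39.q8SigmaFun (xa 0)) = g * θ (xa 0) * g⁻¹
        have e1 : H39.q8SigmaFun (xa 0) = xa 3 := rfl
        have e2 : (3 : ZMod (2 * 2)).val = 3 := rfl
        rw [e1, hθb, hθdef, H39.q8Lift_xa, e2, hgb, hab, h4]
    intro x
    exact DFunLike.congr_fun this x
  obtain ⟨π, hπ⟩ : ∃ π : QuaternionGroup 2 ⋊[zpowersHom (MulAut (QuaternionGroup 2)) H39.q8Sigma]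
      Multiplicative ℤ →* G, ∀ γ, π γ = θ γ.left * g ^ (Multiplicative.toAdd γ.right) :=
    ⟨SemidirectProduct.lift θ (zpowersHom G g) (by
      intro k
      refine MonoidHom.ext fun x => ?_
      simp only [MonoidHom.comp_apply, MulEquiv.coe_toMonoidHom, MulAut.conj_apply,
        zpowersHom_apply]
      exact H39.intertwine_zpow θ H39.q8Sigma g hθσ _ x), fun γ => rfl⟩
  obtain ⟨F, hF⟩ : ∃ F : QuaternionGroup 2 ⋊[zpowersHom (MulAut (QuaternionGroup 2)) H39.q8Sigma]
      Multiplicative ℤ →* Matrix.SpecialLinearGroup (Fin 2) (ZMod 3),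
      ∀ γ, F γ = H6.q8Hom γ.left * H39.q8C ^ (Multiplicative.toAdd γ.right) :=
    ⟨SemidirectProduct.lift H6.q8Hom (zpowersHom _ H39.q8C) (by
      intro k
      refine MonoidHom.ext fun x => ?_
      simp only [MonoidHom.comp_apply, MulEquiv.coe_toMonoidHom, MulAut.conj_apply,
        zpowersHom_apply]
      exact H39.intertwine_zpow H6.q8Hom H39.q8Sigma H39.q8C H39.q8C_conj _ x),
      fun γ => rfl⟩
  have hFs : Function.Surjective F := by
    rw [← MonoidHom.range_eq_top]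
    have hle : H6.q8Hom.range ≤ F.range := by
      rintro _ ⟨x, rfl⟩
      refine ⟨SemidirectProduct.inl x, ?_⟩
      rw [hF]
      simp
    have hC : H39.q8C ∈ F.range := by
      refine ⟨SemidirectProduct.inr (Multiplicative.ofAdd 1), ?_⟩
      rw [hF]
      simp
    have hidx := Subgroup.relIndex_mul_index hle
    rw [H6.q8Hom_range_index] at hidx
    have h3 : F.range.index ∣ 3 := Dvd.intro_left _ hidx
    rcases (Nat.dvd_prime Nat.prime_three).mp h3 with h | h
    · exact Subgroup.index_eq_one.mp h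
    · exfalso
      rw [h] at hidx
      have h1 : H6.q8Hom.range.relIndex F.range = 1 := by omega
      rw [Subgroup.relIndex_eq_one] at h1
      exact H39.q8C_not_mem (h1 hC)
  -- the kernels agree
  have hgz : ∀ j : ℤ, g ^ j = 1 ↔ (3 : ℤ) ∣ j := by
    intro j
    rw [← orderOf_dvd_iff_zpow_eq_one, hgo3]; rfl
  have hCz : ∀ j : ℤ, (3 : ℤ) ∣ j → H39.q8C ^ j = 1 := by
    rintro j ⟨k, rfl⟩
    rw [zpow_mul, zpow_ofNat, H39.q8C_cube, one_zpow]
  have hCmem : ∀ j : ℤ, H39.q8C ^ j ∈ H6.q8Hom.range → (3 : ℤ) ∣ j := by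
    intro j hj
    by_contra hnd
    apply H39.q8C_not_mem
    have hr : j % 3 = 1 ∨ j % 3 = 2 := by omega
    rcases hr with hr | hr
    · have : H39.q8C ^ j = H39.q8C := by
        have e : j = 3 * (j / 3) + 1 := by omega
        rw [e, zpow_add, hCz _ ⟨_, rfl⟩, one_mul, zpow_one]
      rwa [this] at hj
    · have : H39.q8C ^ j = H39.q8C⁻¹ := by
        have e : j = 3 * (j / 3 + 1) + (-1) := by omega
        rw [e, zpow_add, hCz _ ⟨_, rfl⟩, one_mul, zpow_neg_one]
      rw [this] at hj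
      simpa using H6.q8Hom.range.inv_mem hj
  have hker : π.ker = F.ker := by
    ext γ
    rw [MonoidHom.mem_ker, MonoidHom.mem_ker, hπ, hF]
    obtain ⟨x, hx⟩ : ∃ x, x = γ.left := ⟨_, rfl⟩
    obtain ⟨j, hj⟩ : ∃ j, j = Multiplicative.toAdd γ.right := ⟨_, rfl⟩
    rw [← hx, ← hj]
    constructor
    · intro hγ
      have h2 : θ x = (g ^ j)⁻¹ := eq_inv_of_mul_eq_one_left hγ
      have h3 : (g ^ j) ^ 4 = 1 := by
        have : (θ x) ^ 4 = 1 := by rw [← map_pow, H6.q8_pow_four, map_one]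
        rw [h2, inv_pow, inv_eq_one] at this
        exact this
      have h4' : g ^ j = 1 := by
        have d1 : orderOf (g ^ j) ∣ 4 := orderOf_dvd_of_pow_eq_one h3
        have d2 : orderOf (g ^ j) ∣ 3 := by
          rw [← hgo3]
          exact orderOf_dvd_of_mem_zpowers (Subgroup.zpow_mem_zpowers g j)
        have d3 : orderOf (g ^ j) ∣ Nat.gcd 4 3 := Nat.dvd_gcd d1 d2
        have d4 : orderOf (g ^ j) = 1 := Nat.dvd_one.mp (by simpa using d3)
        exact orderOf_eq_one_iff.mp d4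
      have h5 : x = 1 := by
        apply hθinj
        rw [h2, h4', inv_one, map_one]
      rw [h5, map_one, one_mul]
      exact hCz j ((hgz j).mp h4')
    · intro hγ
      have h2 : H39.q8C ^ j = (H6.q8Hom x)⁻¹ := eq_inv_of_mul_eq_one_right hγ
      have h3 : (3 : ℤ) ∣ j := by
        apply hCmem
        rw [h2]
        exact H6.q8Hom.range.inv_mem ⟨x, rfl⟩
      have h4' : H6.q8Hom x = 1 := by
        rw [hCz j h3] at h2
        exact inv_eq_one.mp h2.symm
      have h5 : x = 1 := by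
        apply H6.q8Hom_injective
        rw [h4', map_one]
      rw [h5, map_one, one_mul]
      exact (hgz j).mpr h3
  refine ⟨π.range, ?_, ?_, ?_, ?_⟩
  · refine ⟨SemidirectProduct.inl (QuaternionGroup.a 1), ?_⟩
    rw [hπ]
    simp [hθa]
  · refine ⟨SemidirectProduct.inl (xa 0), ?_⟩
    rw [hπ]
    simp [hθb]
  · refine ⟨SemidirectProduct.inr (Multiplicative.ofAdd 1), ?_⟩
    rw [hπ]
    simp
  · exact ⟨(QuotientGroup.quotientKerEquivRange π).symm.trans
      ((QuotientGroup.quotientMulEquivOfEq hker).trans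
        (QuotientGroup.quotientKerEquivOfSurjective F hFs))⟩

/-- A normal quaternion subgroup `Q` of order 8 with `C_G(Q) ≤ Q` and an element of odd order
acting non-trivially gives a normal subgroup isomorphic to `SL(2,3)`. -/
theorem normal_sl_of_q8 {G : Type*} [Group G] [Finite G] (Q : Subgroup G) [hQn : Q.Normal]
    (hQ8 : Nat.card Q = 8) {c z : G} (hI : H39.QIface Q c z)
    (hC : Subgroup.centralizer (Q : Set G) ≤ Q) {g : G} (hgo : (orderOf g).Coprime 2)
    (hgC : g ∉ Subgroup.centralizer (Q : Set G)) :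
    ∃ U : Subgroup G, U.Normal ∧
      Nonempty (U ≃* Matrix.SpecialLinearGroup (Fin 2) (ZMod 3)) := by
  have hpow8 : ∀ t ∈ Q, t ^ 8 = 1 := by
    intro t ht
    have h1 : (⟨t, ht⟩ : Q) ^ Nat.card Q = 1 := pow_card_eq_one'
    rw [hQ8] at h1
    have h2 := congrArg Subtype.val h1
    simpa using h2
  have hT2 : ∀ t ∈ Q, ∃ k : ℕ, t ^ 2 ^ k = 1 := fun t ht => ⟨3, hpow8 t ht⟩
  have hgN : g ∈ Subgroup.normalizer (Q : Set G) := by
    rw [Subgroup.normalizer_eq_top]; exact Subgroup.mem_top g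
  obtain ⟨a, b, haQ, hbQ, ha4, ha2, hb, hab2, hga, hgb⟩ :=
    H39.quat_reduction_mem hI hT2 (le_refl Q) hgN hgo hgC
  have hab : a * b = b * a⁻¹ := H39.q8_rel ha4 hb hab2
  obtain ⟨θ, hθdef⟩ : ∃ θ : QuaternionGroup 2 →* G, θ = H39.q8Lift a b ha4 hb hab := ⟨_, rfl⟩
  have hθinj : Function.Injective θ := hθdef ▸ H39.q8Lift_injective a b ha4 hb hab ha2
  have hrange : θ.range = Q := by
    apply Subgroup.eq_of_le_of_card_ge
    · rw [hθdef]; exact H39.q8Lift_range_le ha4 hb hab haQ hbQ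
    · rw [hQ8, hθdef, H39.q8Lift_card_range ha4 hb hab ha2]
  have hθa : θ (QuaternionGroup.a 1) = a := by rw [hθdef]; exact H39.q8Lift_a_one a b ha4 hb hab
  have hθb : θ (xa 0) = b := by
    rw [hθdef, H39.q8Lift_xa]
    have e3 : (0 : ZMod (2 * 2)).val = 0 := rfl
    rw [e3, pow_zero, mul_one]
  -- an element commuting with `a` and `b` centralizes `Q`
  have hcent : ∀ k : G, Commute k a → Commute k b → k ∈ Subgroup.centralizer (Q : Set G) := by
    intro k hka hkb
    rw [Subgroup.mem_centralizer_iff]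
    intro q hq
    rw [SetLike.mem_coe, ← hrange] at hq
    obtain ⟨x, rfl⟩ := hq
    rcases x with i | i
    · rw [hθdef, H39.q8Lift_a]
      exact ((hka.pow_right _).eq).symm
    · rw [hθdef, H39.q8Lift_xa]
      exact ((hkb.mul_right (hka.pow_right _)).eq).symm
  -- `g ^ 3 = 1`
  have hbab : b * (a * b) = a := by
    rw [hab, ← mul_assoc, ← sq, hb, sq, mul_assoc, mul_inv_cancel, mul_one]
  have h3a : g ^ 3 * a * (g ^ 3)⁻¹ = a := by
    calc g ^ 3 * a * (g ^ 3)⁻¹ = g * (g * (g * a * g⁻¹) * g⁻¹) * g⁻¹ := by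
          rw [pow_succ, pow_succ, pow_one]; group
      _ = g * (a * b) * g⁻¹ := by rw [hga, hgb]
      _ = (g * a * g⁻¹) * (g * b * g⁻¹) := by group
      _ = a := by rw [hga, hgb, hbab]
  have h3b : g ^ 3 * b * (g ^ 3)⁻¹ = b := by
    calc g ^ 3 * b * (g ^ 3)⁻¹ = g * (g ^ 3 * (g⁻¹ * b * g) * (g ^ 3)⁻¹) * g⁻¹ := by
          rw [pow_succ, pow_succ, pow_one]; group
      _ = g * (g ^ 3 * a * (g ^ 3)⁻¹) * g⁻¹ := by
          rw [← hga]; group
      _ = b := by rw [h3a, hga]
  have hg3 : g ^ 3 = 1 := by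
    have hc3 : g ^ 3 ∈ Subgroup.centralizer (Q : Set G) := by
      apply hcent
      · unfold Commute SemiconjBy
        calc g ^ 3 * a = (g ^ 3 * a * (g ^ 3)⁻¹) * g ^ 3 := by group
          _ = a * g ^ 3 := by rw [h3a]
      · unfold Commute SemiconjBy
        calc g ^ 3 * b = (g ^ 3 * b * (g ^ 3)⁻¹) * g ^ 3 := by group
          _ = b * g ^ 3 := by rw [h3b]
    have h8 := hpow8 _ (hC hc3)
    have d1 : orderOf (g ^ 3) ∣ 2 ^ 3 := orderOf_dvd_of_pow_eq_one h8
    have d2 : orderOf (g ^ 3) ∣ orderOf g := orderOf_pow_dvd 3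
    have := Nat.Coprime.eq_one_of_dvd (Nat.Coprime.coprime_dvd_left d2 (hgo.pow_right 3)) d1
    exact orderOf_eq_one_iff.mp this
  have hg1 : g ≠ 1 := by
    rintro rfl
    exact hgC (Subgroup.one_mem _)
  obtain ⟨U, haU, hbU, hgU, ⟨eU⟩⟩ := q8_sl_iso ha4 ha2 hb hab2 hga hgb hg3 hg1
  have hU24 : Nat.card U = 24 := by
    rw [Nat.card_congr eU.toEquiv, H6.card_sl2_zmod3]
  -- the bound `|G| ≤ 48`
  obtain ⟨e⟩ : Nonempty (QuaternionGroup 2 ≃* Q) :=
    ⟨(MonoidHom.ofInjective hθinj).trans (MulEquiv.subgroupCongr hrange)⟩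
  obtain ⟨Ψ, hΨ⟩ : ∃ Ψ : G →* MulAut (QuaternionGroup 2),
      Ψ = (MulAut.congr e.symm).toMonoidHom.comp (MulAut.conjNormal (H := Q)) := ⟨_, rfl⟩
  have hkerle : Ψ.ker ≤ Subgroup.zpowers (a ^ 2) := by
    intro k hk
    rw [MonoidHom.mem_ker, hΨ, MonoidHom.comp_apply, MulEquiv.coe_toMonoidHom,
      EmbeddingLike.map_eq_one_iff] at hk
    have hkq : ∀ q : Q, k * q * k⁻¹ = q := by
      intro q
      rw [← MulAut.conjNormal_apply, hk]; rfl
    have hkc : k ∈ Subgroup.centralizer (Q : Set G) := by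
      rw [Subgroup.mem_centralizer_iff]
      intro q hq
      have := hkq ⟨q, hq⟩
      simp only at this
      calc q * k = (k * q * k⁻¹) * k := by rw [this]
        _ = k * q := by group
    have hkQ : k ∈ θ.range := hrange ▸ hC hkc
    obtain ⟨x, rfl⟩ := hkQ
    have hxa : x * QuaternionGroup.a 1 = QuaternionGroup.a 1 * x := by
      apply hθinj
      rw [map_mul, map_mul, hθa]
      have := hkq ⟨a, haQ⟩
      simp only at this
      calc θ x * a = (θ x * a * (θ x)⁻¹) * θ x := by group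
        _ = a * θ x := by rw [this]
    have hxb : x * xa 0 = xa 0 * x := by
      apply hθinj
      rw [map_mul, map_mul, hθb]
      have := hkq ⟨b, hbQ⟩
      simp only at this
      calc θ x * b = (θ x * b * (θ x)⁻¹) * θ x := by group
        _ = b * θ x := by rw [this]
    rcases q8_central x hxa hxb with h | h
    · rw [h, map_one]; exact Subgroup.one_mem _
    · rw [h]
      have : θ (QuaternionGroup.a 2) = a ^ 2 := by rw [hθdef]; rfl
      rw [this]; exact Subgroup.mem_zpowers _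
  have hker2 : Nat.card Ψ.ker ≤ 2 := by
    have h1 := Subgroup.card_le_of_le hkerle
    rw [Nat.card_zpowers] at h1
    have h2 : orderOf (a ^ 2) ≤ 2 :=
      orderOf_le_of_pow_eq_one (by norm_num) (by rw [← pow_mul]; exact ha4)
    omega
  have hrange24 : Nat.card Ψ.range ≤ 24 :=
    le_trans (Subgroup.card_le_card_group _) card_mulAut_q8_le
  have hG48 : Nat.card G ≤ 48 := by
    have h1 := Subgroup.card_mul_index Ψ.ker
    rw [Subgroup.index_ker] at h1
    rw [← h1]
    calc Nat.card Ψ.ker * Nat.card Ψ.range ≤ 2 * 24 := Nat.mul_le_mul hker2 hrange24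
      _ = 48 := by norm_num
  have hidx : U.index = 1 ∨ U.index = 2 := by
    have h1 := Subgroup.card_mul_index U
    rw [hU24] at h1
    have h2 : U.index ≠ 0 := Subgroup.index_ne_zero_of_finite
    have h3 : 24 * U.index ≤ 48 := h1 ▸ hG48
    omega
  refine ⟨U, ?_, ⟨eU⟩⟩
  rcases hidx with h | h
  · rw [Subgroup.index_eq_one] at h
    rw [h]; infer_instance
  · exact Subgroup.normal_of_index_eq_two h

end Cfsg.Agent.H25
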