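import Mathlib
import Cfsg.Agent.H25.Tau1

/-!
helper25: a finite 2-group of order at least 8 whose commutator subgroup has index 4
has a cyclic subgroup of index 2 (the key step of Taussky's theorem).
-/

set_option autoImplicit false

namespace Cfsg.Agent.H25

universe u

theorem exists_half_order_aux : ∀ (n : ℕ) (S : Type u) [Group S] [Finite S], IsPGroup 2 S →
    (commutator S).index = 4 → Nat.card S = n → 8 ≤ n → ∃ c : S, 2 * orderOf c = n := by
  intro n
  induction n using Nat.strong_induction_on with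
  | _ n ih =>
  intro S _ _ h2 h4 hn h8
  have : Fact (Nat.Prime 2) := ⟨Nat.prime_two⟩
  obtain ⟨e, he⟩ := IsPGroup.iff_card.mp h2
  have hcomm : commutator S ≠ ⊥ := by
    intro hb
    rw [hb, Subgroup.index_bot] at h4
    omega
  by_cases h16 : 16 ≤ n
  · -- inductive step
    obtain ⟨z, hzc, hzZ, hz2⟩ := exists_central_invol h2 (commutator S) hcomm
    have hzc' : ∀ g : S, g * z = z * g := fun g => (Subgroup.mem_center_iff.mp hzZ g)
    have hzsq : z ^ 2 = 1 := by rw [← hz2]; exact pow_orderOf_eq_one z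
    have hz1 : z ≠ 1 := by
      intro h; rw [h, orderOf_one] at hz2; omega
    obtain ⟨Z, hZ⟩ : ∃ Z : Subgroup S, Z = Subgroup.zpowers z := ⟨_, rfl⟩
    have hZn : Z.Normal := by
      refine ⟨fun y hy g => ?_⟩
      rw [hZ] at hy ⊢
      obtain ⟨i, rfl⟩ := Subgroup.mem_zpowers_iff.mp hy
      have h1 : g * z ^ i * g⁻¹ = z ^ i := by
        have hc : Commute g z := hzc' g
        rw [(hc.zpow_right i).eq, mul_inv_cancel_right]
      rw [h1]; exact Subgroup.zpow_mem_zpowers z i
    have hZcard : Nat.card Z = 2 := by rw [hZ, Nat.card_zpowers, hz2]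
    have hQcard : Nat.card (S ⧸ Z) * 2 = n := by
      have h1 := Subgroup.card_eq_card_quotient_mul_card_subgroup Z
      rw [hZcard, hn] at h1; exact h1.symm
    have hQ2 : IsPGroup 2 (S ⧸ Z) := h2.to_quotient Z
    have hQ4 : (commutator (S ⧸ Z)).index = 4 := by
      have hmap : commutator (S ⧸ Z) = (commutator S).map (QuotientGroup.mk' Z) := by
        rw [commutator_def, commutator_def, Subgroup.map_commutator, ← MonoidHom.range_eq_map,
          QuotientGroup.range_mk']
      rw [hmap, Subgroup.index_map_eq (commutator S) (QuotientGroup.mk'_surjective Z)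
        (by rw [QuotientGroup.ker_mk', hZ]; exact Subgroup.zpowers_le.mpr hzc), h4]
    have hZmem : ∀ y ∈ Z, y = 1 ∨ y = z := by
      intro y hy
      rw [hZ] at hy
      obtain ⟨i, rfl⟩ := Subgroup.mem_zpowers_iff.mp hy
      rcases Int.even_or_odd' i with ⟨d, rfl | rfl⟩
      · left
        rw [zpow_mul, zpow_ofNat, hzsq, one_zpow]
      · right
        rw [zpow_add, zpow_mul, zpow_ofNat, hzsq, one_zpow, one_mul, zpow_one]
    have hq8 : 8 ≤ Nat.card (S ⧸ Z) := by omega
    obtain ⟨cbar, hcbar⟩ := ih (Nat.card (S ⧸ Z)) (by omega) (S ⧸ Z) hQ2 hQ4 rfl hq8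
    obtain ⟨c, rfl⟩ := QuotientGroup.mk_surjective cbar
    obtain ⟨m, hm⟩ : ∃ m : ℕ, m = orderOf (c : S ⧸ Z) := ⟨_, rfl⟩
    rw [← hm] at hcbar
    have hmn : 4 * m = n := by omega
    have hmpos : 0 < m := by omega
    have hcm : c ^ m ∈ Z := by
      rw [← QuotientGroup.eq_one_iff, QuotientGroup.mk_pow, hm, pow_orderOf_eq_one]
    have hmdvd : m ∣ orderOf c := by
      rw [hm]
      apply orderOf_dvd_of_pow_eq_one
      rw [← QuotientGroup.mk_pow, pow_orderOf_eq_one]; rfl
    rcases hZmem _ hcm with h1 | h1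
    swap
    · -- c^m = z: order 2m
      refine ⟨c, ?_⟩
      have h2m : c ^ (2 * m) = 1 := by rw [mul_comm, pow_mul, h1, hzsq]
      have hd : orderOf c ∣ 2 * m := orderOf_dvd_of_pow_eq_one h2m
      have hnd : ¬ orderOf c ∣ m := fun hd' =>
        hz1 (by rw [← h1]; exact orderOf_dvd_iff_pow_eq_one.mp hd')
      obtain ⟨k, hk⟩ := hmdvd
      have hk2 : k ∣ 2 := by
        rw [hk, mul_comm 2 m] at hd
        exact (Nat.mul_dvd_mul_iff_left hmpos).mp hd
      have hk12 : k = 1 ∨ k = 2 := by
        have := Nat.le_of_dvd (by norm_num) hk2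
        interval_cases k <;> simp_all
      rcases hk12 with rfl | rfl
      · exact absurd (by rw [hk, mul_one]) hnd
      · omega
    · -- c^m = 1: contradiction
      exfalso
      have hoc : orderOf c = m := Nat.dvd_antisymm (orderOf_dvd_of_pow_eq_one h1) hmdvd
      obtain ⟨k, hk⟩ := (IsPGroup.iff_orderOf.mp h2) c
      have hk2 : 2 ≤ k := by
        by_contra hcon
        have hk1 : k ≤ 1 := by omega
        have : 2 ^ k ≤ 2 ^ 1 := Nat.pow_le_pow_right (by norm_num) hk1
        omega
      obtain ⟨m4, hm4⟩ : ∃ m4 : ℕ, m = 4 * m4 := by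
        refine ⟨2 ^ (k - 2), ?_⟩
        rw [← hoc, hk]
        conv_lhs => rw [show k = 2 + (k - 2) by omega, pow_add]
        norm_num
      have hm4pos : 0 < m4 := by omega
      -- the index two subgroup
      obtain ⟨C, hC⟩ : ∃ C : Subgroup S, C = (Subgroup.zpowers (c : S ⧸ Z)).comap
        (QuotientGroup.mk' Z) := ⟨_, rfl⟩
      have hCmem : ∀ g : S, g ∈ C ↔ ∃ (i : ℤ) (y : S), y ∈ Z ∧ g = c ^ i * y := by
        intro g
        rw [hC, Subgroup.mem_comap, Subgroup.mem_zpowers_iff]
        constructor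
        · rintro ⟨i, hi⟩
          refine ⟨i, (c ^ i)⁻¹ * g, ?_, by group⟩
          rw [← QuotientGroup.eq]
          exact hi
        · rintro ⟨i, y, hy, rfl⟩
          refine ⟨i, ?_⟩
          have : ((c ^ i * y : S) : S ⧸ Z) = (c : S ⧸ Z) ^ i * (y : S ⧸ Z) := rfl
          show (c : S ⧸ Z) ^ i = ((c ^ i * y : S) : S ⧸ Z)
          rw [this, (QuotientGroup.eq_one_iff y).mpr hy, mul_one]
      have hCidx : C.index = 2 := by
        rw [hC, Subgroup.index_comap_of_surjective _ (QuotientGroup.mk'_surjective Z)]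
        have h3 := Subgroup.card_mul_index (Subgroup.zpowers (c : S ⧸ Z))
        rw [Nat.card_zpowers, ← hm] at h3
        have h5 : m * (Subgroup.zpowers (c : S ⧸ Z)).index = m * 2 := by omega
        exact Nat.eq_of_mul_eq_mul_left hmpos h5
      have hCn : C.Normal := Subgroup.normal_of_index_eq_two hCidx
      obtain ⟨t, ht⟩ : ∃ t : S, t ∉ C := by
        by_contra hcon
        push Not at hcon
        have : C = ⊤ := eq_top_iff.mpr (fun g _ => hcon g)
        rw [this, Subgroup.index_top] at hCidx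
        omega
      have hcC : c ∈ C := (hCmem c).mpr ⟨1, 1, Z.one_mem, by simp⟩
      obtain ⟨i, y, hyZ, hd⟩ := (hCmem _).mp (hCn.conj_mem c hcC t)
      have hyc : ∀ g : S, Commute g y := by
        intro g
        rcases hZmem y hyZ with rfl | rfl
        · exact Commute.one_right g
        · exact hzc' g
      have hysq : y ^ 2 = 1 := by
        rcases hZmem y hyZ with rfl | rfl
        · exact one_pow 2
        · exact hzsq
      have hcy : Commute c y := hyc c
      -- x = c^(i-1) * y
      obtain ⟨x, hx⟩ : ∃ x : S, x = c ^ (i - 1) * y := ⟨_, rfl⟩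
      have hx' : x = c⁻¹ * (t * c * t⁻¹) := by
        rw [hx, hd, ← mul_assoc]
        congr 1
        rw [show i - 1 = -1 + i by ring, zpow_add, zpow_neg_one]
      have hxC : ∀ a b : ℤ, Commute (c ^ a * y ^ b) x := by
        intro a b
        rw [hx]
        have h5 : Commute (c ^ a) (c ^ (i - 1)) := (Commute.refl c).zpow_zpow a (i - 1)
        have h6 : Commute (y ^ b) (c ^ (i - 1)) := ((hyc c).symm.zpow_zpow b (i - 1))
        have h7 : Commute (c ^ a) y := (hyc (c ^ a))
        have h8 : Commute (y ^ b) y := (hyc (y ^ b))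
        exact (h5.mul_right h7).mul_left (h6.mul_right h8)
      -- closure {c, z, t} = ⊤
      have hT : Subgroup.closure ({c, z, t} : Set S) = ⊤ := by
        rw [eq_top_iff]
        intro g _
        have hcK : c ∈ Subgroup.closure ({c, z, t} : Set S) := Subgroup.subset_closure (by simp)
        have hzK : z ∈ Subgroup.closure ({c, z, t} : Set S) := Subgroup.subset_closure (by simp)
        have htK : t ∈ Subgroup.closure ({c, z, t} : Set S) := Subgroup.subset_closure (by simp)
        have hCK : ∀ g ∈ C, g ∈ Subgroup.closure ({c, z, t} : Set S) := by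
          intro g hg
          obtain ⟨a, y', hy', rfl⟩ := (hCmem g).mp hg
          refine Subgroup.mul_mem _ (Subgroup.zpow_mem _ hcK a) ?_
          rcases hZmem y' hy' with rfl | rfl
          · exact Subgroup.one_mem _
          · exact hzK
        by_cases hg : g ∈ C
        · exact hCK g hg
        · have h5 : g * t⁻¹ ∈ C := by
            rw [Subgroup.mul_mem_iff_of_index_two hCidx]
            exact iff_of_false hg (fun h' => ht (by simpa using inv_mem h'))
          have h6 : g = g * t⁻¹ * t := by group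
          rw [h6]
          exact Subgroup.mul_mem _ (hCK _ h5) htK
      have hF_mul : ∀ a b a' b' : ℤ,
          (c ^ a * y ^ b) * (c ^ a' * y ^ b') = c ^ (a + a') * y ^ (b + b') := by
        intro a b a' b'
        have h5 : Commute (y ^ b) (c ^ a') := (hyc c).symm.zpow_zpow b a'
        calc (c ^ a * y ^ b) * (c ^ a' * y ^ b') = c ^ a * (y ^ b * c ^ a') * y ^ b' := by group
          _ = c ^ a * (c ^ a' * y ^ b) * y ^ b' := by rw [h5.eq]
          _ = c ^ (a + a') * y ^ (b + b') := by rw [zpow_add, zpow_add]; group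
      have hF_pow : ∀ a b k : ℤ, (c ^ a * y ^ b) ^ k = c ^ (a * k) * y ^ (b * k) := by
        intro a b k
        have h5 : Commute (c ^ a) (y ^ b) := (hyc c).zpow_zpow a b
        rw [h5.mul_zpow, ← zpow_mul, ← zpow_mul]
      have hty : t * y * t⁻¹ = y := by rw [(hyc t).eq, mul_inv_cancel_right]
      have htx : t * x * t⁻¹ = x ^ i := by
        have h11 : t * x * t⁻¹ = (t * c * t⁻¹)⁻¹ * (t * c * t⁻¹) ^ i * (t * y * t⁻¹) := by
          rw [conj_zpow, hx]; group
        rw [h11, hty, hd, hx]
        calc (c ^ i * y)⁻¹ * (c ^ i * y) ^ i * y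
            = (c ^ i * y ^ (1:ℤ)) ^ (-1:ℤ) * (c ^ i * y ^ (1:ℤ)) ^ i * (c ^ (0:ℤ) * y ^ (1:ℤ)) := by
              simp
          _ = c ^ (i * (-1) + i * i + 0) * y ^ (1 * (-1) + 1 * i + 1) := by
              rw [hF_pow, hF_pow, hF_mul, hF_mul]
          _ = c ^ ((i - 1) * i) * y ^ ((1:ℤ) * i) := by congr 2 <;> ring
          _ = (c ^ (i - 1) * y ^ (1:ℤ)) ^ i := by rw [hF_pow]
          _ = (c ^ (i - 1) * y) ^ i := by rw [zpow_one]
      have hct : c * t * c⁻¹ * t⁻¹ = x⁻¹ := by
        have h11 : c * t * c⁻¹ * t⁻¹ = c * (t * c * t⁻¹)⁻¹ := by group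
        rw [h11, hd, hx]
        calc c * (c ^ i * y)⁻¹
            = (c ^ (1:ℤ) * y ^ (0:ℤ)) * (c ^ i * y ^ (1:ℤ)) ^ (-1:ℤ) := by simp
          _ = c ^ ((1:ℤ) + i * (-1)) * y ^ ((0:ℤ) + 1 * (-1)) := by rw [hF_pow, hF_mul]
          _ = c ^ ((i - 1) * (-1)) * y ^ ((1:ℤ) * (-1)) := by congr 2 <;> ring
          _ = (c ^ (i - 1) * y ^ (1:ℤ)) ^ (-1:ℤ) := by rw [hF_pow]
          _ = (c ^ (i - 1) * y)⁻¹ := by rw [zpow_one, zpow_neg_one]
      have htc : t * c * t⁻¹ * c⁻¹ = x := by
        rw [hd, hx]
        calc c ^ i * y * c⁻¹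
            = (c ^ i * y ^ (1:ℤ)) * (c ^ (-1:ℤ) * y ^ (0:ℤ)) := by simp
          _ = c ^ (i + -1) * y ^ ((1:ℤ) + 0) := by rw [hF_mul]
          _ = c ^ (i - 1) * y := by
              rw [show i + -1 = i - 1 by ring, show (1:ℤ) + 0 = 1 by ring, zpow_one]
      have hcx : Commute c x := by simpa using hxC 1 0
      have hbound : Nat.card S ≤ 4 * orderOf x := by
        apply card_le_of_commutators x ({c, z, t} : Set S) hT _ _ h4
        · rintro g (rfl | rfl | rfl)
          · rw [hcx.eq, mul_inv_cancel_right]; exact Subgroup.mem_zpowers x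
          · rw [← hzc' x, mul_inv_cancel_right]; exact Subgroup.mem_zpowers x
          · rw [htx]; exact Subgroup.zpow_mem_zpowers x i
        · rintro g (rfl | rfl | rfl) h (rfl | rfl | rfl)
          · simp
          · rw [hzc' g]; simp
          · rw [hct]; exact Subgroup.inv_mem _ (Subgroup.mem_zpowers x)
          · rw [← hzc' h]; simp
          · simp
          · rw [← hzc' h]; simp
          · rw [htc]; exact Subgroup.mem_zpowers x
          · rw [hzc' g]; simp
          · simp
      have hmx : m ≤ orderOf x := by omega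
      have hy2m4 : y ^ ((1:ℤ) * ((2 * m4 : ℕ) : ℤ)) = 1 := by
        rw [one_mul, zpow_natCast, pow_mul, hysq, one_pow]
      have hcvm : ∀ v : ℤ, c ^ (2 * v * ((2 * m4 : ℕ) : ℤ)) = 1 := by
        intro v
        apply orderOf_dvd_iff_zpow_eq_one.mp
        refine ⟨v, ?_⟩
        rw [hoc, hm4]; push_cast; ring
      rcases Int.even_or_odd' i with ⟨v, rfl | rfl⟩
      · -- i even: order of t c t⁻¹ too small
        have h11 : (t * c * t⁻¹) ^ ((2 * m4 : ℕ) : ℤ) = 1 := by
          rw [hd]
          calc (c ^ (2 * v) * y) ^ ((2 * m4 : ℕ) : ℤ)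
              = (c ^ (2 * v) * y ^ (1:ℤ)) ^ ((2 * m4 : ℕ) : ℤ) := by rw [zpow_one]
            _ = 1 := by rw [hF_pow, hy2m4, hcvm, one_mul]
        have h12 := orderOf_dvd_iff_zpow_eq_one.mpr h11
        rw [orderOf_conj', hoc, Int.natCast_dvd_natCast] at h12
        have := Nat.le_of_dvd (by omega) h12
        omega
      · -- i odd: order of x too small
        have h11 : x ^ ((2 * m4 : ℕ) : ℤ) = 1 := by
          rw [hx]
          calc (c ^ (2 * v + 1 - 1) * y) ^ ((2 * m4 : ℕ) : ℤ)
              = (c ^ (2 * v) * y ^ (1:ℤ)) ^ ((2 * m4 : ℕ) : ℤ) := by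
                rw [zpow_one, show 2 * v + 1 - 1 = 2 * v by ring]
            _ = 1 := by rw [hF_pow, hy2m4, hcvm, one_mul]
        have h12 := orderOf_dvd_iff_zpow_eq_one.mpr h11
        rw [Int.natCast_dvd_natCast] at h12
        have := Nat.le_of_dvd (by omega) h12
        omega
  · -- n = 8
    have hn8 : n = 8 := by
      rw [hn] at he
      have he3 : e = 3 := by
        by_contra hcon
        rcases Nat.lt_or_ge e 3 with h | h
        · have : 2 ^ e ≤ 2 ^ 2 := Nat.pow_le_pow_right (by norm_num) (by omega)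
          omega
        · have : 2 ^ 4 ≤ 2 ^ e := Nat.pow_le_pow_right (by norm_num) (by omega)
          omega
      rw [he, he3]; norm_num
    by_contra hcon
    push Not at hcon
    have hsq : ∀ g : S, g ^ 2 = 1 := by
      intro g
      obtain ⟨k, hk⟩ := (IsPGroup.iff_orderOf.mp h2) g
      have hdvd : orderOf g ∣ 8 := by
        rw [← hn8, ← hn]; exact orderOf_dvd_natCard g
      have hne := hcon g
      have hk3 : k ≤ 3 := by
        by_contra h'
        have h5 : 2 ^ 4 ≤ 2 ^ k := Nat.pow_le_pow_right (by norm_num) (by omega)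
        have h6 := Nat.le_of_dvd (by norm_num) hdvd
        omega
      interval_cases k
      · rw [pow_zero, orderOf_eq_one_iff] at hk
        rw [hk, one_pow]
      · have h5 := pow_orderOf_eq_one g
        rw [hk] at h5
        simpa using h5
      · omega
      · exfalso
        have hcyc : IsCyclic S := isCyclic_of_orderOf_eq_card g (by rw [hk, hn, hn8]; norm_num)
        apply hcomm
        apply commutator_eq_bot_of_comm
        intro a b
        obtain ⟨g0, hg0⟩ := hcyc.exists_generator
        obtain ⟨ia, rfl⟩ := Subgroup.mem_zpowers_iff.mp (hg0 a)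
        obtain ⟨ib, rfl⟩ := Subgroup.mem_zpowers_iff.mp (hg0 b)
        exact ((Commute.refl g0).zpow_zpow ia ib).eq
    have hab : ∀ a b : S, a * b = b * a := by
      intro a b
      have hinv : ∀ w : S, w⁻¹ = w := fun w =>
        inv_eq_of_mul_eq_one_left (by rw [← pow_two]; exact hsq w)
      calc a * b = (a * b)⁻¹ := (hinv (a * b)).symm
        _ = b⁻¹ * a⁻¹ := mul_inv_rev a b
        _ = b * a := by rw [hinv a, hinv b]
    exact hcomm (commutator_eq_bot_of_comm hab)

theorem exists_half_order {S : Type u} [Group S] [Finite S] (h2 : IsPGroup 2 S)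
    (h4 : (commutator S).index = 4) (h8 : 8 ≤ Nat.card S) :
    ∃ c : S, 2 * orderOf c = Nat.card S :=
  exists_half_order_aux _ S h2 h4 rfl h8

end Cfsg.Agent.H25
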