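import Mathlib
import Cfsg.Agent.H25.Tau2
import Cfsg.Agent.S0646

/-!
helper25: Taussky's theorem, generator form.  A finite 2-group of order at least 8 whose
commutator subgroup has index 4 is dihedral, generalized quaternion or semidihedral
(given by generators `a`, `b` and relations).
-/

set_option autoImplicit false

namespace Cfsg.Agent.H25

universe u

theorem taussky_struct {S : Type u} [Group S] [Finite S] (h2 : IsPGroup 2 S)
    (h4 : (commutator S).index = 4) (h8 : 8 ≤ Nat.card S) :
    ∃ (n : ℕ) (a b : S), 3 ≤ n ∧ Nat.card S = 2 ^ n ∧ orderOf a = 2 ^ (n - 1) ∧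
      b ∉ Subgroup.zpowers a ∧
      ((b ^ 2 = 1 ∧ b * a * b⁻¹ = a⁻¹) ∨ (b ^ 2 = a ^ (2 ^ (n - 2)) ∧ b * a * b⁻¹ = a⁻¹) ∨
        (4 ≤ n ∧ b ^ 2 = 1 ∧ b * a * b⁻¹ = a ^ (2 ^ (n - 2) - 1))) := by
  have : Fact (Nat.Prime 2) := ⟨Nat.prime_two⟩
  obtain ⟨n, hn⟩ := IsPGroup.iff_card.mp h2
  have hn3 : 3 ≤ n := by
    by_contra hcon
    have : 2 ^ n ≤ 2 ^ 2 := Nat.pow_le_pow_right (by norm_num) (by omega)
    omega
  obtain ⟨c, hc⟩ := exists_half_order h2 h4 h8
  have hCi : (Subgroup.zpowers c).index = 2 := by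
    have h3 := Subgroup.card_mul_index (Subgroup.zpowers c)
    rw [Nat.card_zpowers] at h3
    have hpos : 0 < orderOf c := orderOf_pos c
    have h5 : orderOf c * (Subgroup.zpowers c).index = orderOf c * 2 := by omega
    exact Nat.eq_of_mul_eq_mul_left hpos h5
  have hna : ∃ x y : S, x * y ≠ y * x := by
    by_contra hcon
    push Not at hcon
    have hb := commutator_eq_bot_of_comm hcon
    rw [hb, Subgroup.index_bot] at h4
    omega
  obtain ⟨a, b, hoa, hb, hcases⟩ := Cfsg.Agent.S0646.result n hn3 hn (Subgroup.zpowers c)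
    inferInstance hCi hna
  refine ⟨n, a, b, hn3, hn, hoa, hb, ?_⟩
  rcases hcases with h | h | ⟨hn4, hbb, hba⟩ | h
  · exact Or.inl h
  · exact Or.inr (Or.inl h)
  · -- modular case: impossible
    exfalso
    obtain ⟨x, hx⟩ : ∃ x : S, x = a ^ (2 ^ (n - 2)) := ⟨_, rfl⟩
    have hai : (Subgroup.zpowers a).index = 2 := by
      have h3 := Subgroup.card_mul_index (Subgroup.zpowers a)
      rw [Nat.card_zpowers, hoa, hn] at h3
      have h5 : 2 ^ n = 2 ^ (n - 1) * 2 := by
        rw [← pow_succ]; congr 1; omega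
      rw [h5] at h3
      exact Nat.eq_of_mul_eq_mul_left (by positivity) h3
    have hT : Subgroup.closure ({a, b} : Set S) = ⊤ := by
      rw [eq_top_iff]
      intro g _
      have haK : a ∈ Subgroup.closure ({a, b} : Set S) := Subgroup.subset_closure (by simp)
      have hbK : b ∈ Subgroup.closure ({a, b} : Set S) := Subgroup.subset_closure (by simp)
      by_cases hg : g ∈ Subgroup.zpowers a
      · exact (Subgroup.zpowers_le.mpr haK) hg
      · have h5 : g * b⁻¹ ∈ Subgroup.zpowers a := by
          rw [Subgroup.mul_mem_iff_of_index_two hai]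
          exact iff_of_false hg (fun h' => hb (by simpa using inv_mem h'))
        have h6 : g = g * b⁻¹ * b := by group
        rw [h6]
        exact Subgroup.mul_mem _ ((Subgroup.zpowers_le.mpr haK) h5) hbK
    have hax : Commute a x := by
      rw [hx]; exact (Commute.refl a).pow_right _
    have hpow : a ^ (2 ^ (n - 1)) = 1 := by rw [← hoa]; exact pow_orderOf_eq_one a
    have hxx : x ^ 2 = 1 := by
      rw [hx, ← pow_mul, ← pow_succ, show n - 2 + 1 = n - 1 by omega, hpow]
    have hbx : b * x * b⁻¹ = x := by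
      rw [hx, ← conj_pow, hba, ← pow_mul, add_mul, one_mul, pow_add]
      have h5 : 2 ^ (n - 2) * 2 ^ (n - 2) = 2 ^ (n - 1) * 2 ^ (n - 3) := by
        rw [← pow_add, ← pow_add]; congr 1; omega
      rw [h5, pow_mul, hpow, one_pow, mul_one]
    have hbab : b * a * b⁻¹ * a⁻¹ = x := by
      rw [hba, hx, pow_add, pow_one]; group
    have hab : a * b * a⁻¹ * b⁻¹ = x⁻¹ := by
      rw [← hbab]; group
    have hbound : Nat.card S ≤ 4 * orderOf x := by
      apply card_le_of_commutators x ({a, b} : Set S) hT _ _ h4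
      · rintro g (rfl | rfl)
        · rw [hax.eq, mul_inv_cancel_right]; exact Subgroup.mem_zpowers x
        · rw [hbx]; exact Subgroup.mem_zpowers x
      · rintro g (rfl | rfl) h (rfl | rfl)
        · simp
        · rw [hab]; exact Subgroup.inv_mem _ (Subgroup.mem_zpowers x)
        · rw [hbab]; exact Subgroup.mem_zpowers x
        · simp
    have hox : orderOf x ≤ 2 := Nat.le_of_dvd (by norm_num) (orderOf_dvd_of_pow_eq_one hxx)
    have h16 : 2 ^ 4 ≤ 2 ^ n := Nat.pow_le_pow_right (by norm_num) hn4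
    omega
  · exact Or.inr (Or.inr h)

end Cfsg.Agent.H25
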