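import Mathlib
import Cfsg.Agent.H25.Tau3
import Cfsg.Agent.H3.PGroup
import Cfsg.Prelude.Def_CaseTheorems

/-!
# 2-groups of sectional rank at most 2 containing a non-abelian subgroup of order 8 (helper25)

Such a group has commutator quotient of order 4 (so it is of maximal class by Taussky).
-/

set_option autoImplicit false

namespace Cfsg.Agent.H25

universe u

theorem exists_zpowers_sup_of_isCyclic_quotient {G : Type*} [Group G] (N : Subgroup G) [N.Normal]
    (h : IsCyclic (G ⧸ N)) : ∃ g : G, Subgroup.zpowers g ⊔ N = ⊤ := by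
  obtain ⟨q, hq⟩ := IsCyclic.exists_generator (α := G ⧸ N)
  obtain ⟨g, rfl⟩ := QuotientGroup.mk_surjective q
  refine ⟨g, eq_top_iff.mpr fun x _ => ?_⟩
  obtain ⟨k, hk⟩ := Subgroup.mem_zpowers_iff.mp (hq (x : G ⧸ N))
  have h1 : (g ^ k)⁻¹ * x ∈ N := by
    rw [← QuotientGroup.eq]
    simpa using hk
  have h2 : x = g ^ k * ((g ^ k)⁻¹ * x) := by group
  rw [h2]
  exact Subgroup.mul_mem_sup (Subgroup.zpow_mem_zpowers g k) h1

/-- A finite `p`-group whose abelianization is cyclic is abelian. -/
theorem commutator_eq_bot_of_isCyclic_quotient {p : ℕ} [Fact p.Prime] {G : Type*} [Group G]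
    [Finite G] (hG : IsPGroup p G) (h : IsCyclic (G ⧸ commutator G)) : commutator G = ⊥ := by
  obtain ⟨g, hg⟩ := exists_zpowers_sup_of_isCyclic_quotient (commutator G) h
  have h1 : Subgroup.zpowers g = ⊤ := by
    apply frattini_nongenerating
    rw [eq_top_iff, ← hg]
    exact sup_le_sup_left (Cfsg.Agent.H3.commutator_le_frattini hG) _
  apply commutator_eq_bot_of_comm
  intro a b
  have ha : a ∈ Subgroup.zpowers g := h1 ▸ Subgroup.mem_top a
  have hb : b ∈ Subgroup.zpowers g := h1 ▸ Subgroup.mem_top b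
  obtain ⟨i, rfl⟩ := Subgroup.mem_zpowers_iff.mp ha
  obtain ⟨j, rfl⟩ := Subgroup.mem_zpowers_iff.mp hb
  rw [← zpow_add, ← zpow_add, add_comm]

/-- In a non-abelian finite `2`-group the commutator subgroup has index at least `4`. -/
theorem four_le_commutator_index {G : Type*} [Group G] [Finite G] (hG : IsPGroup 2 G)
    (hnc : commutator G ≠ ⊥) : 4 ≤ (commutator G).index := by
  have : Fact (Nat.Prime 2) := ⟨Nat.prime_two⟩
  by_contra hlt
  apply hnc
  apply commutator_eq_bot_of_isCyclic_quotient hG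
  have hpos : 0 < (commutator G).index := Nat.pos_of_ne_zero Subgroup.index_ne_zero_of_finite
  obtain ⟨e, he⟩ := IsPGroup.iff_card.mp hG
  have hdvd : (commutator G).index ∣ 2 ^ e := he ▸ Subgroup.index_dvd_card _
  obtain ⟨k, -, hk⟩ := (Nat.dvd_prime_pow Nat.prime_two).mp hdvd
  have hk1 : k ≤ 1 := by
    by_contra hk2
    have : 2 ^ 2 ≤ 2 ^ k := Nat.pow_le_pow_right (by norm_num) (by omega)
    omega
  have hcard : Nat.card (G ⧸ commutator G) = (commutator G).index := (Subgroup.index_eq_card _).symm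
  interval_cases k
  · have : Subsingleton (G ⧸ commutator G) := by
      rw [← Finite.card_le_one_iff_subsingleton, hcard, hk]; norm_num
    exact isCyclic_of_subsingleton
  · exact isCyclic_of_prime_card (p := 2) (by rw [hcard, hk]; norm_num)

/-- If `|M : M'| = 4` and `|M| ≥ 8` for a `2`-group `M`, then `M / M'` has exponent `2`. -/
theorem sq_mem_commutator {M : Type*} [Group M] [Finite M] (h2 : IsPGroup 2 M)
    (h4 : (commutator M).index = 4) (h8 : 8 ≤ Nat.card M) (g : M) : g ^ 2 ∈ commutator M := by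
  have : Fact (Nat.Prime 2) := ⟨Nat.prime_two⟩
  by_contra hg
  have hcard : Nat.card (M ⧸ commutator M) = 4 := by rw [← Subgroup.index_eq_card, h4]
  set q : M ⧸ commutator M := (g : M ⧸ commutator M) with hq
  have hq2 : q ^ 2 ≠ 1 := by
    intro h
    apply hg
    rw [← QuotientGroup.eq_one_iff]
    exact h
  have hdvd : orderOf q ∣ 4 := hcard ▸ orderOf_dvd_natCard q
  have ho : orderOf q = 4 := by
    have h1 : orderOf q ∈ Nat.divisors 4 := Nat.mem_divisors.mpr ⟨hdvd, by norm_num⟩
    have h2' : Nat.divisors 4 = {1, 2, 4} := by decide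
    rw [h2'] at h1
    simp only [Finset.mem_insert, Finset.mem_singleton] at h1
    rcases h1 with h | h | h
    · exfalso; apply hq2
      have := pow_orderOf_eq_one q
      rw [h, pow_one] at this
      rw [this, one_pow]
    · exfalso; apply hq2
      have := pow_orderOf_eq_one q
      rwa [h] at this
    · exact h
  have hcyc : IsCyclic (M ⧸ commutator M) := isCyclic_of_orderOf_eq_card q (by rw [ho, hcard])
  have hbot := commutator_eq_bot_of_isCyclic_quotient h2 hcyc
  rw [hbot, Subgroup.index_bot] at h4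
  omega

theorem comm_of_sq_one {Q : Type*} [Group Q] (h : ∀ q : Q, q * q = 1) (x y : Q) :
    x * y = y * x := by
  calc x * y = x * ((x * y) * (x * y)) * y := by rw [h (x * y), mul_one]
    _ = (x * x) * (y * x) * (y * y) := by group
    _ = y * x := by rw [h x, h y, one_mul, mul_one]

theorem commutator_index_congr {G H : Type*} [Group G] [Group H] (e : G ≃* H) :
    (commutator G).index = (commutator H).index := by
  rw [Subgroup.index_eq_card, Subgroup.index_eq_card]
  exact Nat.card_congr e.abelianizationCongr.toEquiv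

/-- The index-2 step: if a maximal subgroup `M` of the `2`-group `K` has `|M : M'| = 4`,
`|M| ≥ 8`, and no quotient of `K` contains an elementary abelian subgroup of order `8`, then
`|K : K'| = 4`. -/
theorem commutator_index_four_step {K : Type u} [Group K] [Finite K] (h2 : IsPGroup 2 K)
    (hsec : ∀ (N : Subgroup K) [N.Normal], Cfsg.PRankLE 2 2 (K ⧸ N))
    (M : Subgroup K) (hM : M.index = 2) (hM4 : (commutator M).index = 4)
    (hM8 : 8 ≤ Nat.card M) : (commutator K).index = 4 := by
  have : Fact (Nat.Prime 2) := ⟨Nat.prime_two⟩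
  have hMn : M.Normal := Subgroup.normal_of_index_eq_two hM
  obtain ⟨n, a, b, hn3, hcard, hoa, hb, hrel⟩ := taussky_struct (h2.to_subgroup M) hM4 hM8
  set D : Subgroup K := ⁅M, M⁆ with hD
  have hDn : D.Normal := Subgroup.commutator_normal M M
  have hDM : D ≤ M := Subgroup.commutator_le_right M M
  have hDmap : (commutator M).map M.subtype = D := Subgroup.map_subtype_commutator M
  have hDK : D ≤ commutator K := by
    rw [hD, commutator_def]; exact Subgroup.commutator_mono le_top le_top
  have hsub : D.subgroupOf M = commutator M := by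
    rw [← hDmap]
    exact Subgroup.comap_map_eq_self_of_injective (Subgroup.subtype_injective M) _
  have hDidx : D.index = 8 := by
    have h1 : D.relIndex M = 4 := by
      change (D.subgroupOf M).index = 4
      rw [hsub, hM4]
    have h2' := Subgroup.relIndex_mul_index hDM
    rw [h1, hM] at h2'; omega
  have hKcard : Nat.card K = 2 ^ (n + 1) := by
    have := Subgroup.card_mul_index M
    rw [hM, hcard] at this
    rw [← this, pow_succ]
  have hDcard : Nat.card D = 2 ^ (n - 2) := by
    have h1 := Subgroup.card_mul_index D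
    rw [hDidx, hKcard] at h1
    obtain ⟨m, rfl⟩ : ∃ m, n = m + 3 := ⟨n - 3, by omega⟩
    have h3 : m + 3 - 2 = m + 1 := rfl
    rw [h3]
    have h4 : (2:ℕ) ^ (m + 3 + 1) = 2 ^ (m + 1) * 8 := by ring
    rw [h4] at h1
    exact Nat.eq_of_mul_eq_mul_right (by norm_num) h1
  -- squares of elements of `M` lie in `D`
  have hF1 : ∀ m : M, (m : K) ^ 2 ∈ D := by
    intro m
    rw [← hDmap]
    exact ⟨m ^ 2, sq_mem_commutator (h2.to_subgroup M) hM4 hM8 m, rfl⟩
  set a' : K := (a : K) with ha'
  set b' : K := (b : K) with hb'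
  have hoa' : orderOf a' = 2 ^ (n - 1) := by rw [ha', Subgroup.orderOf_coe, hoa]
  -- `D = ⟨a²⟩`
  have hDz : D = Subgroup.zpowers (a' ^ 2) := by
    symm
    apply Subgroup.eq_of_le_of_card_ge
    · rw [Subgroup.zpowers_le]; exact hF1 a
    · rw [Nat.card_zpowers, hDcard, orderOf_pow, hoa']
      obtain ⟨m, rfl⟩ : ∃ m, n = m + 2 := ⟨n - 2, by omega⟩
      have h3 : m + 2 - 1 = m + 1 := rfl
      have h4 : m + 2 - 2 = m := rfl
      rw [h3, h4]
      have h5 : Nat.gcd (2 ^ (m + 1)) 2 = 2 := by
        apply Nat.gcd_eq_right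
        exact Dvd.intro_left (2 ^ m) rfl
      rw [h5, pow_succ, Nat.mul_div_cancel _ (by norm_num : 0 < 2)]
  have hDmem : ∀ x : K, x ∈ D ↔ ∃ i : ℤ, x = a' ^ (2 * i) := by
    intro x
    rw [hDz, Subgroup.mem_zpowers_iff]
    constructor
    · rintro ⟨i, rfl⟩
      exact ⟨i, by rw [zpow_mul, zpow_ofNat]⟩
    · rintro ⟨i, rfl⟩
      exact ⟨i, by rw [zpow_mul, zpow_ofNat]⟩
  -- `M = ⟨a⟩ ∪ ⟨a⟩ b`
  have hF3 : ∀ m : K, m ∈ M → ∃ k : ℤ, m = a' ^ k ∨ m = a' ^ k * b' := by
    intro m hm
    have hidx : (Subgroup.zpowers a).index = 2 := by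
      have h1 := Subgroup.card_mul_index (Subgroup.zpowers a)
      rw [Nat.card_zpowers, hoa, hcard] at h1
      obtain ⟨m, rfl⟩ : ∃ m, n = m + 1 := ⟨n - 1, by omega⟩
      simp only [Nat.add_sub_cancel] at h1
      rw [pow_succ] at h1
      exact Nat.eq_of_mul_eq_mul_left (by positivity) h1
    by_cases hma : (⟨m, hm⟩ : M) ∈ Subgroup.zpowers a
    · obtain ⟨k, hk⟩ := Subgroup.mem_zpowers_iff.mp hma
      refine ⟨k, Or.inl ?_⟩
      have := congrArg Subtype.val hk
      simpa using this.symm
    · have h1 : (⟨m, hm⟩ : M) * b⁻¹ ∈ Subgroup.zpowers a := by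
        rw [Subgroup.mul_mem_iff_of_index_two hidx]
        constructor
        · intro h; exact absurd h hma
        · intro h; exact absurd (inv_mem_iff.mp h) hb
      obtain ⟨k, hk⟩ := Subgroup.mem_zpowers_iff.mp h1
      refine ⟨k, Or.inr ?_⟩
      have h3 := congrArg Subtype.val hk
      simp only [Subgroup.coe_zpow, Subgroup.coe_mul, Subgroup.coe_inv] at h3
      rw [ha', hb', h3]; group
  -- the conjugation exponent
  have hF5 : ∃ ε : ℤ, ε % 4 = 3 ∧ b' * a' * b'⁻¹ = a' ^ ε := by
    rcases hrel with ⟨-, h⟩ | ⟨-, h⟩ | ⟨hn4, -, h⟩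
    · refine ⟨-1, by norm_num, ?_⟩
      have := congrArg Subtype.val h
      simpa using this
    · refine ⟨-1, by norm_num, ?_⟩
      have := congrArg Subtype.val h
      simpa using this
    · refine ⟨((2 ^ (n - 2) - 1 : ℕ) : ℤ), ?_, ?_⟩
      · obtain ⟨m, rfl⟩ : ∃ m, n = m + 4 := ⟨n - 4, by omega⟩
        have h3 : m + 4 - 2 = m + 2 := rfl
        rw [h3]
        have h4 : (2:ℕ) ^ (m + 2) = 4 * 2 ^ m := by ring
        have h5 : 0 < 2 ^ m := by positivity
        rw [h4]
        omega
      · have := congrArg Subtype.val h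
        rw [zpow_natCast]
        simpa using this
  obtain ⟨ε, hε, hba⟩ := hF5
  have hord4 : ∀ i : ℤ, a' ^ i = 1 → (4 : ℤ) ∣ i := by
    intro i hi
    have h1 : ((orderOf a' : ℕ) : ℤ) ∣ i := orderOf_dvd_iff_zpow_eq_one.mpr hi
    rw [hoa'] at h1
    obtain ⟨m, rfl⟩ : ∃ m, n = m + 3 := ⟨n - 3, by omega⟩
    have h3 : m + 3 - 1 = m + 2 := rfl
    rw [h3] at h1
    have h4 : (4 : ℤ) ∣ ((2 ^ (m + 2) : ℕ) : ℤ) := ⟨2 ^ m, by push_cast; ring⟩
    exact h4.trans h1
  have hconjb : ∀ m : ℤ, b' * a' ^ m * b'⁻¹ = a' ^ (ε * m) := by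
    intro m
    rw [← conj_zpow, hba, ← zpow_mul]
  by_cases hcase : commutator K ≤ D
  · -- Case 2: `K / D` is abelian; contradiction
    exfalso
    have hcomm : ∀ g h : K, g * h * g⁻¹ * h⁻¹ ∈ D := by
      intro g h
      apply hcase
      rw [commutator_def]
      exact Subgroup.commutator_mem_commutator (Subgroup.mem_top g) (Subgroup.mem_top h)
    -- pick `s ∉ M`
    obtain ⟨s, hs⟩ : ∃ s : K, s ∉ M := by
      by_contra hall
      push Not at hall
      have : M = ⊤ := eq_top_iff.mpr fun x _ => hall x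
      rw [this, Subgroup.index_top] at hM
      omega
    obtain ⟨j, hj⟩ := (hDmem _).mp (hcomm s a')
    have hsa : s * a' * s⁻¹ = a' ^ (2 * j + 1) := by
      rw [zpow_add, zpow_one, ← hj]; group
    have hconjs : ∀ m : ℤ, s * a' ^ m * s⁻¹ = a' ^ ((2 * j + 1) * m) := by
      intro m
      rw [← conj_zpow, hsa, ← zpow_mul]
    have hs2M : s * s ∈ M := Subgroup.mul_self_mem_of_index_two hM s
    have hs2D : s * s ∈ D := by
      obtain ⟨k, hk | hk⟩ := hF3 _ hs2M
      · -- `s² = a^k`
        obtain ⟨t, rfl | rfl⟩ := Int.even_or_odd' k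
        · exact (hDmem _).mpr ⟨t, hk⟩
        · exfalso
          obtain ⟨i, hi⟩ := (hDmem _).mp (hcomm b' s)
          have hbs : b' * s * b'⁻¹ = a' ^ (2 * i) * s := by
            rw [← hi]; group
          have h1 : b' * (s * s) * b'⁻¹ = a' ^ (2 * i) * a' ^ ((2 * j + 1) * (2 * i)) * (s * s) := by
            calc b' * (s * s) * b'⁻¹ = (b' * s * b'⁻¹) * (b' * s * b'⁻¹) := by group
              _ = a' ^ (2 * i) * s * (a' ^ (2 * i) * s) := by rw [hbs]
              _ = a' ^ (2 * i) * (s * a' ^ (2 * i) * s⁻¹) * (s * s) := by group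
              _ = a' ^ (2 * i) * a' ^ ((2 * j + 1) * (2 * i)) * (s * s) := by rw [hconjs]
          rw [hk, hconjb, ← zpow_add, ← zpow_add] at h1
          have h2' : a' ^ (ε * (2 * t + 1) - (2 * i + (2 * j + 1) * (2 * i) + (2 * t + 1))) = 1 := by
            rw [zpow_sub, h1, mul_inv_cancel]
          have h3 := hord4 _ h2'
          have h4 : ε * (2 * t + 1) - (2 * i + (2 * j + 1) * (2 * i) + (2 * t + 1))
              = 2 * (ε * t) + ε - 4 * i - 4 * (j * i) - 2 * t - 1 := by ring
          rw [h4] at h3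
          obtain ⟨c, hc⟩ := h3
          obtain ⟨d, hd⟩ : ∃ d, ε = 4 * d + 3 := ⟨ε / 4, by omega⟩
          rw [hd] at hc
          have h5 : 2 * ((4 * d + 3) * t) = 8 * (d * t) + 6 * t := by ring
          rw [h5] at hc
          omega
      · -- `s² = a^k b`
        exfalso
        have h1 : (s * s) * a' * (s * s)⁻¹ = a' ^ ((2 * j + 1) * (2 * j + 1)) := by
          calc (s * s) * a' * (s * s)⁻¹ = s * (s * a' * s⁻¹) * s⁻¹ := by group
            _ = s * a' ^ (2 * j + 1) * s⁻¹ := by rw [hsa]
            _ = a' ^ ((2 * j + 1) * (2 * j + 1)) := hconjs _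
        have h2' : (s * s) * a' * (s * s)⁻¹ = a' ^ ε := by
          rw [hk]
          calc a' ^ k * b' * a' * (a' ^ k * b')⁻¹ = a' ^ k * (b' * a' * b'⁻¹) * (a' ^ k)⁻¹ := by group
            _ = a' ^ k * a' ^ ε * (a' ^ k)⁻¹ := by rw [hba]
            _ = a' ^ ε := by rw [← zpow_add, ← zpow_neg, ← zpow_add]; congr 1; ring
        rw [h1] at h2'
        have h3 : a' ^ ((2 * j + 1) * (2 * j + 1) - ε) = 1 := by
          rw [zpow_sub, h2', mul_inv_cancel]
        obtain ⟨c, hc⟩ := hord4 _ h3
        have h4 : (2 * j + 1) * (2 * j + 1) = 4 * (j * j) + 4 * j + 1 := by ring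
        rw [h4] at hc
        omega
    -- the quotient `K / D` is elementary abelian of order 8
    have hQcomm : ∀ x y : K ⧸ D, x * y = y * x := by
      intro x y
      induction x using QuotientGroup.induction_on with
      | H g =>
        induction y using QuotientGroup.induction_on with
        | H h =>
          rw [← QuotientGroup.mk_mul, ← QuotientGroup.mk_mul, QuotientGroup.eq]
          have := hcomm h⁻¹ g⁻¹
          have e : (g * h)⁻¹ * (h * g) = h⁻¹ * g⁻¹ * h⁻¹⁻¹ * g⁻¹⁻¹ := by group
          rw [e]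
          exact this
    have hQsq : ∀ x : K ⧸ D, x ^ 2 = 1 := by
      intro x
      induction x using QuotientGroup.induction_on with
      | H g =>
        by_cases hg : g ∈ M
        · rw [← QuotientGroup.mk_pow, QuotientGroup.eq_one_iff]
          exact hF1 ⟨g, hg⟩
        · have hm : s⁻¹ * g ∈ M := by
            rw [Subgroup.mul_mem_iff_of_index_two hM]
            constructor
            · intro h; exact absurd (inv_mem_iff.mp h) hs
            · intro h; exact absurd h hg
          have e : (g : K ⧸ D) = (s : K ⧸ D) * ((s⁻¹ * g : K) : K ⧸ D) := by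
            rw [← QuotientGroup.mk_mul]; congr 1; group
          rw [e, pow_two, mul_assoc, ← mul_assoc _ (s : K ⧸ D), hQcomm _ (s : K ⧸ D), mul_assoc,
            ← mul_assoc, ← QuotientGroup.mk_mul, ← QuotientGroup.mk_mul]
          have h1 : ((s * s : K) : K ⧸ D) = 1 := (QuotientGroup.eq_one_iff _).mpr hs2D
          have h2' : ((s⁻¹ * g * (s⁻¹ * g) : K) : K ⧸ D) = 1 := by
            rw [QuotientGroup.eq_one_iff, ← pow_two]
            exact hF1 ⟨s⁻¹ * g, hm⟩
          rw [h1, h2', one_mul]
    have hrank := hsec D ⊤ ⟨⟨fun x y => Subtype.ext (hQcomm x.1 y.1)⟩⟩ (fun x _ => hQsq x)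
    rw [Subgroup.card_top, ← Subgroup.index_eq_card, hDidx] at hrank
    norm_num at hrank
  · -- Case 1
    have hne : commutator K ≠ ⊥ := by
      intro h
      apply hcase
      rw [h]; exact bot_le
    have h4 := four_le_commutator_index h2 hne
    have hdvd : (commutator K).index ∣ 8 := hDidx ▸ Subgroup.index_dvd_of_le hDK
    have hne8 : (commutator K).index ≠ 8 := by
      intro h8
      apply hcase
      have h1 := Subgroup.card_mul_index (commutator K)
      have h2' := Subgroup.card_mul_index D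
      rw [h8] at h1
      rw [hDidx, ← h1] at h2'
      have h3 : Nat.card D = Nat.card (commutator K) := Nat.eq_of_mul_eq_mul_right (by norm_num) h2'
      exact (Subgroup.eq_of_le_of_card_ge hDK h3.ge).ge
    have h1 : (commutator K).index ∈ Nat.divisors 8 := Nat.mem_divisors.mpr ⟨hdvd, by norm_num⟩
    have h2' : Nat.divisors 8 = {1, 2, 4, 8} := by decide
    rw [h2'] at h1
    simp only [Finset.mem_insert, Finset.mem_singleton] at h1
    omega

/-- A `2`-group of sectional rank at most `2` containing a subgroup `P` of order `8` with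
`|P : P'| = 4` has `|S : S'| = 4`. -/
theorem commutator_index_four_of_sectional {S : Type u} [Group S] [Finite S] (h2 : IsPGroup 2 S)
    (hr : Cfsg.SectionalPRankLE 2 2 S) (P : Subgroup S) (hP8 : Nat.card P = 8)
    (hP4 : (commutator P).index = 4) : (commutator S).index = 4 := by
  have : Fact (Nat.Prime 2) := ⟨Nat.prime_two⟩
  obtain ⟨e, he⟩ := IsPGroup.iff_card.mp h2
  have key : ∀ m, 3 ≤ m → m ≤ e → ∃ M : Subgroup S, Nat.card M = 2 ^ m ∧
      (commutator M).index = 4 := by
    intro m hm
    induction m, hm using Nat.le_induction with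
    | base => intro _; exact ⟨P, by rw [hP8]; norm_num, hP4⟩
    | succ m hm ih =>
      intro hme
      obtain ⟨M, hMc, hM4⟩ := ih (by omega)
      obtain ⟨K, hKc, hMK⟩ := Sylow.exists_subgroup_card_pow_prime_le 2
        (n := m) (m := m + 1) (he ▸ pow_dvd_pow 2 hme) M hMc (by omega)
      refine ⟨K, hKc, ?_⟩
      have hidx : (M.subgroupOf K).index = 2 := by
        have h1 := Cfsg.Agent.H3.relIndex_mul_card_of_le hMK
        rw [hMc, hKc, pow_succ] at h1
        change M.relIndex K = 2
        have h3 : 0 < 2 ^ m := by positivity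
        nlinarith
      have hiso := Subgroup.subgroupOfEquivOfLe hMK
      apply commutator_index_four_step (h2.to_subgroup K) (fun N _ => hr K N) (M.subgroupOf K) hidx
      · rw [commutator_index_congr hiso, hM4]
      · rw [Nat.card_congr hiso.toEquiv, hMc]
        calc 8 = 2 ^ 3 := by norm_num
          _ ≤ 2 ^ m := Nat.pow_le_pow_right (by norm_num) hm
  have he3 : 3 ≤ e := by
    by_contra hcon
    have h1 : Nat.card P ≤ Nat.card S := Subgroup.card_le_card_group P
    have h3 : 2 ^ e ≤ 2 ^ 2 := Nat.pow_le_pow_right (by norm_num) (by omega)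
    omega
  obtain ⟨M, hMc, hM4⟩ := key e he3 le_rfl
  have hMtop : M = ⊤ := Subgroup.eq_top_of_card_eq M (by rw [hMc, he])
  subst hMtop
  rw [← commutator_index_congr (Subgroup.topEquiv (G := S))]
  exact hM4

end Cfsg.Agent.H25
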