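import Cfsg.Agent.H52.SnDefs

/-!
# SN-FINB (helper25, for helper52, S2942)

`[K, C] ≤ Q`.
-/

set_option autoImplicit false

namespace Cfsg.Agent.H25.Sn

open Cfsg
open scoped commutatorElement

universe u

theorem finB : Cfsg.Agent.H52.Sn.StFinB.{u} := by
  intro X _ _ T C Q J K O hC hQ hTC hCT hJT hKJ hOK hOQ hidx
  rw [Subgroup.commutator_le]
  intro k hk c hc
  by_cases hKQ : K ≤ Q
  · have h1 : k ∈ Q := hKQ hk
    have h2 : c * k⁻¹ * c⁻¹ ∈ Q := hQ.conj_mem _ (inv_mem h1) c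
    have h3 : ⁅k, c⁆ = k * (c * k⁻¹ * c⁻¹) := by rw [commutatorElement_def]; group
    rw [h3]; exact mul_mem h1 h2
  -- the quotient map
  obtain ⟨π, hπ⟩ : ∃ π : X →* X ⧸ Q, ∀ g, π g = 1 ↔ g ∈ Q :=
    ⟨QuotientGroup.mk' Q, fun g => QuotientGroup.eq_one_iff g⟩
  -- index 3
  have h3 : Q.relIndex K = 3 := by
    have hd : Q.relIndex K ∣ 3 := by
      rw [← hidx]; exact Subgroup.relIndex_dvd_of_le_left K hOQ
    rcases (Nat.dvd_prime Nat.prime_three).1 hd with h | h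
    · exact absurd (Subgroup.relIndex_eq_one.1 h) hKQ
    · exact h
  have hcard : Nat.card (↥K ⧸ Q.subgroupOf K) = 3 := by
    rw [← Subgroup.index_eq_card]; exact h3
  have : Fact (Nat.Prime 3) := ⟨Nat.prime_three⟩
  have hP1 : ∀ y ∈ K, (π y) ^ 3 = 1 := by
    intro y hy
    have h1 : ((⟨y, hy⟩ : ↥K) : ↥K ⧸ Q.subgroupOf K) ^ 3 = 1 := by
      rw [← hcard]; exact pow_card_eq_one'
    rw [← QuotientGroup.mk_pow, QuotientGroup.eq_one_iff, Subgroup.mem_subgroupOf] at h1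
    have h2 : y ^ 3 ∈ Q := h1
    rw [← map_pow, hπ]; exact h2
  have hP2 : ∀ x ∈ K, π x ≠ 1 → ∀ y ∈ K, ∃ i : ℕ, π y = (π x) ^ i := by
    intro x hx hx1 y hy
    have hne : ((⟨x, hx⟩ : ↥K) : ↥K ⧸ Q.subgroupOf K) ≠ 1 := by
      intro h
      rw [QuotientGroup.eq_one_iff, Subgroup.mem_subgroupOf] at h
      exact hx1 ((hπ x).2 h)
    have hmem : ((⟨y, hy⟩ : ↥K) : ↥K ⧸ Q.subgroupOf K) ∈
        Submonoid.powers ((⟨x, hx⟩ : ↥K) : ↥K ⧸ Q.subgroupOf K) :=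
      mem_powers_of_prime_card (p := 3) hcard hne
    obtain ⟨i, hi⟩ := (Submonoid.mem_powers_iff _ _).1 hmem
    refine ⟨i, ?_⟩
    rw [← QuotientGroup.mk_pow, QuotientGroup.eq, Subgroup.mem_subgroupOf] at hi
    have h2 : (x ^ i)⁻¹ * y ∈ Q := hi
    have h3 := (hπ _).2 h2
    rw [map_mul, map_inv, map_pow, inv_mul_eq_one] at h3
    exact h3.symm
  -- an element of `J` acting non-trivially on `K` modulo `Q`
  have hex : ∃ x ∈ K, ∃ a ∈ J, π (x * a * x⁻¹ * a⁻¹) ≠ 1 := by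
    by_contra hcon
    push Not at hcon
    apply hKQ
    have h1 : ⁅K, J⁆ ≤ Q := by
      rw [Subgroup.commutator_le]
      intro x hx a ha
      rw [commutatorElement_def]
      exact (hπ _).1 (hcon x hx a ha)
    rw [hKJ] at h1
    exact h1
  obtain ⟨x, hx, a, ha, hxa⟩ := hex
  have hyK : a * x * a⁻¹ ∈ K := by
    have h1 : ⁅x, a⁆ ∈ ⁅K, J⁆ := Subgroup.commutator_mem_commutator hx ha
    rw [hKJ, commutatorElement_def] at h1
    have h2 : x⁻¹ * (x * a * x⁻¹ * a⁻¹) ∈ K := mul_mem (inv_mem hx) h1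
    have h4 : a * x * a⁻¹ = (x⁻¹ * (x * a * x⁻¹ * a⁻¹))⁻¹ := by group
    rw [h4]; exact inv_mem h2
  have hx1 : π x ≠ 1 := by
    intro h
    have hxQ : x ∈ Q := (hπ x).1 h
    apply hxa
    rw [hπ]
    have h2 : a * x⁻¹ * a⁻¹ ∈ Q := hQ.conj_mem _ (inv_mem hxQ) a
    have h4 : x * a * x⁻¹ * a⁻¹ = x * (a * x⁻¹ * a⁻¹) := by group
    rw [h4]; exact mul_mem hxQ h2
  have hne : π (a * x * a⁻¹) ≠ π x := by
    intro h
    apply hxa
    have h4 : x * a * x⁻¹ * a⁻¹ = x * (a * x * a⁻¹)⁻¹ := by group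
    rw [h4, map_mul, map_inv, h, mul_inv_cancel]
  have hinv : π (a * x * a⁻¹) = (π x) ^ 2 := by
    obtain ⟨i, hi⟩ := hP2 x hx hx1 _ hyK
    rw [pow_eq_pow_mod i (hP1 x hx)] at hi
    have hlt : i % 3 < 3 := Nat.mod_lt _ (by norm_num)
    obtain ⟨j, hj⟩ : ∃ j, j = i % 3 := ⟨_, rfl⟩
    rw [← hj] at hi hlt
    interval_cases j
    · exfalso
      rw [pow_zero] at hi
      have h1 : a * x * a⁻¹ ∈ Q := (hπ _).1 hi
      have h2 : a⁻¹ * (a * x * a⁻¹) * a⁻¹⁻¹ ∈ Q := hQ.conj_mem _ h1 a⁻¹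
      have h4 : a⁻¹ * (a * x * a⁻¹) * a⁻¹⁻¹ = x := by group
      rw [h4] at h2
      exact hx1 ((hπ x).2 h2)
    · exfalso
      rw [pow_one] at hi
      exact hne hi
    · exact hi
  -- `π a` commutes with the image of `C`
  have hcomm : ∀ c' ∈ C, π a * π c' = π c' * π a := by
    intro c' hc'
    have h1 : c' * a * c'⁻¹ ∈ T := (Subgroup.mem_normalizer_iff.1 (hCT hc') a).1 (hJT ha)
    have h2 : c' * a * c'⁻¹ * a⁻¹ ∈ T := mul_mem h1 (inv_mem (hJT ha))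
    have h3 : c' * a * c'⁻¹ * a⁻¹ ∈ C := by
      have h5 : a * c'⁻¹ * a⁻¹ ∈ C := hC.conj_mem _ (inv_mem hc') a
      have h4 : c' * a * c'⁻¹ * a⁻¹ = c' * (a * c'⁻¹ * a⁻¹) := by group
      rw [h4]; exact mul_mem hc' h5
    have h6 : π (c' * a * c'⁻¹ * a⁻¹) = 1 := (hπ _).2 (hTC ⟨h2, h3⟩)
    rw [map_mul, map_mul, map_mul, map_inv, map_inv] at h6
    calc π a * π c' = (π c' * π a * (π c')⁻¹ * (π a)⁻¹)⁻¹ * (π c' * π a) := by group
      _ = π c' * π a := by rw [h6, inv_one, one_mul]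
  -- `π x` commutes with `π c`
  have hxc : π x * π c = π c * π x := by
    have h1 := hcomm c hc
    have h2' : x * c * x⁻¹ ∈ C := hC.conj_mem _ hc x
    have h2 := hcomm _ h2'
    rw [map_mul, map_mul, map_inv] at h2
    have h3 : π a * π x * (π a)⁻¹ = (π x) ^ 2 := by
      rw [← hinv, map_mul, map_mul, map_inv]
    have e1 : π a * π c * (π a)⁻¹ = π c := by rw [h1, mul_inv_cancel_right]
    have e2 : π a * (π x * π c * (π x)⁻¹) * (π a)⁻¹ = π x * π c * (π x)⁻¹ := by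
      rw [h2, mul_inv_cancel_right]
    have hW : (π x) ^ 2 * π c * ((π x) ^ 2)⁻¹ = π x * π c * (π x)⁻¹ := by
      calc (π x) ^ 2 * π c * ((π x) ^ 2)⁻¹
          = (π a * π x * (π a)⁻¹) * (π a * π c * (π a)⁻¹) * (π a * π x * (π a)⁻¹)⁻¹ := by
            rw [h3, e1]
        _ = π a * (π x * π c * (π x)⁻¹) * (π a)⁻¹ := by group
        _ = π x * π c * (π x)⁻¹ := e2
    have h5 : π x * π c * (π x)⁻¹ = π c := by
      calc π x * π c * (π x)⁻¹ = (π x)⁻¹ * ((π x) ^ 2 * π c * ((π x) ^ 2)⁻¹) * π x := by group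
        _ = (π x)⁻¹ * (π x * π c * (π x)⁻¹) * π x := by rw [hW]
        _ = π c := by group
    calc π x * π c = (π x * π c * (π x)⁻¹) * π x := by group
      _ = π c * π x := by rw [h5]
  -- conclusion
  obtain ⟨i, hi⟩ := hP2 x hx hx1 k hk
  have hkc : Commute (π k) (π c) := by
    rw [hi]
    exact Commute.pow_left hxc i
  rw [← hπ, commutatorElement_def, map_mul, map_mul, map_mul, map_inv, map_inv, hkc.eq,
    mul_inv_cancel_right, mul_inv_cancel]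

/-- Verbatim check. -/
example : Cfsg.Agent.H52.Sn.StFinB.{u} := finB

end Cfsg.Agent.H25.Sn
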