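import Cfsg.Agent.H37.SpDefs
import Cfsg.Agent.H5.SoAbs

/-!
# SP-ABS2 (piece of S2944, helper37 version): the abstract uniqueness statement for two Sylow
subgroups, from FINA, FINB, UNIQ, INJ2
-/

set_option autoImplicit false
open Cfsg

universe u

namespace Cfsg.Agent.H25.Sp37

open Cfsg.Agent.H52.Sn Cfsg.Agent.H37.Sp

/-- SP-ABS2. -/
theorem abs2 (hA : StFinA.{u}) (hB : StFinB.{u}) (hU : StUniq.{u}) (hI : StInj2.{u}) :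
    StAbs2.{u} := by
  intro X _ _ V T₁ T₂ Q M J₁ J₂ K₁ O₁ K₂ O₂ _ hV F1 F2 hodd h41 h42 hne
  have hCn : (Subgroup.centralizer (V : Set X)).Normal := F1.hC
  have hMn : M.Normal := F1.hM
  have hO1Q : O₁ ≤ Q :=
    (hA T₁ _ Q M J₁ K₁ O₁ F1.hT F1.hTi F1.hC F1.hQ F1.hM F1.hTC F1.hJM F1.hcomm F1.hKgen
      F1.hKJ F1.hOK F1.hO).1
  have hO2Q : O₂ ≤ Q :=
    (hA T₂ _ Q M J₂ K₂ O₂ F2.hT F2.hTi F2.hC F2.hQ F2.hM F2.hTC F2.hJM F2.hcomm F2.hKgen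
      F2.hKJ F2.hOK F2.hO).1
  have hO1 : O₁ ≤ Subgroup.centralizer (V : Set X) := hO1Q.trans F1.hQC
  have hO2 : O₂ ≤ Subgroup.centralizer (V : Set X) := hO2Q.trans F2.hQC
  have hB1 : ⁅K₁, Subgroup.centralizer (V : Set X)⁆ ≤ Q :=
    hB T₁ _ Q J₁ K₁ O₁ F1.hC F1.hQ F1.hTC F1.hCT F1.hJT F1.hKJ F1.hOK hO1Q F1.hO3
  have hB2 : ⁅K₂, Subgroup.centralizer (V : Set X)⁆ ≤ Q :=
    hB T₂ _ Q J₂ K₂ O₂ F2.hC F2.hQ F2.hTC F2.hCT F2.hJT F2.hKJ F2.hOK hO2Q F2.hO3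
  have hK1M : K₁ ≤ M := by
    rw [← F1.hKJ]
    exact (Subgroup.commutator_mono le_rfl F1.hJM).trans (Subgroup.commutator_le_right K₁ M)
  have hK2M : K₂ ≤ M := by
    rw [← F2.hKJ]
    exact (Subgroup.commutator_mono le_rfl F2.hJM).trans (Subgroup.commutator_le_right K₂ M)
  have hKK : ⁅K₁, K₂⁆ ≤ Subgroup.centralizer (V : Set X) := by
    have h1 := Cfsg.Agent.H5.Sn.commutator_closure_le (Subgroup.centralizer (V : Set X))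
      {g : X | g ∈ K₁ ∧ Odd (orderOf g)} {g : X | g ∈ K₂ ∧ Odd (orderOf g)}
      (fun x hx y hy => F1.hcomm x (hK1M hx.1) y (hK2M hy.1) hx.2 hy.2)
    rw [F1.hKgen, F2.hKgen] at h1
    exact h1
  have hsup := hU V K₁ K₂ O₁ O₂ hV F1.hOK hO1 F1.hO3 F2.hOK hO2 F2.hO3 hKK h41 h42 hne
  exact hI _ Q M T₁ J₁ K₁ O₁ T₂ J₂ K₂ O₂ F1 F2 hO1Q hO2Q hB1 hB2 hodd hsup

example (hA : StFinA.{u}) (hB : StFinB.{u}) (hU : StUniq.{u}) (hI : StInj2.{u}) :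
    StAbs2.{u} := abs2 hA hB hU hI

end Cfsg.Agent.H25.Sp37
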