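import Cfsg.Agent.H66.SpDefs

/-!
# SP-BASIC (piece of S2944, helper66 version): elementary facts about a `J(T)`-component
-/

set_option autoImplicit false
open Cfsg
open scoped commutatorElement

namespace Cfsg.Agent.H25.Sp66

universe u

/-- If `K = [K, J]` then `J` normalizes `K`. -/
theorem le_normalizer_of_comm_eq {G : Type u} [Group G] (K J : Subgroup G) (h : ⁅K, J⁆ = K) :
    J ≤ Subgroup.normalizer (K : Set G) := by
  have key : ∀ a ∈ J, ∀ k ∈ K, a * k * a⁻¹ ∈ K := by
    intro a ha k hk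
    have h1 : ⁅k⁻¹, a⁆ ∈ K := by
      rw [← h]; exact Subgroup.commutator_mem_commutator (K.inv_mem hk) ha
    have e : a * k * a⁻¹ = k * ⁅k⁻¹, a⁆ := by
      rw [commutatorElement_def]; group
    rw [e]; exact K.mul_mem hk h1
  intro a ha
  rw [Subgroup.mem_normalizer_iff]
  intro k
  constructor
  · exact key a ha k
  · intro hk
    have h2 := key a⁻¹ (J.inv_mem ha) _ hk
    have e : a⁻¹ * (a * k * a⁻¹) * a⁻¹⁻¹ = k := by group
    rw [e] at h2; exact h2

/-- Conjugation by an element of the normalizer fixes the subgroup. -/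
theorem map_conj_of_mem_normalizer {G : Type u} [Group G] (K : Subgroup G) (g : G)
    (hg : g ∈ Subgroup.normalizer (K : Set G)) :
    K.map (MulAut.conj g).toMonoidHom = K := by
  have hg' := Subgroup.mem_normalizer_iff.mp hg
  ext x
  constructor
  · rintro ⟨y, hy, rfl⟩
    simp only [MulEquiv.toMonoidHom_eq_coe, MonoidHom.coe_coe, MulAut.conj_apply]
    exact (hg' y).mp hy
  · intro hx
    refine ⟨g⁻¹ * x * g, ?_, ?_⟩
    · refine (hg' _).mpr ?_
      have e : g * (g⁻¹ * x * g) * g⁻¹ = x := by group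
      rw [e]; exact hx
    · simp only [MulEquiv.toMonoidHom_eq_coe, MonoidHom.coe_coe, MulAut.conj_apply]
      group

/-- An element conjugating a subgroup onto itself normalizes it. -/
theorem mem_normalizer_of_map_conj {G : Type u} [Group G] (W : Subgroup G) (g : G)
    (h : W.map (MulAut.conj g).toMonoidHom = W) :
    g ∈ Subgroup.normalizer (W : Set G) := by
  rw [Subgroup.mem_normalizer_iff]
  intro x
  constructor
  · intro hx
    rw [← h]
    exact ⟨x, hx, by simp [MulAut.conj_apply]⟩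
  · intro hx
    rw [← h] at hx
    obtain ⟨y, hy, e⟩ := hx
    simp only [MulEquiv.toMonoidHom_eq_coe, MonoidHom.coe_coe, MulAut.conj_apply] at e
    have e2 : y = x := by
      have h3 := congrArg (fun z => g⁻¹ * z * g) e
      simpa [mul_assoc] using h3
    rw [← e2]; exact hy

/-- SP-BASIC. -/
theorem basic (h : Cfsg.Agent.H66.Sp.StConjG.{u}) : Cfsg.Agent.H66.Sp.StBasic.{u} := by
  intro G _ _ T K hK
  obtain ⟨hgen, hKJ, hO3, hSylc, hW4, hWexp⟩ := hK
  have hKne : K ≠ ⊥ := by
    intro h0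
    rw [h0, Subgroup.relIndex_bot_right] at hO3
    exact absurd hO3 (by norm_num)
  have hJNK : thompsonSubgroupOf 2 T ≤ Subgroup.normalizer (K : Set G) :=
    le_normalizer_of_comm_eq K _ hKJ
  have hNKN : Subgroup.normalizer (K : Set G) ≤ Subgroup.normalizer (wOf K : Set G) := by
    intro g hg
    apply mem_normalizer_of_map_conj
    rw [← (h T K g).2.1, map_conj_of_mem_normalizer K g hg]
  have hKN : K ≤ Subgroup.normalizer (wOf K : Set G) := Subgroup.le_normalizer.trans hNKN
  have hW2 : IsPGroup 2 ↥(wOf K) := by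
    have hfact : Fact (Nat.Prime 2) := ⟨Nat.prime_two⟩
    exact IsPGroup.of_card (n := 2) (by rw [hW4]; norm_num)
  have hWne : wOf K ≠ ⊥ := by
    intro h0
    rw [h0, Subgroup.card_bot] at hW4
    exact absurd hW4 (by norm_num)
  have hJne : thompsonSubgroupOf 2 T ≠ ⊥ := by
    intro h0
    rw [h0, Subgroup.commutator_bot_right] at hKJ
    exact hKne hKJ.symm
  exact ⟨hKN, hJNK, hNKN, hW2, hWne, hJne⟩

example (h : Cfsg.Agent.H66.Sp.StConjG.{u}) :
    ∀ {G : Type u} [Group G] [Finite G] (T K : Subgroup G), IsJComponent T K →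
  K ≤ Subgroup.normalizer (wOf K : Set G) ∧
  thompsonSubgroupOf 2 T ≤ Subgroup.normalizer (K : Set G) ∧
  Subgroup.normalizer (K : Set G) ≤ Subgroup.normalizer (wOf K : Set G) ∧
  IsPGroup 2 ↥(wOf K) ∧ wOf K ≠ ⊥ ∧ thompsonSubgroupOf 2 T ≠ ⊥ := basic h

end Cfsg.Agent.H25.Sp66
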