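import Cfsg.Agent.H66.SpDefs
import Cfsg.Agent.H13.PCore

/-!
# SP-LFAM (piece of S2944, helper66 version): `N_G(W_K)` lies in the family of each of its
Sylow 2-subgroups `S` for which `K` is a `J(S)`-component
-/

set_option autoImplicit false
open Cfsg
open scoped commutatorElement

namespace Cfsg.Agent.H25.Sp66

universe u

/-- A 2-group generated by elements of odd order is trivial. -/
theorem eq_bot_of_gen_odd_of_two {G : Type u} [Group G] (K : Subgroup G)
    (hgen : Subgroup.closure {g : G | g ∈ K ∧ Odd (orderOf g)} = K) (h2 : IsPGroup 2 ↥K) :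
    K = ⊥ := by
  rw [← hgen, Subgroup.closure_eq_bot_iff]
  rintro g ⟨hg, hodd⟩
  obtain ⟨n, hn⟩ := h2 ⟨g, hg⟩
  have hgn : g ^ (2 ^ n) = 1 := by
    have h3 := congrArg Subtype.val hn
    simpa using h3
  have hd : orderOf g ∣ 2 ^ n := orderOf_dvd_of_pow_eq_one hgn
  have hcop : Nat.Coprime (orderOf g) (2 ^ n) :=
    Nat.Coprime.pow_right n hodd.coprime_two_right
  exact orderOf_eq_one_iff.mp (Nat.Coprime.eq_one_of_dvd hcop hd)

/-- SP-LFAM. -/
theorem lfam (h : Cfsg.Agent.H66.Sp.StBasic.{u}) : Cfsg.Agent.H66.Sp.StLFam.{u} := by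
  intro G _ _ hL S K hK hSyl
  obtain ⟨hKN, hJNK, hNKN, hW2, hWne, hJne⟩ := h S K hK
  obtain ⟨hgen, hKJ, hO3, hSylc, hW4, hWexp⟩ := hK
  have hKne : K ≠ ⊥ := by
    intro h0
    rw [h0, Subgroup.relIndex_bot_right] at hO3
    exact absurd hO3 (by norm_num)
  have hchar := hL.2 (wOf K) hW2 hWne
  unfold IsOfCharacteristicTwo at hchar
  have hpn := Cfsg.Agent.H13.pCore_normal 2 ↥(Subgroup.normalizer (wOf K : Set G))
  have hWQ : wOf K ≤ pCoreOf 2 (Subgroup.normalizer (wOf K : Set G)) := by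
    have h1 : (wOf K).subgroupOf (Subgroup.normalizer (wOf K : Set G)) ≤
        pCore 2 ↥(Subgroup.normalizer (wOf K : Set G)) :=
      Cfsg.Agent.H13.le_pCore Subgroup.normal_in_normalizer hW2.comap_subtype
    have h2 := Subgroup.map_mono (f := (Subgroup.normalizer (wOf K : Set G)).subtype) h1
    rw [Subgroup.map_subgroupOf_eq_of_le Subgroup.le_normalizer] at h2
    exact h2
  have hQ2 : IsPGroup 2 ↥(pCoreOf 2 (Subgroup.normalizer (wOf K : Set G))) := by
    unfold pCoreOf
    exact (Cfsg.Agent.H13.pCore_isPGroup 2 _).map _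
  refine ⟨hSyl, ?_, ?_⟩
  · -- `J(S) ≰ O₂(N)`
    intro hle
    have hKQ' : ⁅K, thompsonSubgroupOf 2 S⁆ ≤
        pCoreOf 2 (Subgroup.normalizer (wOf K : Set G)) := by
      rw [Subgroup.commutator_le]
      intro k hk a ha
      obtain ⟨a', ha', rfl⟩ := hle ha
      have hk' : k ∈ Subgroup.normalizer (wOf K : Set G) := hKN hk
      have h1 := hpn.conj_mem a' ha' ⟨k, hk'⟩
      have h2 := Subgroup.mul_mem _ h1 (Subgroup.inv_mem _ ha')
      refine ⟨_, h2, ?_⟩
      rw [commutatorElement_def]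
      rfl
    have hKQ : K ≤ pCoreOf 2 (Subgroup.normalizer (wOf K : Set G)) := by
      calc K = ⁅K, thompsonSubgroupOf 2 S⁆ := hKJ.symm
        _ ≤ _ := hKQ'
    exact hKne (eq_bot_of_gen_odd_of_two K hgen (hQ2.to_le hKQ))
  · -- `C_G(O₂(N)) ≤ O₂(N)`
    intro g hg
    have hgW : g ∈ Subgroup.centralizer (wOf K : Set G) :=
      Subgroup.centralizer_le (by exact_mod_cast hWQ) hg
    have hgN : g ∈ Subgroup.normalizer (wOf K : Set G) :=
      Subgroup.centralizer_le_normalizer _ hgW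
    have h1 : (⟨g, hgN⟩ : ↥(Subgroup.normalizer (wOf K : Set G))) ∈
        Subgroup.centralizer
          (pCore 2 ↥(Subgroup.normalizer (wOf K : Set G)) :
            Set ↥(Subgroup.normalizer (wOf K : Set G))) := by
      rw [Subgroup.mem_centralizer_iff]
      intro q hq
      have h2 := Subgroup.mem_centralizer_iff.mp hg (q : G) ⟨q, hq, rfl⟩
      exact Subtype.ext h2
    exact ⟨⟨g, hgN⟩, hchar h1, rfl⟩

example (h : Cfsg.Agent.H66.Sp.StBasic.{u}) :
    ∀ {G : Type u} [Group G] [Finite G], IsCharacteristicTwoType G →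
  ∀ (S K : Subgroup G), IsJComponent S K →
  IsSylowTwoIn S (Subgroup.normalizer (wOf K : Set G)) →
  Subgroup.normalizer (wOf K : Set G) ∈ jOvergroups S := lfam h

end Cfsg.Agent.H25.Sp66
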