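import Mathlib
import Cfsg.Agent.H44.SpLDefs
import Cfsg.Agent.H25.SpLG4

/-!
# S2333 team project (helper44), piece SPL-R3 (helper25)

Fourier inversion on `W × F`: the projections onto the joint eigenspaces of `ρ ∘ y` for the
characters `chi p` sum to `1`.  Hence if `y (0, ·)` acts nontrivially, some character with
nontrivial central part occurs.
-/

set_option autoImplicit false

namespace Cfsg.Agent.H25.SpL

open Matrix Module Cfsg.Agent.H17 Cfsg.Agent.H44 Cfsg.Agent.H44.SpL

universe u v w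

section Fourier

variable {F : Type u} [Field F] (m : ℕ) (ψ : AddChar F ℂ)

/-- `chi p` as an additive character (in the argument). -/
noncomputable def chiA (p : (Fin m ⊕ Fin m → F) × F) : AddChar ((Fin m ⊕ Fin m → F) × F) ℂ where
  toFun := chi m ψ p
  map_zero_eq_one' := by
    show ψ (Cfsg.sympForm m F ((0 : (Fin m ⊕ Fin m → F) × F).1) p.1 +
      p.2 * (0 : (Fin m ⊕ Fin m → F) × F).2) = 1
    rw [Prod.fst_zero, Prod.snd_zero, sympForm_zero_left, mul_zero, add_zero,
      AddChar.map_zero_eq_one]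
  map_add_eq_mul' := by
    intro a b
    show ψ (Cfsg.sympForm m F (a + b).1 p.1 + p.2 * (a + b).2) =
      ψ (Cfsg.sympForm m F a.1 p.1 + p.2 * a.2) * ψ (Cfsg.sympForm m F b.1 p.1 + p.2 * b.2)
    rw [Prod.fst_add, Prod.snd_add, sympForm_add_left, ← AddChar.map_add_eq_mul]
    congr 1
    ring

theorem chiA_apply (p a : (Fin m ⊕ Fin m → F) × F) : chiA m ψ p a = chi m ψ p a := rfl

/-- `chi · a` as an additive character (in the parameter). -/
noncomputable def chiB (a : (Fin m ⊕ Fin m → F) × F) : AddChar ((Fin m ⊕ Fin m → F) × F) ℂ where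
  toFun := fun p => chi m ψ p a
  map_zero_eq_one' := by
    show ψ (Cfsg.sympForm m F a.1 ((0 : (Fin m ⊕ Fin m → F) × F).1) +
      (0 : (Fin m ⊕ Fin m → F) × F).2 * a.2) = 1
    rw [Prod.fst_zero, Prod.snd_zero, sympForm_zero_right, zero_mul, add_zero,
      AddChar.map_zero_eq_one]
  map_add_eq_mul' := by
    intro p q
    show ψ (Cfsg.sympForm m F a.1 (p + q).1 + (p + q).2 * a.2) =
      ψ (Cfsg.sympForm m F a.1 p.1 + p.2 * a.2) * ψ (Cfsg.sympForm m F a.1 q.1 + q.2 * a.2)
    rw [Prod.fst_add, Prod.snd_add, sympForm_add_right, ← AddChar.map_add_eq_mul]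
    congr 1
    ring

theorem chiB_apply (p a : (Fin m ⊕ Fin m → F) × F) : chiB m ψ a p = chi m ψ p a := rfl

theorem chi_zero_right (p : (Fin m ⊕ Fin m → F) × F) : chi m ψ p 0 = 1 :=
  (chiA m ψ p).map_zero_eq_one

/-- For `a ≠ 0` the character `p ↦ chi p a` is nontrivial. -/
theorem chiB_ne_one (hψ : ψ.IsPrimitive) (a : (Fin m ⊕ Fin m → F) × F) (ha : a ≠ 0) :
    chiB m ψ a ≠ 1 := by
  intro h
  have h1 : ∀ p, chi m ψ p a = 1 := by
    intro p
    have h2 := congrArg (fun μ : AddChar ((Fin m ⊕ Fin m → F) × F) ℂ => μ p) h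
    simpa [chiB_apply] using h2
  by_cases ha2 : a.2 = 0
  · have ha1 : a.1 ≠ 0 := by
      intro h0
      exact ha (Prod.ext h0 ha2)
    obtain ⟨w, hw⟩ := exists_form_eq_one m a.1 ha1
    have hψ1 : AddChar.mulShift ψ 1 ≠ 1 := hψ one_ne_zero
    obtain ⟨s, hs⟩ : ∃ s, ψ s ≠ 1 := by
      by_contra hcon
      push Not at hcon
      apply hψ1
      ext x
      simp [hcon]
    have h3 := h1 (s • w, 0)
    unfold chi at h3
    dsimp only at h3
    rw [sympForm_smul_right, sympForm_swap, hw, zero_mul, add_zero] at h3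
    have h4 := h1 ((-s) • w, 0)
    unfold chi at h4
    dsimp only at h4
    rw [sympForm_smul_right, sympForm_swap, hw, zero_mul, add_zero] at h4
    apply hs
    have e : (-s) * (-1 : F) = s := by ring
    rw [e] at h4
    exact h4
  · have hψ2 : AddChar.mulShift ψ a.2 ≠ 1 := hψ ha2
    obtain ⟨s, hs⟩ : ∃ s, ψ (a.2 * s) ≠ 1 := by
      by_contra hcon
      push Not at hcon
      apply hψ2
      ext x
      simp [hcon]
    have h3 := h1 (0, s)
    unfold chi at h3
    dsimp only at h3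
    rw [sympForm_zero_right, zero_add, mul_comm] at h3
    exact hs h3

variable [Fintype F]

theorem sum_chi_inv (hψ : ψ.IsPrimitive) (a : (Fin m ⊕ Fin m → F) × F) (ha : a ≠ 0) :
    ∑ p, (chi m ψ p a)⁻¹ = 0 :=
  sum_addChar_inv (chiB m ψ a) (chiB_ne_one m ψ hψ a ha)

/-- Fourier inversion: the eigen-projections sum to `T 0`. -/
theorem sum_eigProj {V : Type v} [AddCommGroup V] [Module ℂ V] (hψ : ψ.IsPrimitive)
    (T : (Fin m ⊕ Fin m → F) × F → V →ₗ[ℂ] V) :
    ∑ p, eigProj T (chi m ψ p) = T 0 := by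
  classical
  have hcard : (Fintype.card ((Fin m ⊕ Fin m → F) × F) : ℂ) ≠ 0 := by
    exact_mod_cast Fintype.card_ne_zero
  unfold eigProj
  rw [← Finset.smul_sum, Finset.sum_comm]
  have h1 : ∀ a : (Fin m ⊕ Fin m → F) × F, ∑ p, (chi m ψ p a)⁻¹ • T a =
      (if a = 0 then (Fintype.card ((Fin m ⊕ Fin m → F) × F) : ℂ) else 0) • T a := by
    intro a
    rw [← Finset.sum_smul]
    congr 1
    split_ifs with h
    · subst h
      simp [chi_zero_right]
    · exact sum_chi_inv m ψ hψ a h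
  rw [Finset.sum_congr rfl (fun a _ => h1 a), Finset.sum_eq_single (0 : (Fin m ⊕ Fin m → F) × F)]
  · rw [if_pos rfl, smul_smul, inv_mul_cancel₀ hcard, one_smul]
  · intro b _ hb
    rw [if_neg hb, zero_smul]
  · intro h
    exact absurd (Finset.mem_univ _) h

end Fourier

/-- SPL-R3. -/
theorem r3 : StR3.{u, v, w} := by
  intro F _ _ m G _ V _ _ _ ρ y hy ψ hψ hex
  classical
  by_contra hcon
  push Not at hcon
  obtain ⟨c, hc⟩ := hex
  apply hc
  obtain ⟨T, hT⟩ : ∃ T : (Fin m ⊕ Fin m → F) × F → V →ₗ[ℂ] V, T = fun a => ρ (y a) := ⟨_, rfl⟩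
  have hTa : ∀ a, T a = ρ (y a) := fun a => by rw [hT]
  have hTadd : ∀ a b, T (a + b) = T a * T b := by
    intro a b
    rw [hTa, hTa, hTa, hy, map_mul]
  have hy0 : y 0 = 1 := by
    have h1 := hy 0 0
    rw [add_zero] at h1
    exact left_eq_mul.mp h1
  have hT0 : T 0 = 1 := by
    rw [hTa, hy0, map_one]
  have hsum := sum_eigProj m ψ hψ T
  rw [hT0] at hsum
  apply LinearMap.ext
  intro v
  have hv : ∑ p, eigProj T (chi m ψ p) v = v := by
    have h1 := congrArg (fun f : V →ₗ[ℂ] V => f v) hsum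
    simpa using h1
  have hfix : ∀ p, ρ (y (0, c)) (eigProj T (chi m ψ p) v) = eigProj T (chi m ψ p) v := by
    intro p
    have hmem : eigProj T (chi m ψ p) v ∈ eigSub T (chi m ψ p) :=
      (eigProj_isProj T hTadd (chiA m ψ p)).map_mem v
    by_cases h0 : eigProj T (chi m ψ p) v = 0
    · rw [h0, map_zero]
    · have hp : p ∈ Xset m ρ y ψ := by
        refine ⟨_, h0, fun a => ?_⟩
        have h1 := hmem a
        rw [hTa] at h1
        exact h1
      have hp2 := hcon p hp
      have h1 := hmem ((0 : Fin m ⊕ Fin m → F), c)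
      rw [hTa] at h1
      rw [h1]
      have h2 : chi m ψ p ((0 : Fin m ⊕ Fin m → F), c) = 1 := by
        unfold chi
        dsimp only
        rw [sympForm_zero_left, hp2, zero_mul, add_zero, AddChar.map_zero_eq_one]
      rw [h2, one_smul]
  rw [Module.End.one_apply]
  conv_lhs => rw [← hv]
  rw [map_sum]
  conv_rhs => rw [← hv]
  exact Finset.sum_congr rfl (fun p _ => hfix p)

example : StR3.{u, v, w} := r3

end Cfsg.Agent.H25.SpL
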