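import Mathlib
import Cfsg.Agent.H44.SpLDefs
import Cfsg.Agent.H25.SpLR3

/-!
# S2333 team project (helper44), piece SPL-R1 (helper25)

Dimension count: a subspace `C` fixed by `y (0, ·)` and one eigenvector for every occurring
character with nontrivial central part are independent.
-/

set_option autoImplicit false

namespace Cfsg.Agent.H25.SpL

open Matrix Module Cfsg.Agent.H17 Cfsg.Agent.H44 Cfsg.Agent.H44.SpL

universe u v w

section Fourier2

variable {F : Type u} [Field F] (m : ℕ) (ψ : AddChar F ℂ)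

/-- For `d ≠ 0` the character `chi d` is nontrivial. -/
theorem chiA_ne_one (hψ : ψ.IsPrimitive) (d : (Fin m ⊕ Fin m → F) × F) (hd : d ≠ 0) :
    chiA m ψ d ≠ 1 := by
  intro h
  have h1 : ∀ a, chi m ψ d a = 1 := by
    intro a
    have h2 := congrArg (fun μ : AddChar ((Fin m ⊕ Fin m → F) × F) ℂ => μ a) h
    simpa [chiA_apply] using h2
  by_cases hd2 : d.2 = 0
  · have hd1 : d.1 ≠ 0 := by
      intro h0
      exact hd (Prod.ext h0 hd2)
    obtain ⟨w, hw⟩ := exists_form_eq_one m d.1 hd1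
    have hψ1 : AddChar.mulShift ψ 1 ≠ 1 := hψ one_ne_zero
    obtain ⟨s, hs⟩ : ∃ s, ψ s ≠ 1 := by
      by_contra hcon
      push Not at hcon
      apply hψ1
      ext x
      simp [hcon]
    have h3 := h1 (s • w, 0)
    unfold chi at h3
    dsimp only at h3
    rw [sympForm_smul_left, hw, mul_zero, add_zero, mul_one] at h3
    exact hs h3
  · have hψ2 : AddChar.mulShift ψ d.2 ≠ 1 := hψ hd2
    obtain ⟨s, hs⟩ : ∃ s, ψ (d.2 * s) ≠ 1 := by
      by_contra hcon
      push Not at hcon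
      apply hψ2
      ext x
      simp [hcon]
    have h3 := h1 (0, s)
    unfold chi at h3
    dsimp only at h3
    rw [sympForm_zero_left, zero_add] at h3
    exact hs h3

variable [Fintype F]

/-- Orthogonality: the `q`-projection kills `p`-eigenvectors for `p ≠ q`. -/
theorem eigProj_of_ne {V : Type v} [AddCommGroup V] [Module ℂ V] (hψ : ψ.IsPrimitive)
    (T : (Fin m ⊕ Fin m → F) × F → V →ₗ[ℂ] V) (p q : (Fin m ⊕ Fin m → F) × F) (hpq : p ≠ q)
    (x : V) (hx : ∀ a, T a x = chi m ψ p a • x) : eigProj T (chi m ψ q) x = 0 := by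
  classical
  unfold eigProj
  rw [LinearMap.smul_apply, LinearMap.sum_apply]
  have h1 : ∀ a : (Fin m ⊕ Fin m → F) × F,
      ((chi m ψ q a)⁻¹ • T a) x = chi m ψ (p - q) a • x := by
    intro a
    rw [LinearMap.smul_apply, hx a, smul_smul]
    congr 1
    have h2 : chi m ψ p a = chi m ψ (p - q) a * chi m ψ q a := by
      have h3 := (chiB m ψ a).map_add_eq_mul (p - q) q
      rw [sub_add_cancel] at h3
      exact h3
    have h4 : chi m ψ q a ≠ 0 := addChar_ne_zero (chiA m ψ q) a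
    rw [h2]
    field_simp
  rw [Finset.sum_congr rfl (fun a _ => h1 a), ← Finset.sum_smul]
  have h5 : ∑ a, chi m ψ (p - q) a = 0 :=
    AddChar.sum_eq_zero_of_ne_one (chiA_ne_one m ψ hψ (p - q) (sub_ne_zero.mpr hpq))
  rw [h5, zero_smul, smul_zero]

/-- The `q`-projection (`q.2 ≠ 0`) kills vectors fixed by the centre `y (0, ·)`. -/
theorem eigProj_of_fixed {V : Type v} [AddCommGroup V] [Module ℂ V] (hψ : ψ.IsPrimitive)
    (T : (Fin m ⊕ Fin m → F) × F → V →ₗ[ℂ] V) (hTadd : ∀ a b, T (a + b) = T a * T b)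
    (q : (Fin m ⊕ Fin m → F) × F) (hq : q.2 ≠ 0)
    (x : V) (hx : ∀ c : F, T ((0 : Fin m ⊕ Fin m → F), c) x = x) :
    eigProj T (chi m ψ q) x = 0 := by
  classical
  unfold eigProj
  rw [LinearMap.smul_apply, LinearMap.sum_apply, Fintype.sum_prod_type]
  have h1 : ∀ (w : Fin m ⊕ Fin m → F) (c : F),
      ((chi m ψ q (w, c))⁻¹ • T (w, c)) x =
        ((chi m ψ q (w, 0))⁻¹ * (AddChar.mulShift ψ q.2 c)⁻¹) • T (w, 0) x := by
    intro w c
    have e1 : ((w, c) : (Fin m ⊕ Fin m → F) × F) = (w, 0) + (0, c) := by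
      rw [Prod.mk_add_mk, add_zero, zero_add]
    have e2 : chi m ψ q (w, c) = chi m ψ q (w, 0) * AddChar.mulShift ψ q.2 c := by
      have h3 := (chiA m ψ q).map_add_eq_mul (w, 0) (0, c)
      rw [← e1] at h3
      have h4 : chiA m ψ q ((0 : Fin m ⊕ Fin m → F), c) = AddChar.mulShift ψ q.2 c := by
        show ψ (Cfsg.sympForm m F (0 : Fin m ⊕ Fin m → F) q.1 + q.2 * c) = ψ (q.2 * c)
        rw [sympForm_zero_left, zero_add]
      rw [h4] at h3
      exact h3
    rw [LinearMap.smul_apply, e2, mul_inv]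
    congr 1
    rw [e1, hTadd, Module.End.mul_apply, hx c]
  have h2 : ∑ c : F, (AddChar.mulShift ψ q.2 c)⁻¹ = 0 :=
    sum_addChar_inv (AddChar.mulShift ψ q.2) (hψ hq)
  have h3 : ∀ w : Fin m ⊕ Fin m → F,
      ∑ c : F, ((chi m ψ q (w, c))⁻¹ • T (w, c)) x = 0 := by
    intro w
    rw [Finset.sum_congr rfl (fun c _ => h1 w c), ← Finset.sum_smul, ← Finset.mul_sum, h2,
      mul_zero, zero_smul]
  rw [Finset.sum_congr rfl (fun w _ => h3 w), Finset.sum_const_zero, smul_zero]

end Fourier2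

/-- SPL-R1. -/
theorem r1 : StR1.{u, v, w} := by
  intro F _ _ m G _ V _ _ _ ρ y hy ψ hψ C hC
  classical
  obtain ⟨T, hT⟩ : ∃ T : (Fin m ⊕ Fin m → F) × F → V →ₗ[ℂ] V, T = fun a => ρ (y a) := ⟨_, rfl⟩
  have hTa : ∀ a, T a = ρ (y a) := fun a => by rw [hT]
  have hTadd : ∀ a b, T (a + b) = T a * T b := by
    intro a b
    rw [hTa, hTa, hTa, hy, map_mul]
  obtain ⟨S, hS⟩ : ∃ S : Set ((Fin m ⊕ Fin m → F) × F),
      S = {p | p ∈ Xset m ρ y ψ ∧ p.2 ≠ 0} := ⟨_, rfl⟩
  rw [← hS]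
  have hSiff : ∀ p : (Fin m ⊕ Fin m → F) × F, p ∈ S ↔ (p ∈ Xset m ρ y ψ ∧ p.2 ≠ 0) := by
    intro p
    rw [hS]
    rfl
  have hSmem : ∀ p : S, ∃ x : V, x ≠ 0 ∧
      ∀ a, T a x = chi m ψ (p : (Fin m ⊕ Fin m → F) × F) a • x := by
    intro p
    have h1 := (hSiff p).mp p.2
    obtain ⟨x, hx0, hx⟩ := h1.1
    exact ⟨x, hx0, fun a => by rw [hTa]; exact hx a⟩
  have hS2 : ∀ p : S, (p : (Fin m ⊕ Fin m → F) × F).2 ≠ 0 := by
    intro p
    exact ((hSiff p).mp p.2).2
  choose vf hvf0 hvf using hSmem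
  have hfinS : Fintype S := Fintype.ofFinite S
  obtain ⟨Φ, hΦ⟩ : ∃ Φ : (C × (S → ℂ)) →ₗ[ℂ] V,
      Φ = C.subtype.coprod (Fintype.linearCombination ℂ vf) := ⟨_, rfl⟩
  have hΦa : ∀ (u : C) (t : S → ℂ), Φ (u, t) = (u : V) + ∑ p, t p • vf p := by
    intro u t
    rw [hΦ, LinearMap.coprod_apply, Fintype.linearCombination_apply]
    rfl
  have hinj : Function.Injective Φ := by
    rw [injective_iff_map_eq_zero]
    rintro ⟨u, t⟩ h0
    rw [hΦa] at h0
    have ht : ∀ q : S, t q = 0 := by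
      intro q
      have h1 := congrArg (eigProj T (chi m ψ (q : (Fin m ⊕ Fin m → F) × F))) h0
      rw [map_add, map_sum, map_zero] at h1
      have h2 : eigProj T (chi m ψ (q : (Fin m ⊕ Fin m → F) × F)) (u : V) = 0 := by
        apply eigProj_of_fixed m ψ hψ T hTadd _ (hS2 q)
        intro c
        rw [hTa]
        exact hC u u.2 c
      have h3 : ∀ p : S, eigProj T (chi m ψ (q : (Fin m ⊕ Fin m → F) × F)) (t p • vf p) =
          if p = q then t q • vf q else 0 := by
        intro p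
        rw [map_smul]
        split_ifs with hpq
        · subst hpq
          have h4 : eigProj T (chi m ψ (p : (Fin m ⊕ Fin m → F) × F)) (vf p) = vf p :=
            (eigProj_isProj T hTadd (chiA m ψ (p : (Fin m ⊕ Fin m → F) × F))).map_id (vf p)
              (hvf p)
          rw [h4]
        · rw [eigProj_of_ne m ψ hψ T _ _ (fun h => hpq (Subtype.ext h)) (vf p) (hvf p),
            smul_zero]
      rw [h2, zero_add, Finset.sum_congr rfl (fun p _ => h3 p), Finset.sum_ite_eq'] at h1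
      simp only [Finset.mem_univ, if_true] at h1
      exact (smul_eq_zero.mp h1).resolve_right (hvf0 q)
    have ht0 : t = 0 := funext ht
    rw [ht0] at h0
    simp only [Pi.zero_apply, zero_smul, Finset.sum_const_zero, add_zero] at h0
    have hu0 : u = 0 := Subtype.ext h0
    rw [hu0, ht0]
    rfl
  have h1 := LinearMap.finrank_le_finrank_of_injective hinj
  rw [Module.finrank_prod, Module.finrank_fintype_fun_eq_card] at h1
  have h2 : Set.ncard S = Fintype.card S := by
    rw [← Nat.card_coe_set_eq, Nat.card_eq_fintype_card]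
  rw [h2]
  exact h1

example : StR1.{u, v, w} := r1

end Cfsg.Agent.H25.SpL
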