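import Mathlib
import Cfsg.Agent.H97.SpRDefs

/-!
# S2281-TRICK (helper25, for helper97): the commutator of `d(1 + cN) U(T)` with `u₁`
is a nontrivial element `U(X)`.
-/

set_option autoImplicit false

namespace Cfsg.Agent.H25.SpR

open Matrix Cfsg.Agent.H97.SpR

variable {F : Type*} [Field F]

theorem shiftN_mul_apply (k : ℕ) (S : Matrix (Fin k) (Fin k) F) (i j i' : Fin k)
    (h : (i : ℕ) + 1 = (i' : ℕ)) : (shiftN F k * S) i j = S i' j := by
  rw [Matrix.mul_apply, Finset.sum_eq_single i']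
  · simp [shiftN, h]
  · intro b _ hb
    have hne : ¬ ((i : ℕ) + 1 = (b : ℕ)) := fun h' => hb (Fin.ext (by omega))
    simp [shiftN, hne]
  · intro h'
    exact absurd (Finset.mem_univ _) h'

theorem shiftN_mul_apply_last (k : ℕ) (S : Matrix (Fin k) (Fin k) F) (i j : Fin k)
    (h : (i : ℕ) + 1 = k) : (shiftN F k * S) i j = 0 := by
  rw [Matrix.mul_apply]
  apply Finset.sum_eq_zero
  intro b _
  have hne : ¬ ((i : ℕ) + 1 = (b : ℕ)) := by
    have := b.isLt
    omega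
  simp [shiftN, hne]

theorem mul_shiftN_transpose_apply (k : ℕ) (S : Matrix (Fin k) (Fin k) F) (i j j' : Fin k)
    (h : (j : ℕ) + 1 = (j' : ℕ)) : (S * (shiftN F k)ᵀ) i j = S i j' := by
  rw [Matrix.mul_apply, Finset.sum_eq_single j']
  · simp [shiftN, h]
  · intro b _ hb
    have hne : ¬ ((j : ℕ) + 1 = (b : ℕ)) := fun h' => hb (Fin.ext (by omega))
    simp [shiftN, hne]
  · intro h'
    exact absurd (Finset.mem_univ _) h'

theorem mul_shiftN_transpose_apply_last (k : ℕ) (S : Matrix (Fin k) (Fin k) F) (i j : Fin k)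
    (h : (j : ℕ) + 1 = k) : (S * (shiftN F k)ᵀ) i j = 0 := by
  rw [Matrix.mul_apply]
  apply Finset.sum_eq_zero
  intro b _
  have hne : ¬ ((j : ℕ) + 1 = (b : ℕ)) := by
    have := b.isLt
    omega
  simp [shiftN, hne]

theorem uniM_mul (k : ℕ) (c : F) (S : Matrix (Fin k) (Fin k) F) :
    uniM k c * S = S + c • (shiftN F k * S) := by
  rw [uniM, add_mul, one_mul, Matrix.smul_mul]

theorem mul_uniM_transpose (k : ℕ) (c : F) (S : Matrix (Fin k) (Fin k) F) :
    S * (uniM k c)ᵀ = S + c • (S * (shiftN F k)ᵀ) := by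
  rw [uniM, Matrix.transpose_add, Matrix.transpose_one, Matrix.transpose_smul, mul_add, mul_one,
    Matrix.mul_smul]

theorem uniM_mul_apply (k : ℕ) (c : F) (S : Matrix (Fin k) (Fin k) F) (i j i' : Fin k)
    (h : (i : ℕ) + 1 = (i' : ℕ)) : (uniM k c * S) i j = S i j + c * S i' j := by
  rw [uniM_mul, Matrix.add_apply, Matrix.smul_apply, shiftN_mul_apply k S i j i' h, smul_eq_mul]

theorem uniM_mul_apply_last (k : ℕ) (c : F) (S : Matrix (Fin k) (Fin k) F) (i j : Fin k)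
    (h : (i : ℕ) + 1 = k) : (uniM k c * S) i j = S i j := by
  rw [uniM_mul, Matrix.add_apply, Matrix.smul_apply, shiftN_mul_apply_last k S i j h, smul_zero,
    add_zero]

theorem mul_uniM_transpose_apply (k : ℕ) (c : F) (S : Matrix (Fin k) (Fin k) F) (i j j' : Fin k)
    (h : (j : ℕ) + 1 = (j' : ℕ)) : (S * (uniM k c)ᵀ) i j = S i j + c * S i j' := by
  rw [mul_uniM_transpose, Matrix.add_apply, Matrix.smul_apply,
    mul_shiftN_transpose_apply k S i j j' h, smul_eq_mul]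

theorem mul_uniM_transpose_apply_last (k : ℕ) (c : F) (S : Matrix (Fin k) (Fin k) F)
    (i j : Fin k) (h : (j : ℕ) + 1 = k) : (S * (uniM k c)ᵀ) i j = S i j := by
  rw [mul_uniM_transpose, Matrix.add_apply, Matrix.smul_apply,
    mul_shiftN_transpose_apply_last k S i j h, smul_zero, add_zero]

theorem uniM_comm (k : ℕ) (c d : F) : uniM k c * uniM k d = uniM k d * uniM k c := by
  simp only [uniM, add_mul, mul_add, one_mul, mul_one, Matrix.smul_mul, Matrix.mul_smul,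
    smul_smul]
  rw [mul_comm d c]
  abel

theorem uniSL_comm (k : ℕ) (c d : F) : uniSL k c * uniSL k d = uniSL k d * uniSL k c := by
  apply Subtype.ext
  rw [Matrix.SpecialLinearGroup.coe_mul, Matrix.SpecialLinearGroup.coe_mul, uniSL_coe, uniSL_coe]
  exact uniM_comm k c d

theorem mul_single_mul_transpose_apply {k : ℕ} (M : Matrix (Fin k) (Fin k) F) (l i j : Fin k) :
    (M * Matrix.single l l (1 : F) * Mᵀ) i j = M i l * M j l := by
  rw [Matrix.mul_apply, Finset.sum_eq_single l]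
  · rw [Matrix.mul_single_apply_same, mul_one, Matrix.transpose_apply]
  · intro b _ hb
    rw [Matrix.mul_single_apply_of_ne _ _ _ _ _ hb, zero_mul]
  · intro h'
    exact absurd (Finset.mem_univ _) h'

/-- The general commutator identity. -/
theorem trick_general {k : ℕ} (g J : Matrix.SpecialLinearGroup (Fin k) F)
    (hcomm : g * J = J * g) (T E : Matrix (Fin k) (Fin k) F) :
    dU g T * dU J E =
      Matrix.fromBlocks 1
        (((g : Matrix (Fin k) (Fin k) F) * (J : Matrix (Fin k) (Fin k) F)) * E *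
            ((g : Matrix (Fin k) (Fin k) F) * (J : Matrix (Fin k) (Fin k) F))ᵀ +
          (g : Matrix (Fin k) (Fin k) F) * T * (g : Matrix (Fin k) (Fin k) F)ᵀ -
          (J : Matrix (Fin k) (Fin k) F) *
            ((g : Matrix (Fin k) (Fin k) F) * T * (g : Matrix (Fin k) (Fin k) F)ᵀ) *
            (J : Matrix (Fin k) (Fin k) F)ᵀ -
          (J : Matrix (Fin k) (Fin k) F) * E * (J : Matrix (Fin k) (Fin k) F)ᵀ) 0 1 *
        (dU J E * dU g T) := by
  obtain ⟨A, hA⟩ : ∃ A : Matrix (Fin k) (Fin k) F, A = (g : Matrix (Fin k) (Fin k) F) :=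
    ⟨_, rfl⟩
  obtain ⟨A', hA'⟩ : ∃ A' : Matrix (Fin k) (Fin k) F,
    A' = ((g⁻¹ : Matrix.SpecialLinearGroup (Fin k) F) : Matrix (Fin k) (Fin k) F) := ⟨_, rfl⟩
  obtain ⟨B, hB⟩ : ∃ B : Matrix (Fin k) (Fin k) F, B = (J : Matrix (Fin k) (Fin k) F) :=
    ⟨_, rfl⟩
  obtain ⟨B', hB'⟩ : ∃ B' : Matrix (Fin k) (Fin k) F,
    B' = ((J⁻¹ : Matrix.SpecialLinearGroup (Fin k) F) : Matrix (Fin k) (Fin k) F) := ⟨_, rfl⟩
  have hA'A : A' * A = 1 := by
    rw [hA, hA', ← Matrix.SpecialLinearGroup.coe_mul, inv_mul_cancel,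
      Matrix.SpecialLinearGroup.coe_one]
  have hB'B : B' * B = 1 := by
    rw [hB, hB', ← Matrix.SpecialLinearGroup.coe_mul, inv_mul_cancel,
      Matrix.SpecialLinearGroup.coe_one]
  have hAB : A * B = B * A := by
    rw [hA, hB, ← Matrix.SpecialLinearGroup.coe_mul, hcomm, Matrix.SpecialLinearGroup.coe_mul]
  have hgJ' : g * J⁻¹ = J⁻¹ * g := by
    have : Commute g J := hcomm
    exact this.inv_right
  have hg'J' : g⁻¹ * J⁻¹ = J⁻¹ * g⁻¹ := by
    have : Commute g J := hcomm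
    exact this.inv_right.inv_left
  have hAB' : A * B' = B' * A := by
    rw [hA, hB', ← Matrix.SpecialLinearGroup.coe_mul, hgJ', Matrix.SpecialLinearGroup.coe_mul]
  have hA'B' : A' * B' = B' * A' := by
    rw [hA', hB', ← Matrix.SpecialLinearGroup.coe_mul, hg'J',
      Matrix.SpecialLinearGroup.coe_mul]
  have t1 : Bᵀ * B'ᵀ = 1 := by rw [← Matrix.transpose_mul, hB'B, Matrix.transpose_one]
  have t2 : Aᵀ * A'ᵀ = 1 := by rw [← Matrix.transpose_mul, hA'A, Matrix.transpose_one]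
  have t3 : Aᵀ * B'ᵀ = B'ᵀ * Aᵀ := by
    rw [← Matrix.transpose_mul, ← Matrix.transpose_mul, hAB']
  have t4 : A'ᵀ * B'ᵀ = B'ᵀ * A'ᵀ := by
    rw [← Matrix.transpose_mul, ← Matrix.transpose_mul, hA'B']
  have t1' : ∀ Y : Matrix (Fin k) (Fin k) F, Bᵀ * (B'ᵀ * Y) = Y := fun Y => by
    rw [← Matrix.mul_assoc, t1, Matrix.one_mul]
  have t3' : ∀ Y : Matrix (Fin k) (Fin k) F, Aᵀ * (B'ᵀ * Y) = B'ᵀ * (Aᵀ * Y) := fun Y => by
    rw [← Matrix.mul_assoc, t3, Matrix.mul_assoc]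
  unfold dU
  rw [← hA, ← hA', ← hB, ← hB']
  rw [Matrix.fromBlocks_multiply, Matrix.fromBlocks_multiply, Matrix.fromBlocks_multiply]
  rw [Matrix.fromBlocks_inj]
  refine ⟨?_, ?_, ?_, ?_⟩
  · simp only [Matrix.mul_zero, Matrix.zero_mul, add_zero, Matrix.one_mul]
    exact hAB
  · simp only [Matrix.one_mul, Matrix.zero_mul, zero_add, Matrix.transpose_mul,
      Matrix.mul_assoc, sub_mul, add_mul, t3', t1', t1, t2, Matrix.mul_one]
    abel
  · simp only [Matrix.mul_zero, Matrix.zero_mul, add_zero]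
  · simp only [Matrix.zero_mul, zero_add, Matrix.one_mul]
    exact t4

theorem lift_trick (m : ℕ) (c : F) (hc0 : c ≠ 0) (hc1 : c ≠ 1)
    (T : Matrix (Fin (m + 3)) (Fin (m + 3)) F) (hT : Tᵀ = T) :
    ∃ X : Matrix (Fin (m + 3)) (Fin (m + 3)) F, Xᵀ = X ∧ X ≠ 0 ∧
      dU (uniSL (m + 3) c) T * u1M F m =
        Matrix.fromBlocks 1 X 0 1 * (u1M F m * dU (uniSL (m + 3) c) T) := by
  have hmain := trick_general (uniSL (m + 3) c) (uniSL (m + 3) (1 : F))
    (uniSL_comm (m + 3) c 1) T (Matrix.single (Fin.last (m + 2)) (Fin.last (m + 2)) (1 : F))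
  rw [uniSL_coe, uniSL_coe] at hmain
  obtain ⟨T₁, hT₁⟩ : ∃ T₁ : Matrix (Fin (m + 3)) (Fin (m + 3)) F,
    T₁ = uniM (m + 3) c * T * (uniM (m + 3) c)ᵀ := ⟨_, rfl⟩
  rw [← hT₁] at hmain
  have hT₁s : T₁ᵀ = T₁ := by
    rw [hT₁]
    simp only [Matrix.transpose_mul, Matrix.transpose_transpose, hT, Matrix.mul_assoc]
  refine ⟨_, ?_, ?_, hmain⟩
  · simp only [Matrix.transpose_sub, Matrix.transpose_add, Matrix.transpose_mul,
      Matrix.transpose_transpose, hT₁s, Matrix.transpose_single, Matrix.mul_assoc]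
  · intro hX0
    obtain ⟨a, ha⟩ : ∃ a : Fin (m + 3), (a : ℕ) = m + 1 := ⟨⟨m + 1, by omega⟩, rfl⟩
    obtain ⟨b, hb⟩ : ∃ b : Fin (m + 3), (b : ℕ) = m := ⟨⟨m, by omega⟩, rfl⟩
    obtain ⟨l, hl⟩ : ∃ l : Fin (m + 3), l = Fin.last (m + 2) := ⟨_, rfl⟩
    have hlv : (l : ℕ) = m + 2 := by rw [hl]; rfl
    rw [← hl] at hX0
    have hal : (a : ℕ) + 1 = (l : ℕ) := by omega
    have hba : (b : ℕ) + 1 = (a : ℕ) := by omega
    have hll : (l : ℕ) + 1 = m + 3 := by omega
    have haa := congrFun (congrFun hX0 a) a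
    have hbl := congrFun (congrFun hX0 b) l
    have hal' := congrFun (congrFun hX0 a) l
    have hBll : uniM (m + 3) (1 : F) l l = 1 := by
      rw [uniM_apply]; simp
    have hBal : uniM (m + 3) (1 : F) a l = 1 := by
      rw [uniM_apply]
      have : a ≠ l := fun h => by rw [h] at hal; omega
      simp [this, hal]
    have hBbl : uniM (m + 3) (1 : F) b l = 0 := by
      rw [uniM_apply]
      have h1 : b ≠ l := fun h => by rw [h] at hb; omega
      have h2 : ¬ ((b : ℕ) + 1 = (l : ℕ)) := by omega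
      simp [h1, h2]
    have hPl : (uniM (m + 3) c * uniM (m + 3) (1 : F)) l l = 1 := by
      rw [uniM_mul_apply_last _ _ _ _ _ hll, hBll]
    have hPa : (uniM (m + 3) c * uniM (m + 3) (1 : F)) a l = 1 + c := by
      rw [uniM_mul_apply _ _ _ _ _ l hal, hBal, hBll, mul_one]
    have hPb : (uniM (m + 3) c * uniM (m + 3) (1 : F)) b l = c := by
      rw [uniM_mul_apply _ _ _ _ _ a hba, hBbl, hBal, mul_one, zero_add]
    have hJaa : (uniM (m + 3) (1 : F) * T₁ * (uniM (m + 3) (1 : F))ᵀ) a a =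
        T₁ a a + T₁ l a + (T₁ a l + T₁ l l) := by
      rw [mul_uniM_transpose_apply _ _ _ _ _ l hal, uniM_mul_apply _ _ _ _ _ l hal,
        uniM_mul_apply _ _ _ _ _ l hal, one_mul, one_mul, one_mul]
    have hJbl : (uniM (m + 3) (1 : F) * T₁ * (uniM (m + 3) (1 : F))ᵀ) b l =
        T₁ b l + T₁ a l := by
      rw [mul_uniM_transpose_apply_last _ _ _ _ _ hll, uniM_mul_apply _ _ _ _ _ a hba, one_mul]
    have hJal : (uniM (m + 3) (1 : F) * T₁ * (uniM (m + 3) (1 : F))ᵀ) a l =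
        T₁ a l + T₁ l l := by
      rw [mul_uniM_transpose_apply_last _ _ _ _ _ hll, uniM_mul_apply _ _ _ _ _ l hal, one_mul]
    have hsym : T₁ l a = T₁ a l := by
      have := congrFun (congrFun hT₁s a) l
      rw [Matrix.transpose_apply] at this
      exact this
    simp only [Matrix.sub_apply, Matrix.add_apply, Matrix.zero_apply,
      mul_single_mul_transpose_apply, hPl, hPa, hPb, hBll, hBal, hBbl, hJaa, hJbl, hJal, hsym]
      at haa hbl hal'
    have key : c * (c - 1) = 0 := by linear_combination haa - 2 * hbl - hal'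
    rcases mul_eq_zero.mp key with h | h
    · exact hc0 h
    · exact hc1 (sub_eq_zero.mp h)

example : ∀ (F : Type*) [Field F] (m : ℕ) (c : F) (hc0 : c ≠ 0) (hc1 : c ≠ 1)
    (T : Matrix (Fin (m + 3)) (Fin (m + 3)) F) (hT : Tᵀ = T),
    ∃ X : Matrix (Fin (m + 3)) (Fin (m + 3)) F, Xᵀ = X ∧ X ≠ 0 ∧
      dU (uniSL (m + 3) c) T * u1M F m =
        Matrix.fromBlocks 1 X 0 1 * (u1M F m * dU (uniSL (m + 3) c) T) :=
  fun _ _ m c hc0 hc1 T hT => lift_trick m c hc0 hc1 T hT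

end Cfsg.Agent.H25.SpR
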