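import Mathlib
import Cfsg.Agent.H97.SpRDefs
import Cfsg.Agent.H25.SpRTrick

/-!
# S2281-ORD, auxiliary part (helper25, for helper97): in characteristic `2` a suitable
`2`-power of `u₁` is a nontrivial `U(X)`, given that `(u₁ - 1)^(2n-1) ≠ 0`.
-/

set_option autoImplicit false

namespace Cfsg.Agent.H25.SpR

open Matrix Cfsg.Agent.H97.SpR

variable {F : Type*} [Field F]

theorem shiftN_pow_apply (k : ℕ) (j : ℕ) (a b : Fin k) :
    (shiftN F k ^ j) a b = if (a : ℕ) + j = (b : ℕ) then 1 else 0 := by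
  induction j generalizing a with
  | zero =>
    rw [pow_zero, Matrix.one_apply]
    have : ((a : ℕ) + 0 = (b : ℕ)) ↔ a = b := by
      rw [add_zero]
      exact Fin.ext_iff.symm
    simp only [this]
  | succ j ih =>
    rw [pow_succ']
    by_cases h : (a : ℕ) + 1 < k
    · rw [shiftN_mul_apply k _ a b ⟨(a : ℕ) + 1, h⟩ rfl, ih]
      have : (((⟨(a : ℕ) + 1, h⟩ : Fin k) : ℕ) + j = (b : ℕ)) ↔ ((a : ℕ) + (j + 1) = (b : ℕ)) := by
        show (a : ℕ) + 1 + j = (b : ℕ) ↔ _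
        omega
      simp only [this]
    · have hk : (a : ℕ) + 1 = k := by
        have := a.isLt
        omega
      rw [shiftN_mul_apply_last k _ a b hk]
      have : ¬ ((a : ℕ) + (j + 1) = (b : ℕ)) := by
        have := b.isLt
        omega
      rw [if_neg this]

theorem shiftN_pow_eq_zero (k j : ℕ) (h : k ≤ j) : shiftN F k ^ j = 0 := by
  ext a b
  rw [shiftN_pow_apply, Matrix.zero_apply, if_neg]
  have := b.isLt
  omega

theorem dU_mul {k : ℕ} (g g' : Matrix.SpecialLinearGroup (Fin k) F)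
    (S S' : Matrix (Fin k) (Fin k) F) :
    dU g S * dU g' S' =
      dU (g * g') (((g'⁻¹ : Matrix.SpecialLinearGroup (Fin k) F) : Matrix (Fin k) (Fin k) F) * S *
        ((g'⁻¹ : Matrix.SpecialLinearGroup (Fin k) F) : Matrix (Fin k) (Fin k) F)ᵀ + S') := by
  have h1 : (g' : Matrix (Fin k) (Fin k) F) *
      ((g'⁻¹ : Matrix.SpecialLinearGroup (Fin k) F) : Matrix (Fin k) (Fin k) F) = 1 := by
    rw [← Matrix.SpecialLinearGroup.coe_mul, mul_inv_cancel, Matrix.SpecialLinearGroup.coe_one]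
  unfold dU
  rw [Matrix.fromBlocks_multiply, Matrix.fromBlocks_inj]
  refine ⟨?_, ?_, ?_, ?_⟩
  · rw [Matrix.mul_zero, add_zero, Matrix.SpecialLinearGroup.coe_mul]
  · have h1' : ∀ Y : Matrix (Fin k) (Fin k) F, (g' : Matrix (Fin k) (Fin k) F) *
        (((g'⁻¹ : Matrix.SpecialLinearGroup (Fin k) F) : Matrix (Fin k) (Fin k) F) * Y) = Y :=
      fun Y => by rw [← Matrix.mul_assoc, h1, Matrix.one_mul]
    simp only [Matrix.SpecialLinearGroup.coe_mul, Matrix.mul_add, Matrix.mul_assoc, h1']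
    rw [add_comm]
  · rw [Matrix.zero_mul, Matrix.mul_zero, add_zero]
  · rw [Matrix.zero_mul, zero_add, _root_.mul_inv_rev, Matrix.SpecialLinearGroup.coe_mul,
      Matrix.transpose_mul]

theorem dU_one {k : ℕ} (S : Matrix (Fin k) (Fin k) F) :
    dU (1 : Matrix.SpecialLinearGroup (Fin k) F) S = Matrix.fromBlocks 1 S 0 1 := by
  unfold dU
  rw [inv_one, Matrix.SpecialLinearGroup.coe_one, Matrix.one_mul, Matrix.transpose_one]

theorem dU_pow {k : ℕ} (g : Matrix.SpecialLinearGroup (Fin k) F)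
    (S₀ : Matrix (Fin k) (Fin k) F) (hS₀ : S₀ᵀ = S₀) (j : ℕ) :
    ∃ S : Matrix (Fin k) (Fin k) F, Sᵀ = S ∧ (dU g S₀) ^ j = dU (g ^ j) S := by
  induction j with
  | zero =>
    refine ⟨0, Matrix.transpose_zero, ?_⟩
    rw [pow_zero, pow_zero, dU_one, Matrix.fromBlocks_one]
  | succ j ih =>
    obtain ⟨S, hS, hpow⟩ := ih
    refine ⟨((g⁻¹ : Matrix.SpecialLinearGroup (Fin k) F) : Matrix (Fin k) (Fin k) F) * S *
        ((g⁻¹ : Matrix.SpecialLinearGroup (Fin k) F) : Matrix (Fin k) (Fin k) F)ᵀ + S₀, ?_, ?_⟩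
    · simp only [Matrix.transpose_add, Matrix.transpose_mul, Matrix.transpose_transpose, hS, hS₀,
        Matrix.mul_assoc]
    · rw [pow_succ, hpow, dU_mul, pow_succ]

theorem exists_two_pow (n : ℕ) (hn : 1 ≤ n) : ∃ t : ℕ, n ≤ 2 ^ t ∧ 2 ^ t < 2 * n := by
  classical
  have hex : ∃ t : ℕ, n ≤ 2 ^ t := ⟨n, Nat.lt_two_pow_self.le⟩
  refine ⟨Nat.find hex, Nat.find_spec hex, ?_⟩
  rcases Nat.eq_zero_or_pos (Nat.find hex) with h0 | hpos
  · rw [h0, pow_zero]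
    omega
  · obtain ⟨s, hs⟩ : ∃ s, Nat.find hex = s + 1 := ⟨Nat.find hex - 1, by omega⟩
    have hmin : ¬ (n ≤ 2 ^ s) := Nat.find_min hex (by omega)
    rw [hs, pow_succ]
    omega

theorem sub_one_pow_two_pow {R : Type*} [Ring R] (hdbl : ∀ x : R, x + x = 0) (x : R) (t : ℕ) :
    (x - 1) ^ (2 ^ t) = x ^ (2 ^ t) - 1 := by
  induction t with
  | zero => rw [pow_zero, pow_one, pow_one]
  | succ t ih =>
    rw [pow_succ, pow_mul, ih, pow_mul]
    have h1 := hdbl (x ^ 2 ^ t)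
    have h2 := hdbl (1 : R)
    calc (x ^ 2 ^ t - 1) ^ 2 = (x ^ 2 ^ t) ^ 2 - 1 - (x ^ 2 ^ t + x ^ 2 ^ t) + (1 + 1) := by
          noncomm_ring
      _ = (x ^ 2 ^ t) ^ 2 - 1 := by rw [h1, h2, sub_zero, add_zero]

theorem one_add_pow_two_pow {R : Type*} [Ring R] (hdbl : ∀ x : R, x + x = 0) (x : R) (t : ℕ) :
    (1 + x) ^ (2 ^ t) = 1 + x ^ (2 ^ t) := by
  induction t with
  | zero => rw [pow_zero, pow_one, pow_one]
  | succ t ih =>
    rw [pow_succ, pow_mul, ih, pow_mul]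
    have h1 := hdbl (x ^ 2 ^ t)
    calc (1 + x ^ 2 ^ t) ^ 2 = 1 + (x ^ 2 ^ t) ^ 2 + (x ^ 2 ^ t + x ^ 2 ^ t) := by
          noncomm_ring
      _ = 1 + (x ^ 2 ^ t) ^ 2 := by rw [h1, add_zero]

theorem matrix_dbl {ι : Type*} (h2 : (2 : F) = 0) (M : Matrix ι ι F) : M + M = 0 := by
  ext i j
  rw [Matrix.add_apply, Matrix.zero_apply, ← two_mul, h2, zero_mul]

theorem uniSL_pow_two_pow (n t : ℕ) (h2 : (2 : F) = 0) (h : n ≤ 2 ^ t) :
    (uniSL n (1 : F)) ^ (2 ^ t) = 1 := by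
  apply Subtype.ext
  rw [Matrix.SpecialLinearGroup.coe_pow, uniSL_coe, Matrix.SpecialLinearGroup.coe_one, uniM,
    one_smul, one_add_pow_two_pow (matrix_dbl h2), shiftN_pow_eq_zero n _ h, add_zero]

theorem exists_pow_upper_of_reg (m : ℕ) (h2 : (2 : F) = 0)
    (hreg : (u1M F m - 1) ^ (2 * (m + 3) - 1) ≠ 0) :
    ∃ (k : ℕ) (X : Matrix (Fin (m + 3)) (Fin (m + 3)) F), Xᵀ = X ∧ X ≠ 0 ∧
      (u1M F m) ^ k = Matrix.fromBlocks 1 X 0 1 := by
  obtain ⟨t, ht1, ht2⟩ := exists_two_pow (m + 3) (by omega)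
  obtain ⟨S, hS, hpow⟩ := dU_pow (uniSL (m + 3) (1 : F))
    (Matrix.single (Fin.last (m + 2)) (Fin.last (m + 2)) (1 : F))
    (Matrix.transpose_single _ _ _) (2 ^ t)
  rw [uniSL_pow_two_pow (m + 3) t h2 ht1, dU_one] at hpow
  have hpow' : (u1M F m) ^ (2 ^ t) = Matrix.fromBlocks 1 S 0 1 := hpow
  refine ⟨2 ^ t, S, hS, ?_, hpow'⟩
  intro hS0
  apply hreg
  have h0 : (u1M F m - 1) ^ (2 ^ t) = 0 := by
    rw [sub_one_pow_two_pow (matrix_dbl h2), hpow', hS0, Matrix.fromBlocks_one, sub_self]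
  have hsplit : 2 * (m + 3) - 1 = 2 ^ t + (2 * (m + 3) - 1 - 2 ^ t) := by omega
  rw [hsplit, pow_add, h0, zero_mul]

end Cfsg.Agent.H25.SpR
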