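import Mathlib
import Cfsg.Agent.H97.SpRDefs
import Cfsg.Agent.H62.SpRReg
import Cfsg.Agent.H25.SpROrdAux

/-!
# S2281-ORD (helper25, for helper97): in characteristic `2` a `2`-power of `u₁` is a
nontrivial `U(X)`.
-/

set_option autoImplicit false

namespace Cfsg.Agent.H25.SpR

open Matrix Cfsg.Agent.H97.SpR

variable {F : Type*} [Field F]

theorem exists_pow_upper (m : ℕ) (h2 : (2 : F) = 0) :
    ∃ (k : ℕ) (X : Matrix (Fin (m + 3)) (Fin (m + 3)) F), Xᵀ = X ∧ X ≠ 0 ∧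
      (u1M F m) ^ k = Matrix.fromBlocks 1 X 0 1 :=
  exists_pow_upper_of_reg m h2 (Cfsg.Agent.H62.SpR.u1M_regular m).2

end Cfsg.Agent.H25.SpR
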