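import Cfsg.Agent.H66.SpDefs

/-!
# SP-SYL (piece of S2944, helper66 version): a 2-subgroup of `N` lies in a Sylow 2-subgroup
of `N`
-/

set_option autoImplicit false
open Cfsg

namespace Cfsg.Agent.H25.Sp66

universe u

/-- SP-SYL. -/
theorem syl : Cfsg.Agent.H66.Sp.StSyl.{u} := by
  intro G _ _ J N hJ hJN
  have hfact : Fact (Nat.Prime 2) := ⟨Nat.prime_two⟩
  have hJ' : IsPGroup 2 ↥(J.subgroupOf N) := hJ.comap_subtype
  obtain ⟨P, hP⟩ := hJ'.exists_le_sylow
  refine ⟨(P : Subgroup ↥N).map N.subtype, ?_, ⟨Subgroup.map_subtype_le _, ?_, ?_⟩⟩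
  · intro x hx
    exact ⟨⟨x, hJN hx⟩, hP (Subgroup.mem_subgroupOf.mpr hx), rfl⟩
  · exact P.isPGroup'.map N.subtype
  · have e : ((P : Subgroup ↥N).map N.subtype).relIndex N = (P : Subgroup ↥N).index := by
      unfold Subgroup.relIndex
      rw [← Subgroup.comap_subtype,
        Subgroup.comap_map_eq_self_of_injective N.subtype_injective]
    rw [e]
    have h1 := P.not_dvd_index
    rw [← Nat.not_even_iff_odd, even_iff_two_dvd]
    exact h1

example : ∀ {G : Type u} [Group G] [Finite G] (P N : Subgroup G),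
  IsPGroup 2 ↥P → P ≤ N → ∃ S : Subgroup G, P ≤ S ∧ IsSylowTwoIn S N := syl

end Cfsg.Agent.H25.Sp66
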