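import Cfsg.Agent.H23.StbDecDefs2
import Cfsg.Agent.H78.StbPsi

/-!
# SD-PSIG (helper25, for helper23, S2156)

If `θ(x_{α_i}(t)) = x_{α_j}(φ t)`, `θ(x_{-α_i}(t)) = x_{-α_j}(ψ t)` with `φ 1 = 1`, then
`ψ = φ`, `φ(a⁻¹) = (φ a)⁻¹` and `θ(h_i(a)) = h_j(φ a)`.  (helper78's `psi` with two nodes.)
-/

set_option autoImplicit false

namespace Cfsg.Agent.H25.StbD

open Cfsg.Lie Cfsg.Agent.H23 Cfsg.Agent.H23.Stb Cfsg.Agent.H78.Stb

universe u

theorem psiG (h : Cfsg.Agent.H23.Stb.StRank1.{u}) : Cfsg.Agent.H23.StbD.StPsiG.{u} := by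
  intro D F _ z η rT w0 hC θ i j hi hj φ ψ hφ hψ hφ1
  have hN := hC.hP.semN
  have hT := hC.hP.tab
  have hT2 := hC.hP.tab2
  have hrl : D.simple i < D.nroots := hT.simple_lt i hi
  have hrlj : D.simple j < D.nroots := hT.simple_lt j hj
  have hnlj : D.neg (D.simple j) < D.nroots := hT.neg_lt _ hrlj
  have hφ0 : ∀ t : F, t ≠ 0 → φ t ≠ 0 := by
    intro t ht h0
    apply ht
    apply φ.injective
    rw [h0, map_zero]
  -- the image of `n_{α_i}(t)`
  have hθn : ∀ t : F, θ (nGel hC.hP.sem (D.simple i) t) =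
      xG hC.hP.sem (D.simple j) (φ t) * xG hC.hP.sem (D.neg (D.simple j)) (ψ (-t⁻¹)) *
        xG hC.hP.sem (D.simple j) (φ t) := by
    intro t
    unfold nGel
    rw [map_mul, map_mul, hφ, hψ]
  -- (★)
  have hstar : ∀ t : F, t ≠ 0 → ψ (-t⁻¹) = -(φ t)⁻¹ := by
    intro t ht
    apply h D F z η rT w0 hC j hj (φ t) (ψ (-t⁻¹)) (hφ0 t ht)
    intro u
    obtain ⟨v, rfl⟩ := φ.surjective u
    obtain ⟨q, hq, hqc⟩ := nGel_conj hC.hP.sem hN hT i hi t ht
    refine ⟨ψ (q * v), ?_⟩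
    have hG2 := congrArg θ (hqc v)
    rw [map_mul, map_mul, map_inv, hθn, hφ, hψ] at hG2
    exact congrArg Subtype.val hG2
  have hψm1 : ψ (-1) = -1 := by
    have := hstar 1 one_ne_zero
    rw [inv_one, hφ1, inv_one] at this
    exact this
  have hψ1 : ψ 1 = 1 := by
    have h2 : ψ (-1) = -ψ 1 := map_neg ψ 1
    rw [hψm1] at h2
    exact (neg_injective h2).symm
  have hθn' : ∀ t : F, t ≠ 0 → θ (nGel hC.hP.sem (D.simple i) t) =
      nGel hC.hP.sem (D.simple j) (φ t) := by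
    intro t ht
    rw [hθn, hstar t ht]
    rfl
  -- the signs
  have hsign : ∀ e : F, (e = 1 ∨ e = -1) → ∀ t : F, ψ (e * t) = e * ψ t := by
    intro e he t
    rcases he with he | he
    · rw [he, one_mul, one_mul]
    · rw [he, neg_one_mul, neg_one_mul, map_neg]
  have hei : (((η i (D.simple i) : ℤ) : F) = 1 ∨ ((η i (D.simple i) : ℤ) : F) = -1) := by
    rcases hN.eta i (D.simple i) with he | he
    · left; rw [he]; simp
    · right; rw [he]; simp
  have h3 : ∀ t : F, ((η j (D.simple j) : ℤ) : F) * φ t = ((η i (D.simple i) : ℤ) : F) * ψ t := by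
    intro t
    have hG2 := congrArg θ (nGel_one_conj hC.hP.sem hN i hi hrl t)
    rw [map_mul, map_mul, map_inv, hθn' 1 one_ne_zero, hφ1, hφ, hψ,
      nGel_one_conj hC.hP.sem hN j hj hrlj (φ t)] at hG2
    have h3 : ((η j (D.simple j) : ℤ) : F) * φ t = ψ (((η i (D.simple i) : ℤ) : F) * t) :=
      xU_inj hC.hP.sem hT hT2 _ hnlj _ _ (congrArg Subtype.val hG2)
    rw [h3, hsign _ hei]
  have hee : ((η j (D.simple j) : ℤ) : F) = ((η i (D.simple i) : ℤ) : F) := by
    have := h3 1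
    rw [hφ1, hψ1, mul_one, mul_one] at this
    exact this
  have hei0 : ((η i (D.simple i) : ℤ) : F) ≠ 0 := by
    rcases hei with he | he
    · rw [he]; exact one_ne_zero
    · rw [he]; exact neg_ne_zero.mpr one_ne_zero
  have hψφ : ∀ t : F, ψ t = φ t := by
    intro t
    have := h3 t
    rw [hee] at this
    exact (mul_left_cancel₀ hei0 this).symm
  refine ⟨hψφ, ?_, ?_⟩
  · intro a ha
    have := hstar a ha
    rw [hψφ, map_neg] at this
    exact neg_injective this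
  · intro a ha
    have hm1 : φ (-1) = -1 := by rw [map_neg, hφ1]
    rw [hG_eq_nGel, map_mul, hθn' a ha, hθn' (-1) (neg_ne_zero.mpr one_ne_zero), hm1, ← hG_eq_nGel]

/-- Verbatim check. -/
example (h : Cfsg.Agent.H23.Stb.StRank1.{u}) : Cfsg.Agent.H23.StbD.StPsiG.{u} := psiG h

end Cfsg.Agent.H25.StbD
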