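import Cfsg.Agent.H19.SxDefs

/-!
# SX-COMPA (piece of the EXIST project for S2948 / S2949): from `k` (order 3 mod `C`, inverted
by the involution `a ∈ J` mod `C`) to an element `x` of odd order with `x³ ∈ Q`, inverted by
`a`, with `⟨x⟩Q` normalized by `J`
-/

set_option autoImplicit false
open Cfsg

namespace Cfsg.Agent.H25.Sx

universe u

/-- If `T` is a Sylow 2-subgroup, `C, Q ⊴ X` and `T ⊓ C ≤ Q`, then `c ∈ C` with `c^(2^n) ∈ Q`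
lies in `Q`. -/
theorem mem_of_pow_two_pow_mem {X : Type u} [Group X] [Finite X] (T C Q : Subgroup X)
    (hT : IsPGroup 2 ↥T) (hTi : Odd T.index) (hC : C.Normal) (hQ : Q.Normal) (hTC : T ⊓ C ≤ Q)
    (c : X) (hc : c ∈ C) (n : ℕ) (h : c ^ (2 ^ n) ∈ Q) : c ∈ Q := by
  have hfact : Fact (Nat.Prime 2) := ⟨Nat.prime_two⟩
  obtain ⟨s, r, hr, hsr⟩ := Nat.exists_eq_two_pow_mul_odd (orderOf_pos c).ne'
  have h2 : (c ^ r) ^ (2 ^ s) = 1 := by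
    rw [← pow_mul, mul_comm, ← hsr, pow_orderOf_eq_one]
  have hz : IsPGroup 2 ↥(Subgroup.zpowers (c ^ r)) := by
    have hd : orderOf (c ^ r) ∣ 2 ^ s := orderOf_dvd_of_pow_eq_one h2
    obtain ⟨j, -, hj⟩ := (Nat.dvd_prime_pow Nat.prime_two).mp hd
    exact IsPGroup.of_card (n := j) (by rw [Nat.card_zpowers, hj])
  obtain ⟨P, hP⟩ := hz.exists_le_sylow
  have hidx : ¬ 2 ∣ T.index := by
    rw [← even_iff_two_dvd, Nat.not_even_iff_odd]; exact hTi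
  obtain ⟨g, hg⟩ := MulAction.exists_smul_eq X (hT.toSylow hidx) P
  have h3 : c ^ r ∈ ((g • hT.toSylow hidx : Sylow 2 X) : Subgroup X) := by
    rw [hg]; exact hP (Subgroup.mem_zpowers _)
  rw [Sylow.coe_subgroup_smul, Subgroup.mem_smul_pointwise_iff_exists] at h3
  obtain ⟨t, ht, hts⟩ := h3
  have htT : t ∈ T := by
    rw [IsPGroup.toSylow_coe] at ht
    exact ht
  have hts' : g * t * g⁻¹ = c ^ r := by
    rw [← hts]; simp [MulAut.smul_def, MulAut.conj_apply]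
  have htC : t ∈ C := by
    have e : t = g⁻¹ * (c ^ r) * g⁻¹⁻¹ := by rw [← hts']; group
    rw [e]; exact hC.conj_mem _ (C.pow_mem hc r) g⁻¹
  have hcrQ : c ^ r ∈ Q := by
    rw [← hts']; exact hQ.conj_mem _ (hTC (Subgroup.mem_inf.mpr ⟨htT, htC⟩)) g
  have hcop : Nat.Coprime r (2 ^ n) := Nat.Coprime.pow_right n hr.coprime_two_right
  have hb := Nat.gcd_eq_gcd_ab r (2 ^ n)
  have h5 : c ^ (((Nat.gcd r (2 ^ n) : ℕ)) : ℤ) = c := by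
    rw [hcop.gcd_eq_one]; simp
  rw [hb, zpow_add, zpow_mul, zpow_mul, zpow_natCast, zpow_natCast] at h5
  rw [← h5]
  exact Q.mul_mem (Q.zpow_mem hcrQ _) (Q.zpow_mem h _)

/-- SX-COMPA. -/
theorem compA : Cfsg.Agent.H19.Sx.StCompA.{u} := by
  intro X _ _ T C Q J a k hT hTi hCn hQn hQC hTC hCT hJT haJ haa hkC hk3 hak hJk
  have hf3 : Fact (Nat.Prime 3) := ⟨Nat.prime_three⟩
  have hQmem : ∀ c ∈ C, ∀ n : ℕ, c ^ (2 ^ n) ∈ Q → c ∈ Q :=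
    fun c hc n h => mem_of_pow_two_pow_mem T C Q hT hTi hCn hQn hTC c hc n h
  have hCTQ : ∀ c ∈ C, ∀ h ∈ T, c * h * c⁻¹ * h⁻¹ ∈ Q := by
    intro c hc h hh
    apply hTC
    refine Subgroup.mem_inf.mpr ⟨?_, ?_⟩
    · have h1 : c * h * c⁻¹ ∈ T := (Subgroup.mem_normalizer_iff.mp (hCT hc) h).mp hh
      exact T.mul_mem h1 (T.inv_mem hh)
    · have h2 : h * c⁻¹ * h⁻¹ ∈ C := hCn.conj_mem _ (C.inv_mem hc) h
      have e : c * h * c⁻¹ * h⁻¹ = c * (h * c⁻¹ * h⁻¹) := by group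
      rw [e]; exact C.mul_mem hc h2
  have hainv : a⁻¹ = a := inv_eq_of_mul_eq_one_right haa
  -- images in `X ⧸ C`
  obtain ⟨Kb, hKb⟩ : ∃ Kb : X ⧸ C, Kb = (k : X ⧸ C) := ⟨_, rfl⟩
  obtain ⟨Ab, hAb⟩ : ∃ Ab : X ⧸ C, Ab = (a : X ⧸ C) := ⟨_, rfl⟩
  have hAK : Ab * Kb * Ab⁻¹ = Kb⁻¹ := by
    have h1 : ((a * k * a⁻¹ * k : X) : X ⧸ C) = 1 := (QuotientGroup.eq_one_iff _).mpr hak
    rw [QuotientGroup.mk_mul, QuotientGroup.mk_mul, QuotientGroup.mk_mul, QuotientGroup.mk_inv,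
      ← hKb, ← hAb] at h1
    exact eq_inv_of_mul_eq_one_left h1
  have hK3 : Kb ^ 3 = 1 := by
    rw [hKb, ← QuotientGroup.mk_pow]; exact (QuotientGroup.eq_one_iff _).mpr hk3
  have hK1 : Kb ≠ 1 := by
    rw [hKb]; intro h; exact hkC ((QuotientGroup.eq_one_iff _).mp h)
  -- `k₁ = [k, a]`
  obtain ⟨k₁, hk₁⟩ : ∃ k₁ : X, k₁ = k * a * k⁻¹ * a⁻¹ := ⟨_, rfl⟩
  have hak₁ : a * k₁ * a⁻¹ = k₁⁻¹ := by
    rw [hk₁]
    have e1 : a * (k * a * k⁻¹ * a⁻¹) * a⁻¹ = a * k * a * k⁻¹ * (a * a)⁻¹ := by group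
    have e2 : (k * a * k⁻¹ * a⁻¹)⁻¹ = a * k * a⁻¹ * k⁻¹ := by group
    rw [e1, haa, inv_one, mul_one, e2, hainv]
  have hk₁C : ((k₁ : X) : X ⧸ C) = Kb ^ 2 := by
    rw [hk₁, QuotientGroup.mk_mul, QuotientGroup.mk_mul, QuotientGroup.mk_mul,
      QuotientGroup.mk_inv, QuotientGroup.mk_inv, ← hKb, ← hAb]
    have h1 : Ab * Kb⁻¹ * Ab⁻¹ = Kb := by
      have h2 : Ab * Kb⁻¹ * Ab⁻¹ = (Ab * Kb * Ab⁻¹)⁻¹ := by group
      rw [h2, hAK, inv_inv]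
    calc Kb * Ab * Kb⁻¹ * Ab⁻¹ = Kb * (Ab * Kb⁻¹ * Ab⁻¹) := by group
      _ = Kb ^ 2 := by rw [h1, pow_two]
  have hcC : k₁ ^ 3 ∈ C := by
    rw [← QuotientGroup.eq_one_iff, QuotientGroup.mk_pow, hk₁C, ← pow_mul]
    have e : Kb ^ (2 * 3) = (Kb ^ 3) ^ 2 := by rw [← pow_mul]
    rw [e, hK3, one_pow]
  have hac : a * k₁ ^ 3 * a⁻¹ = (k₁ ^ 3)⁻¹ := by
    rw [← conj_pow, hak₁, inv_pow]
  have hcQ : k₁ ^ 3 ∈ Q := by
    apply hQmem _ hcC 1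
    have h1 := hCTQ (k₁ ^ 3) hcC a (hJT haJ)
    have e : k₁ ^ 3 * a * (k₁ ^ 3)⁻¹ * a⁻¹ = (k₁ ^ 3) ^ (2 ^ 1) := by
      have h2 : a * (k₁ ^ 3)⁻¹ * a⁻¹ = k₁ ^ 3 := by
        have h3 : a * (k₁ ^ 3)⁻¹ * a⁻¹ = (a * k₁ ^ 3 * a⁻¹)⁻¹ := by group
        rw [h3, hac, inv_inv]
      calc k₁ ^ 3 * a * (k₁ ^ 3)⁻¹ * a⁻¹ = k₁ ^ 3 * (a * (k₁ ^ 3)⁻¹ * a⁻¹) := by group
        _ = (k₁ ^ 3) ^ (2 ^ 1) := by rw [h2, pow_one, pow_two]
    rw [← e]; exact h1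
  -- `x`
  obtain ⟨s, r, hr, hsr⟩ := Nat.exists_eq_two_pow_mul_odd (orderOf_pos k₁).ne'
  obtain ⟨x, hx⟩ : ∃ x : X, x = k₁ ^ (2 ^ s) := ⟨_, rfl⟩
  have hxodd : Odd (orderOf x) := by
    have h1 : orderOf (k₁ ^ (2 ^ s)) = orderOf k₁ / 2 ^ s :=
      orderOf_pow_of_dvd (by positivity) (by rw [hsr]; exact dvd_mul_right _ _)
    rw [hx, h1, hsr, Nat.mul_div_cancel_left _ (by positivity)]
    exact hr
  have hxC : x ∉ C := by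
    intro h
    have h1 : ((x : X) : X ⧸ C) = 1 := (QuotientGroup.eq_one_iff _).mpr h
    rw [hx, QuotientGroup.mk_pow, hk₁C, ← pow_mul] at h1
    have h2 : orderOf Kb = 3 := orderOf_eq_prime hK3 hK1
    have h3 : 3 ∣ 2 * 2 ^ s := by rw [← h2]; exact orderOf_dvd_of_pow_eq_one h1
    have h4 : 3 ∣ 2 ^ (s + 1) := by rw [pow_succ, mul_comm]; exact h3
    have h5 := Nat.Prime.dvd_of_dvd_pow Nat.prime_three h4
    omega
  have hx3 : x ^ 3 ∈ Q := by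
    have e : x ^ 3 = (k₁ ^ 3) ^ (2 ^ s) := by rw [hx, ← pow_mul, ← pow_mul, mul_comm]
    rw [e]; exact Q.pow_mem hcQ _
  have hax : a * x * a⁻¹ = x⁻¹ := by
    rw [hx, ← conj_pow, hak₁, inv_pow]
  have hxk : x ∈ Subgroup.zpowers k ⊔ C := by
    have h1 : k₁ * (k ^ 2)⁻¹ ∈ C := by
      rw [← QuotientGroup.eq_one_iff, QuotientGroup.mk_mul, QuotientGroup.mk_inv,
        QuotientGroup.mk_pow, hk₁C, ← hKb, mul_inv_cancel]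
    have h2 : k₁ ∈ Subgroup.zpowers k ⊔ C := by
      have e : k₁ = (k₁ * (k ^ 2)⁻¹) * k ^ 2 := by group
      rw [e]
      exact Subgroup.mul_mem _ (Subgroup.mem_sup_right h1)
        (Subgroup.mem_sup_left (Subgroup.pow_mem _ (Subgroup.mem_zpowers k) 2))
    rw [hx]; exact Subgroup.pow_mem _ h2 _
  -- key lemma
  have hKL : ∀ h ∈ T, (h : X ⧸ C) * Kb * (h : X ⧸ C)⁻¹ = Kb → h * x * h⁻¹ * x⁻¹ ∈ Q := by
    intro h hhT hhK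
    have hc' : h * k₁ * h⁻¹ * k₁⁻¹ ∈ C := by
      rw [← QuotientGroup.eq_one_iff, QuotientGroup.mk_mul, QuotientGroup.mk_mul,
        QuotientGroup.mk_mul, QuotientGroup.mk_inv, QuotientGroup.mk_inv, hk₁C]
      have e : (h : X ⧸ C) * Kb ^ 2 * (h : X ⧸ C)⁻¹ =
          ((h : X ⧸ C) * Kb * (h : X ⧸ C)⁻¹) ^ 2 := by rw [conj_pow]
      rw [e, hhK, mul_inv_cancel]
    obtain ⟨Hq, hHq⟩ : ∃ Hq : X ⧸ Q, Hq = (h : X ⧸ Q) := ⟨_, rfl⟩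
    obtain ⟨Kq, hKq⟩ : ∃ Kq : X ⧸ Q, Kq = (k₁ : X ⧸ Q) := ⟨_, rfl⟩
    obtain ⟨Cq, hCq⟩ : ∃ Cq : X ⧸ Q, Cq = ((h * k₁ * h⁻¹ * k₁⁻¹ : X) : X ⧸ Q) := ⟨_, rfl⟩
    have hconj : Hq * Kq * Hq⁻¹ = Cq * Kq := by
      rw [hHq, hKq, hCq, QuotientGroup.mk_mul, QuotientGroup.mk_mul, QuotientGroup.mk_mul,
        QuotientGroup.mk_inv, QuotientGroup.mk_inv]
      group
    have hcomm : Commute Hq Cq := by
      have h1 := hCTQ _ hc' h hhT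
      have h2 : (((h * k₁ * h⁻¹ * k₁⁻¹) * h * (h * k₁ * h⁻¹ * k₁⁻¹)⁻¹ * h⁻¹ : X) : X ⧸ Q) = 1 :=
        (QuotientGroup.eq_one_iff _).mpr h1
      rw [QuotientGroup.mk_mul, QuotientGroup.mk_mul, QuotientGroup.mk_mul, QuotientGroup.mk_inv,
        QuotientGroup.mk_inv, ← hCq, ← hHq] at h2
      have h3 : Cq * Hq = Hq * Cq := by
        have h4 := congrArg (fun z => z * Hq * Cq) h2
        simpa [mul_assoc] using h4
      exact h3.symm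
    have hpow : ∀ m : ℕ, Hq ^ m * Kq * (Hq ^ m)⁻¹ = Cq ^ m * Kq := by
      intro m
      induction m with
      | zero => simp
      | succ m ih =>
        have e : Hq ^ (m + 1) * Kq * (Hq ^ (m + 1))⁻¹ =
            Hq * (Hq ^ m * Kq * (Hq ^ m)⁻¹) * Hq⁻¹ := by
          rw [pow_succ']; group
        have e2 : Hq * (Cq ^ m * Kq) * Hq⁻¹ = (Hq * Cq ^ m * Hq⁻¹) * (Hq * Kq * Hq⁻¹) := by
          group
        have e3 : Hq * Cq ^ m * Hq⁻¹ = Cq ^ m := by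
          rw [(hcomm.pow_right m).eq]; group
        rw [e, ih, e2, hconj, e3, pow_succ, mul_assoc]
    obtain ⟨n, hn⟩ := hT ⟨h, hhT⟩
    have hhn : h ^ (2 ^ n) = 1 := by
      have h2 := congrArg Subtype.val hn
      simpa using h2
    have hHn : Hq ^ (2 ^ n) = 1 := by
      rw [hHq, ← QuotientGroup.mk_pow, hhn]; rfl
    have hCn1 : Cq ^ (2 ^ n) = 1 := by
      have h1 := hpow (2 ^ n)
      rw [hHn, one_mul, inv_one, mul_one] at h1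
      exact (mul_eq_right.mp h1.symm)
    have hc'Q : h * k₁ * h⁻¹ * k₁⁻¹ ∈ Q := by
      apply hQmem _ hc' n
      rw [← QuotientGroup.eq_one_iff, QuotientGroup.mk_pow, ← hCq]
      exact hCn1
    have hCq1 : Cq = 1 := by rw [hCq]; exact (QuotientGroup.eq_one_iff _).mpr hc'Q
    have hHK : Hq * Kq * Hq⁻¹ = Kq := by rw [hconj, hCq1, one_mul]
    rw [← QuotientGroup.eq_one_iff, QuotientGroup.mk_mul, QuotientGroup.mk_mul,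
      QuotientGroup.mk_mul, QuotientGroup.mk_inv, QuotientGroup.mk_inv, hx, QuotientGroup.mk_pow,
      ← hHq, ← hKq]
    have e : Hq * Kq ^ (2 ^ s) * Hq⁻¹ = (Hq * Kq * Hq⁻¹) ^ (2 ^ s) := by rw [conj_pow]
    rw [e, hHK, mul_inv_cancel]
  refine ⟨x, hxodd, hxC, hx3, hax, hxk, ?_⟩
  intro g hg
  have hmem : ∀ h : X, h * x * h⁻¹ * x⁻¹ ∈ Q → h * x * h⁻¹ ∈ Subgroup.zpowers x ⊔ Q := by
    intro h hh
    have e : h * x * h⁻¹ = (h * x * h⁻¹ * x⁻¹) * x := by group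
    rw [e]
    exact Subgroup.mul_mem _ (Subgroup.mem_sup_right hh)
      (Subgroup.mem_sup_left (Subgroup.mem_zpowers x))
  rcases hJk g hg with h1 | h1
  · apply hmem
    apply hKL g (hJT hg)
    have h2 : ((g * k * g⁻¹ * k⁻¹ : X) : X ⧸ C) = 1 := (QuotientGroup.eq_one_iff _).mpr h1
    rw [QuotientGroup.mk_mul, QuotientGroup.mk_mul, QuotientGroup.mk_mul, QuotientGroup.mk_inv,
      QuotientGroup.mk_inv, ← hKb] at h2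
    exact mul_inv_eq_one.mp h2
  · have h2 : ((g * k * g⁻¹ * k : X) : X ⧸ C) = 1 := (QuotientGroup.eq_one_iff _).mpr h1
    rw [QuotientGroup.mk_mul, QuotientGroup.mk_mul, QuotientGroup.mk_mul, QuotientGroup.mk_inv,
      ← hKb] at h2
    have h3 : (g : X ⧸ C) * Kb * (g : X ⧸ C)⁻¹ = Kb⁻¹ := eq_inv_of_mul_eq_one_left h2
    have h4 : ((g * a : X) : X ⧸ C) * Kb * ((g * a : X) : X ⧸ C)⁻¹ = Kb := by
      rw [QuotientGroup.mk_mul, ← hAb]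
      have e : (g : X ⧸ C) * Ab * Kb * ((g : X ⧸ C) * Ab)⁻¹ =
          (g : X ⧸ C) * (Ab * Kb * Ab⁻¹) * (g : X ⧸ C)⁻¹ := by group
      have e2 : (g : X ⧸ C) * Kb⁻¹ * (g : X ⧸ C)⁻¹ =
          ((g : X ⧸ C) * Kb * (g : X ⧸ C)⁻¹)⁻¹ := by group
      rw [e, hAK, e2, h3, inv_inv]
    have h5 := hKL (g * a) (T.mul_mem (hJT hg) (hJT haJ)) h4
    have h6 := hmem (g * a) h5
    have e : g * x * g⁻¹ = ((g * a) * x * (g * a)⁻¹)⁻¹ := by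
      have e1 : ((g * a) * x * (g * a)⁻¹)⁻¹ = g * (a * x * a⁻¹)⁻¹ * g⁻¹ := by group
      rw [e1, hax, inv_inv]
    rw [e]
    exact Subgroup.inv_mem _ h6

example : ∀ {X : Type u} [Group X] [Finite X] (T C Q J : Subgroup X) (a k : X),
  IsPGroup 2 ↥T → Odd T.index → C.Normal → Q.Normal → Q ≤ C → T ⊓ C ≤ Q →
  C ≤ Subgroup.normalizer (T : Set X) → J ≤ T → a ∈ J → a * a = 1 →
  k ∉ C → k ^ 3 ∈ C → a * k * a⁻¹ * k ∈ C →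
  (∀ g ∈ J, g * k * g⁻¹ * k⁻¹ ∈ C ∨ g * k * g⁻¹ * k ∈ C) →
  ∃ x : X, Odd (orderOf x) ∧ x ∉ C ∧ x ^ 3 ∈ Q ∧ a * x * a⁻¹ = x⁻¹ ∧
    x ∈ Subgroup.zpowers k ⊔ C ∧
    ∀ g ∈ J, g * x * g⁻¹ ∈ Subgroup.zpowers x ⊔ Q := compA

end Cfsg.Agent.H25.Sx
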