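import Cfsg.Agent.H4.TnDefs

/-!
# TN-COUNT (helper25, for helper4, S3805)

`|S₁^G| = |G|/3`, from a generic fibre count for TI-sets.
-/

set_option autoImplicit false

namespace Cfsg.Agent.H25.Tn

open Subgroup Cfsg.Agent.H4.Tn

universe u v

/-- Generic fibre count: if `A` is an `N`-invariant TI-set (every `x` moving some element of `A`
into `A` lies in `N`), then the union of the translates of `A` has `|G|·|A|/|N|` elements. -/
theorem fibre_count {G : Type u} [Group G] {Ω : Type v} (act : G → Ω → Ω)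
    (h1 : ∀ ω, act 1 ω = ω) (hm : ∀ x y ω, act (x * y) ω = act x (act y ω))
    (N : Subgroup G) (A : Set Ω)
    (hinv : ∀ n ∈ N, ∀ s ∈ A, act n s ∈ A)
    (hTI : ∀ s ∈ A, ∀ x : G, act x s ∈ A → x ∈ N) :
    Nat.card {ω : Ω // ∃ x : G, act x ω ∈ A} * Nat.card N = Nat.card G * Nat.card A := by
  classical
  rw [← Nat.card_prod, ← Nat.card_prod]
  have hch : ∀ ω : {ω : Ω // ∃ x : G, act x ω ∈ A}, ∃ x : G, act x ω.1 ∈ A := fun ω => ω.2
  choose c hc using hch
  refine Nat.card_congr (Equiv.ofBijective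
    (fun p : {ω : Ω // ∃ x : G, act x ω ∈ A} × N =>
      (((p.2 : G) * c p.1, (⟨act ((p.2 : G) * c p.1) p.1.1, by
          rw [hm]; exact hinv _ p.2.2 _ (hc p.1)⟩ : A)) : G × A)) ⟨?_, ?_⟩)
  · rintro ⟨ω, n⟩ ⟨ω', n'⟩ h
    simp only [Prod.mk.injEq, Subtype.mk.injEq] at h
    obtain ⟨hX, hs⟩ := h
    have hω : ω = ω' := by
      apply Subtype.ext
      have := congrArg (act ((n : G) * c ω)⁻¹) hs
      rw [← hm, inv_mul_cancel, h1, hX, ← hm, inv_mul_cancel, h1] at this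
      exact this
    subst hω
    have : (n : G) = n' := mul_right_cancel hX
    rw [Subtype.ext this]
  · rintro ⟨X, s⟩
    have hg : ∃ x : G, act x (act X⁻¹ s.1) ∈ A :=
      ⟨X, by rw [← hm, mul_inv_cancel, h1]; exact s.2⟩
    obtain ⟨ω, hω⟩ : ∃ ω : {ω : Ω // ∃ x : G, act x ω ∈ A}, ω.1 = act X⁻¹ s.1 :=
      ⟨⟨act X⁻¹ s.1, hg⟩, rfl⟩
    have hn : X * (c ω)⁻¹ ∈ N := by
      apply hTI _ (hc ω)
      rw [← hm, inv_mul_cancel_right, hω, ← hm, mul_inv_cancel, h1]
      exact s.2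
    refine ⟨(ω, ⟨X * (c ω)⁻¹, hn⟩), ?_⟩
    apply Prod.ext
    · show X * (c ω)⁻¹ * c ω = X
      rw [inv_mul_cancel_right]
    · apply Subtype.ext
      show act (X * (c ω)⁻¹ * c ω) ω.1 = s.1
      rw [inv_mul_cancel_right, hω, ← hm, mul_inv_cancel, h1]

theorem count (hS : StS1.{u}) (hTI : StTI.{u}) : StCount.{u} := by
  intro G _ _ T a b u v cfg
  obtain ⟨-, hinv, -, -, hcard⟩ := hS G T a b u v cfg
  have hti := hTI G T a b u v cfg
  have key : Nat.card (S1G a b u) * Nat.card (normalizer (T : Set G)) =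
      Nat.card G * Nat.card (S1 a b u) :=
    fibre_count (fun x g => x * g * x⁻¹) (fun g => by simp)
      (fun x y g => by simp [mul_assoc]) (normalizer (T : Set G)) (S1 a b u)
      (fun n hn s hs => hinv n hn s hs) (fun s hs x hx => hti s hs x hx)
  rw [cfg.cardN, hcard] at key
  omega

/-- Verbatim check. -/
example (hS : Cfsg.Agent.H4.Tn.StS1.{u}) (hTI : Cfsg.Agent.H4.Tn.StTI.{u}) :
    Cfsg.Agent.H4.Tn.StCount.{u} := count hS hTI

end Cfsg.Agent.H25.Tn
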