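import Cfsg.Agent.H9.XPAbs

/-!
# XP-R3 (piece of S5746): a subgroup of index 100 with suborbits 36 and 63 is maximal
-/

set_option autoImplicit false

namespace Cfsg.Agent.H25.XP

/-- XP-R3. -/
theorem r3 : Cfsg.Agent.H9.XP.StR3 := by
  intro G _ _ H hidx ⟨c₁, c₂, h36, h63⟩
  have hcardX : Nat.card (G ⧸ H) = 100 := hidx
  refine ⟨?_, ?_⟩
  · intro htop
    rw [htop, Subgroup.index_top] at hidx
    exact absurd hidx (by norm_num)
  intro K hHK
  have hle : H ≤ K := hHK.le
  -- the base point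
  obtain ⟨a, ha⟩ : ∃ a : G ⧸ H, a = ((1 : G) : G ⧸ H) := ⟨_, rfl⟩
  -- the set of cosets inside `K`
  obtain ⟨A, hA⟩ : ∃ A : Set (G ⧸ H), A = MulAction.orbit ↥K a := ⟨_, rfl⟩
  have hmemA : ∀ g : G, ((g : G) : G ⧸ H) ∈ A ↔ g ∈ K := by
    intro g
    rw [hA, ha]
    constructor
    · rintro ⟨⟨k, hk⟩, e⟩
      have e' : ((k * 1 : G) : G ⧸ H) = (g : G ⧸ H) := e
      rw [mul_one, QuotientGroup.eq] at e'
      have h1 : k * (k⁻¹ * g) ∈ K := K.mul_mem hk (hle e')
      rwa [mul_inv_cancel_left] at h1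
    · intro hg
      refine ⟨⟨g, hg⟩, ?_⟩
      change ((g * 1 : G) : G ⧸ H) = _
      rw [mul_one]
  have haA : a ∈ A := by
    rw [ha, hmemA]; exact K.one_mem
  -- `|A| = |K : H|`
  have hstab : MulAction.stabilizer ↥K a = H.subgroupOf K := by
    ext ⟨k, hk⟩
    rw [MulAction.mem_stabilizer_iff, Subgroup.mem_subgroupOf, ha]
    change ((k * 1 : G) : G ⧸ H) = _ ↔ _
    rw [mul_one, eq_comm, QuotientGroup.eq, inv_one, one_mul]
  have hAcard : A.ncard = H.relIndex K := by
    rw [hA, ← MulAction.index_stabilizer, hstab]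
    rfl
  have hmul : H.relIndex K * K.index = 100 := by
    rw [Subgroup.relIndex_mul_index hle, hidx]
  have hne1 : H.relIndex K ≠ 1 := by
    intro h1
    rw [Subgroup.relIndex_eq_one] at h1
    exact absurd h1 (not_le_of_gt hHK)
  -- `A` is `H`-invariant
  have hinv : ∀ (h : ↥H) (c : G ⧸ H), h • c ∈ A ↔ c ∈ A := by
    intro h c
    induction c using QuotientGroup.induction_on with
    | H g =>
      have e : h • ((g : G) : G ⧸ H) = (((h : G) * g : G) : G ⧸ H) := rfl
      rw [e, hmemA, hmemA]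
      constructor
      · intro h1
        have h2 : (h : G)⁻¹ * ((h : G) * g) ∈ K := K.mul_mem (K.inv_mem (hle h.2)) h1
        rwa [inv_mul_cancel_left] at h2
      · intro h1
        exact K.mul_mem (hle h.2) h1
  have horb_sub : ∀ c : G ⧸ H, c ∈ A → MulAction.orbit ↥H c ⊆ A := by
    rintro c hc _ ⟨h, rfl⟩
    exact (hinv h c).mpr hc
  have horb_disj : ∀ c : G ⧸ H, c ∉ A → ∀ x ∈ MulAction.orbit ↥H c, x ∉ A := by
    rintro c hc _ ⟨h, rfl⟩ hx
    exact hc ((hinv h c).mp hx)
  -- the orbit of the base point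
  have hbase : ∀ x ∈ MulAction.orbit ↥H a, x = a := by
    rintro _ ⟨h, rfl⟩
    rw [ha]
    change (((h : G) * 1 : G) : G ⧸ H) = _
    rw [mul_one, QuotientGroup.eq, mul_one]
    exact H.inv_mem h.2
  have ha1 : a ∉ MulAction.orbit ↥H c₁ := by
    intro h1
    have h2 : MulAction.orbit ↥H c₁ = MulAction.orbit ↥H a :=
      (MulAction.orbit_eq_iff.mpr h1).symm
    have h3 : MulAction.orbit ↥H a ⊆ {a} := fun x hx => hbase x hx
    have h4 := Set.ncard_le_ncard h3 (Set.toFinite _)
    rw [← h2, h36, Set.ncard_singleton] at h4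
    omega
  have ha2 : a ∉ MulAction.orbit ↥H c₂ := by
    intro h1
    have h2 : MulAction.orbit ↥H c₂ = MulAction.orbit ↥H a :=
      (MulAction.orbit_eq_iff.mpr h1).symm
    have h3 : MulAction.orbit ↥H a ⊆ {a} := fun x hx => hbase x hx
    have h4 := Set.ncard_le_ncard h3 (Set.toFinite _)
    rw [← h2, h63, Set.ncard_singleton] at h4
    omega
  have h12 : Disjoint (MulAction.orbit ↥H c₁) (MulAction.orbit ↥H c₂) := by
    rw [Set.disjoint_left]
    intro x hx1 hx2
    have e1 : MulAction.orbit ↥H x = MulAction.orbit ↥H c₁ := MulAction.orbit_eq_iff.mpr hx1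
    have e2 : MulAction.orbit ↥H x = MulAction.orbit ↥H c₂ := MulAction.orbit_eq_iff.mpr hx2
    have e3 := congrArg Set.ncard (e1.symm.trans e2)
    rw [h36, h63] at e3
    omega
  -- the three orbits exhaust `G ⧸ H`
  have hd1 : Disjoint ({a} : Set (G ⧸ H)) (MulAction.orbit ↥H c₁) :=
    Set.disjoint_singleton_left.mpr ha1
  have hd2 : Disjoint (({a} : Set (G ⧸ H)) ∪ MulAction.orbit ↥H c₁) (MulAction.orbit ↥H c₂) :=
    Set.disjoint_union_left.mpr ⟨Set.disjoint_singleton_left.mpr ha2, h12⟩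
  have hc1 : (({a} : Set (G ⧸ H)) ∪ MulAction.orbit ↥H c₁).ncard = 37 := by
    rw [Set.ncard_union_eq hd1 (Set.toFinite _) (Set.toFinite _), Set.ncard_singleton, h36]
  have hc2 : (({a} : Set (G ⧸ H)) ∪ MulAction.orbit ↥H c₁ ∪ MulAction.orbit ↥H c₂).ncard = 100 := by
    rw [Set.ncard_union_eq hd2 (Set.toFinite _) (Set.toFinite _), hc1, h63]
  have hc3 : (({a} : Set (G ⧸ H)) ∪ MulAction.orbit ↥H c₂).ncard = 64 := by
    rw [Set.ncard_union_eq (Set.disjoint_singleton_left.mpr ha2) (Set.toFinite _)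
      (Set.toFinite _), Set.ncard_singleton, h63]
  have huniv : (({a} : Set (G ⧸ H)) ∪ MulAction.orbit ↥H c₁ ∪ MulAction.orbit ↥H c₂) = Set.univ := by
    apply Set.eq_of_subset_of_ncard_le (Set.subset_univ _) _ (Set.toFinite _)
    rw [hc2, Set.ncard_univ, hcardX]
  have hcases : ∀ x : G ⧸ H, x = a ∨ x ∈ MulAction.orbit ↥H c₁ ∨ x ∈ MulAction.orbit ↥H c₂ := by
    intro x
    have hx : x ∈ (({a} : Set (G ⧸ H)) ∪ MulAction.orbit ↥H c₁ ∪ MulAction.orbit ↥H c₂) := by
      rw [huniv]; exact Set.mem_univ x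
    rcases hx with (hx | hx) | hx
    · exact Or.inl hx
    · exact Or.inr (Or.inl hx)
    · exact Or.inr (Or.inr hx)
  -- the four cases
  have hidx1 : K.index = 1 := by
    by_cases hc₁ : c₁ ∈ A <;> by_cases hc₂ : c₂ ∈ A
    · -- `A` is everything
      have hAeq : A = Set.univ := by
        rw [Set.eq_univ_iff_forall]
        intro x
        rcases hcases x with hx | hx | hx
        · rw [hx]; exact haA
        · exact horb_sub c₁ hc₁ hx
        · exact horb_sub c₂ hc₂ hx
      rw [hAeq, Set.ncard_univ, hcardX] at hAcard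
      rw [← hAcard] at hmul
      omega
    · have hAeq : A = ({a} : Set (G ⧸ H)) ∪ MulAction.orbit ↥H c₁ := by
        ext x
        constructor
        · intro hxA
          rcases hcases x with hx | hx | hx
          · exact Or.inl hx
          · exact Or.inr hx
          · exact absurd hxA (horb_disj c₂ hc₂ x hx)
        · rintro (hx | hx)
          · rw [Set.mem_singleton_iff.mp hx]; exact haA
          · exact horb_sub c₁ hc₁ hx
      rw [hAeq, hc1] at hAcard
      rw [← hAcard] at hmul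
      omega
    · have hAeq : A = ({a} : Set (G ⧸ H)) ∪ MulAction.orbit ↥H c₂ := by
        ext x
        constructor
        · intro hxA
          rcases hcases x with hx | hx | hx
          · exact Or.inl hx
          · exact absurd hxA (horb_disj c₁ hc₁ x hx)
          · exact Or.inr hx
        · rintro (hx | hx)
          · rw [Set.mem_singleton_iff.mp hx]; exact haA
          · exact horb_sub c₂ hc₂ hx
      rw [hAeq, hc3] at hAcard
      rw [← hAcard] at hmul
      omega
    · have hAeq : A = ({a} : Set (G ⧸ H)) := by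
        ext x
        constructor
        · intro hxA
          rcases hcases x with hx | hx | hx
          · exact hx
          · exact absurd hxA (horb_disj c₁ hc₁ x hx)
          · exact absurd hxA (horb_disj c₂ hc₂ x hx)
        · intro hx
          rw [Set.mem_singleton_iff.mp hx]; exact haA
      rw [hAeq, Set.ncard_singleton] at hAcard
      exact absurd hAcard.symm hne1
  exact Subgroup.index_eq_one.mp hidx1

example : ∀ (G : Type) [Group G] [Finite G] (H : Subgroup G), H.index = 100 →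
    (∃ c₁ c₂ : G ⧸ H, (MulAction.orbit ↥H c₁).ncard = 36 ∧ (MulAction.orbit ↥H c₂).ncard = 63) →
    IsCoatom H := r3

end Cfsg.Agent.H25.XP
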